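import Mathlib
import Cfsg.Prelude.Def_Local
import Cfsg.Prelude.Def_CaseTheorems
import Cfsg.Agent.Lib.Perm.SectionalTwo

/-!
# A two-group below a simple group of order 168: tools

The quotient by the core is simple of order 168 and the sectional rank is at most four.
-/

set_option autoImplicit false
set_option linter.style.haveILetI false

open Subgroup
open scoped commutatorElement

namespace Cfsg.Agent.Lie.ConstrainedLTwo

universe u

variable {X : Type u} [Group X] [Finite X]

/-- A normal two-subgroup with simple quotient of order 168 in a group of sectional rank at most four. -/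
structure Top (X : Type u) [Group X] (R : Subgroup X) [R.Normal] : Prop where
  twoGroup : IsPGroup 2 R
  simple : IsSimpleGroup (X ⧸ R)
  card : Nat.card (X ⧸ R) = 168
  rank : Cfsg.SectionalPRankLE 2 4 X

/-- No section is elementary abelian of order more than sixteen. -/
theorem section_absurd (h : Cfsg.SectionalPRankLE 2 4 X) (H M : Subgroup X) (S : Set X)
    (hH : H = closure S) (hMH : M ≤ H) (hcen : ∀ s ∈ S, ∀ m ∈ M, s * m = m * s)
    (hsq : ∀ s ∈ S, s * s ∈ M) (hcom : ∀ s ∈ S, ∀ t ∈ S, ⁅s, t⁆ ∈ M)
    (hcard : 16 * Nat.card M < Nat.card H) : False := by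
  have hHc : ∀ y ∈ H, ∀ m ∈ M, y * m = m * y := by
    intro y hy m hm
    have : H ≤ centralizer ({m} : Set X) := by
      rw [hH, closure_le]
      intro s hs
      exact mem_centralizer_singleton_iff.2 (hcen s hs m hm)
    exact mem_centralizer_singleton_iff.1 (this hy)
  haveI : (M.subgroupOf H).Normal := by
    refine ⟨fun m hm y => ?_⟩
    rw [mem_subgroupOf] at hm ⊢
    have := hHc (y : X) y.2 (m : X) hm
    rw [Subgroup.coe_mul, Subgroup.coe_mul, Subgroup.coe_inv, this, mul_inv_cancel_right]
    exact hm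
  let π := QuotientGroup.mk' (M.subgroupOf H)
  have hSH : ∀ s ∈ S, s ∈ H := fun s hs => hH ▸ subset_closure hs
  have hgen : closure ((fun s : {s : X // s ∈ S} => π ⟨s.1, hSH s.1 s.2⟩) '' Set.univ) = ⊤ := by
    rw [eq_top_iff]
    rintro q -
    obtain ⟨⟨y, hy⟩, rfl⟩ := QuotientGroup.mk'_surjective _ q
    have key : H ≤ ((closure ((fun s : {s : X // s ∈ S} => π ⟨s.1, hSH s.1 s.2⟩) '' Set.univ)).comap π).map
        H.subtype := by
      conv_lhs => rw [hH]
      rw [closure_le]
      intro s hs
      exact ⟨⟨s, hSH s hs⟩, subset_closure ⟨⟨s, hs⟩, trivial, rfl⟩, rfl⟩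
    obtain ⟨⟨y', hy'⟩, hmem, rfl⟩ := key hy
    exact hmem
  have hcomm : ∀ a b : ↥H ⧸ M.subgroupOf H, a * b = b * a := by
    have hab : IsMulCommutative ↥(closure
        ((fun s : {s : X // s ∈ S} => π ⟨s.1, hSH s.1 s.2⟩) '' Set.univ)) := by
      refine isMulCommutative_closure ?_
      rintro _ ⟨s, -, rfl⟩ _ ⟨t, -, rfl⟩
      show π _ * π _ = π _ * π _
      rw [← commutatorElement_eq_one_iff_mul_comm, ← map_commutatorElement]
      exact (QuotientGroup.eq_one_iff _).2 (mem_subgroupOf.2 (hcom _ s.2 _ t.2))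
    intro a b
    exact congrArg Subtype.val (hab.is_comm.comm ⟨a, hgen ▸ mem_top a⟩ ⟨b, hgen ▸ mem_top b⟩)
  have hexp : ∀ q : ↥H ⧸ M.subgroupOf H, q ^ 2 = 1 := by
    intro q
    have hq : q ∈ closure ((fun s : {s : X // s ∈ S} => π ⟨s.1, hSH s.1 s.2⟩) '' Set.univ) :=
      hgen ▸ mem_top q
    induction hq using closure_induction with
    | mem x hx =>
      obtain ⟨s, -, rfl⟩ := hx
      rw [pow_two]
      exact (QuotientGroup.eq_one_iff _).2 (mem_subgroupOf.2 (hsq _ s.2))
    | one => exact one_pow 2
    | mul a b _ _ ha hb => rw [Commute.mul_pow (hcomm a b), ha, hb, one_mul]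
    | inv a _ ha => rw [inv_pow, ha, inv_one]
  have h1 := h H (M.subgroupOf H) ⊤ ⟨⟨fun a b => Subtype.ext (hcomm a b)⟩⟩ fun a _ => hexp a
  rw [card_top] at h1
  have h2 := (M.subgroupOf H).card_eq_card_quotient_mul_card_subgroup
  rw [Nat.card_congr (subgroupOfEquivOfLe hMH).toEquiv] at h2
  have h3 : Nat.card (↥H ⧸ M.subgroupOf H) * Nat.card M ≤ 2 ^ 4 * Nat.card M :=
    Nat.mul_le_mul_right _ h1
  omega

/-- An elementary abelian subgroup has order at most sixteen. -/
theorem elementary_le (h : Cfsg.SectionalPRankLE 2 4 X) (E : Subgroup X)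
    (hsq : ∀ a ∈ E, a * a = 1) : Nat.card E ≤ 16 := by
  refine Perm.SectionalTwo.rank_le h E ⟨⟨fun a b => Subtype.ext ?_⟩⟩ fun a ha => by rw [pow_two]; exact hsq a ha
  show (a : X) * b = b * a
  calc (a : X) * b = ((a : X) * b)⁻¹ :=
        (inv_eq_of_mul_eq_one_right (hsq _ (E.mul_mem a.2 b.2))).symm
    _ = (b : X) * a := by
      rw [mul_inv_rev, inv_eq_of_mul_eq_one_right (hsq a a.2), inv_eq_of_mul_eq_one_right (hsq b b.2)]

variable {R : Subgroup X} [R.Normal]

/-- A normal subgroup above the core is the core or everything. -/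
theorem Top.eq_or_top (T : Top X R) (K : Subgroup X) [hK : K.Normal] (hRK : R ≤ K) : K = R ∨ K = ⊤ := by
  haveI := T.simple
  haveI : (K.map (QuotientGroup.mk' R)).Normal := Normal.map hK _ (QuotientGroup.mk'_surjective R)
  have hback : (K.map (QuotientGroup.mk' R)).comap (QuotientGroup.mk' R) = K := by
    rw [comap_map_eq, QuotientGroup.ker_mk', sup_eq_left.2 hRK]
  rcases IsSimpleGroup.eq_bot_or_eq_top_of_normal (K.map (QuotientGroup.mk' R)) inferInstance with h | h
  · left; rw [← hback, h, MonoidHom.comap_bot, QuotientGroup.ker_mk']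
  · right; rw [← hback, h, comap_top]

/-- The quotient is not commutative. -/
theorem Top.exists_noncomm (T : Top X R) : ∃ a b : X, ⁅a, b⁆ ∉ R := by
  haveI := T.simple
  by_contra hne
  push Not at hne
  have hc : ∀ a b : X ⧸ R, a * b = b * a := by
    intro a b
    induction a using QuotientGroup.induction_on with | _ a
    induction b using QuotientGroup.induction_on with | _ b
    rw [← commutatorElement_eq_one_iff_mul_comm, ← QuotientGroup.mk'_apply, ← QuotientGroup.mk'_apply,
      ← map_commutatorElement, QuotientGroup.mk'_apply, QuotientGroup.eq_one_iff]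
    exact hne a b
  letI : CommGroup (X ⧸ R) := { (inferInstance : Group (X ⧸ R)) with mul_comm := hc }
  have hp := IsSimpleGroup.prime_card (α := X ⧸ R)
  rw [T.card] at hp
  norm_num at hp

/-- A map to a commutative group that is trivial on the core is trivial. -/
theorem Top.hom_trivial (T : Top X R) {C : Type*} [CommGroup C] (f : X →* C) (hR : ∀ r ∈ R, f r = 1)
    (x : X) : f x = 1 := by
  rcases T.eq_or_top f.ker (fun r hr => f.mem_ker.2 (hR r hr)) with h | h
  · obtain ⟨a, b, hab⟩ := T.exists_noncomm
    refine absurd ?_ hab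
    rw [← h, f.mem_ker, map_commutatorElement, commutatorElement_eq_one_iff_mul_comm, mul_comm]
  · exact f.mem_ker.1 (h ▸ mem_top x)

section Act

variable {α : Type*} [MulAction X α] [Finite α]

/-- An orbit with trivial action of the core has one point or at least seven. -/
theorem Top.orbit_small (T : Top X R) (hR : ∀ r ∈ R, ∀ a : α, r • a = a) (a : α)
    (h7 : Nat.card (MulAction.orbit X a) < 7) (x : X) : x • a = a := by
  let φ := MulAction.toPermHom X (MulAction.orbit X a)
  rcases T.eq_or_top φ.ker (fun r hr => φ.mem_ker.2 (Equiv.ext fun b => Subtype.ext (hR r hr b.1))) with h | h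
  · exfalso
    have h1 : 168 ∣ Nat.card (Equiv.Perm (MulAction.orbit X a)) := by
      have e : Nat.card (X ⧸ φ.ker) = 168 := by
        rw [Nat.card_congr (QuotientGroup.quotientMulEquivOfEq h).toEquiv, T.card]
      rw [← e, Nat.card_congr (QuotientGroup.quotientKerEquivRange φ).toEquiv]
      exact card_subgroup_dvd_card _
    rw [Nat.card_perm] at h1
    revert h1
    interval_cases Nat.card (MulAction.orbit X a) <;> decide
  · have := Equiv.ext_iff.1 (φ.mem_ker.1 (h ▸ mem_top x)) ⟨a, MulAction.mem_orbit_self a⟩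
    exact congrArg Subtype.val this

/-- An action on eight points in which an involution modulo the core fixes a point has a fixed point. -/
theorem Top.exists_fixed (T : Top X R) (h8 : Nat.card α = 8) (hR : ∀ r ∈ R, ∀ a : α, r • a = a)
    (g : X) (hg : g ∉ R) (hg2 : g * g ∈ R) (a : α) (hga : g • a = a) : ∃ b : α, ∀ x : X, x • b = b := by
  by_cases hs : Nat.card (MulAction.orbit X a) < 7
  · exact ⟨a, T.orbit_small hR a hs⟩
  have hle : Nat.card (MulAction.orbit X a) ≤ 8 :=
    h8 ▸ Nat.card_le_card_of_injective _ Subtype.val_injective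
  rcases (show Nat.card (MulAction.orbit X a) = 8 ∨ Nat.card (MulAction.orbit X a) = 7 by omega) with hc | hc
  · exfalso
    set S := MulAction.stabilizer X a with hS
    have hRS : R ≤ S := fun r hr => MulAction.mem_stabilizer_iff.2 (hR r hr a)
    have hidx : S.index = 8 := by
      rw [hS, MulAction.index_stabilizer, ← Nat.card_coe_set_eq, hc]
    have h1 := (S.map (QuotientGroup.mk' R)).card_mul_index
    rw [index_map_eq S (QuotientGroup.mk'_surjective R) (by rw [QuotientGroup.ker_mk']; exact hRS), hidx,
      T.card] at h1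
    have hmem : QuotientGroup.mk' R g ∈ S.map (QuotientGroup.mk' R) :=
      mem_map_of_mem _ (MulAction.mem_stabilizer_iff.2 hga)
    have hord : orderOf (QuotientGroup.mk' R g) = 2 := by
      refine orderOf_eq_prime ?_ fun h => hg ((QuotientGroup.eq_one_iff g).1 h)
      rw [← map_pow, pow_two]
      exact (QuotientGroup.eq_one_iff _).2 hg2
    have h2 := orderOf_dvd_natCard (⟨_, hmem⟩ : S.map (QuotientGroup.mk' R))
    rw [Subgroup.orderOf_mk, hord] at h2
    omega
  · have hcompl : Nat.card ↥((MulAction.orbit X a)ᶜ : Set α) = 1 := by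
      have := Set.ncard_add_ncard_compl (MulAction.orbit X a)
      rw [← Nat.card_coe_set_eq, ← Nat.card_coe_set_eq, hc, h8] at this
      omega
    obtain ⟨hsub, ⟨b, hb⟩⟩ := Nat.card_eq_one_iff_unique.1 hcompl
    refine ⟨b, fun x => ?_⟩
    have hxb : x • b ∈ (MulAction.orbit X a)ᶜ := fun h => hb (by
      have := MulAction.mem_orbit_of_mem_orbit x⁻¹ h
      rwa [inv_smul_smul] at this)
    exact congrArg Subtype.val (@Subsingleton.elim _ hsub ⟨_, hxb⟩ ⟨b, hb⟩)

end Act

/-- The hypotheses pass to the quotient by a normal subgroup inside the core. -/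
theorem Top.quot (T : Top X R) (N : Subgroup X) [N.Normal] (hN : N ≤ R)
    [(R.map (QuotientGroup.mk' N)).Normal] : Top (X ⧸ N) (R.map (QuotientGroup.mk' N)) where
  twoGroup := T.twoGroup.map _
  simple := by
    haveI := T.simple
    exact (QuotientGroup.quotientQuotientEquivQuotient N R hN).isSimpleGroup
  card := (Nat.card_congr (QuotientGroup.quotientQuotientEquivQuotient N R hN).toEquiv).trans T.card
  rank := Perm.SectionalTwo.sectional_quotient N T.rank

end Cfsg.Agent.Lie.ConstrainedLTwo
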