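import Cfsg.Agent.Lib.Lie.ConstrainedLTwo.Branches

/-!
# The branch with an invariant point
-/

set_option autoImplicit false
set_option linter.style.haveILetI false
set_option linter.unusedSectionVars false
set_option maxRecDepth 100000

open Subgroup Matrix
open scoped commutatorElement

namespace Cfsg.Agent.Lie.ConstrainedLTwo

universe u

/-- A power with exponent zero or one. -/
def pwBit {X : Type*} [One X] (b : ZMod 2) (x : X) : X := if b = 0 then 1 else x

theorem jBit_step : ∀ t : F3, (jBit *ᵥ t) 0 = t 0 ∧ (jBit *ᵥ t) 1 = t 0 + t 1 ∧ (jBit *ᵥ t) 2 = t 1 + t 2 := by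
  decide +kernel

theorem jBit_powers : jBit *ᵥ e0 + e0 = ![0, 1, 0] ∧ jBit *ᵥ ![0, 1, 0] + ![0, 1, 0] = ![0, 0, 1] ∧
    jBit *ᵥ ![0, 0, 1] + ![0, 0, 1] = 0 := by
  decide +kernel

theorem span_three : ∀ t : F3, t = (if t 0 = 0 then 0 else e0) + (if t 1 = 0 then 0 else ![0, 1, 0]) +
    (if t 2 = 0 then 0 else ![0, 0, 1]) := by
  decide +kernel

variable {X : Type u} [Group X] [Finite X] {R : Subgroup X} [R.Normal]

/-- The branch with an invariant subgroup of order two. -/
theorem branch_two {W : Subgroup X} [W.Normal] (S : Step X R W) (hsq : ∀ a ∈ R, a * a ∈ W)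
    (hmove : ∃ g : X, ∃ a ∈ R, g * a * g⁻¹ * a⁻¹ ∉ W) (hcard : Nat.card R = 16 * Nat.card W)
    (C : Subgroup X) [C.Normal] (hWC : W ≤ C) (hCR : C ≤ R) (hcardC : Nat.card C = 2 * Nat.card W) :
    Concl R ∨ ∃ R1 : Subgroup X, R1.Normal ∧ W ≤ R1 ∧ R1 ≤ R ∧ Nat.card R1 = 8 * Nat.card W := by
  classical
  have hcom : ∀ a ∈ R, ∀ b ∈ R, ⁅a, b⁆ ∈ W := fun a ha b hb => comm_mem_of_sq hsq ha hb
  have hidx : (W.subgroupOf C).index = 2 := by
    have h1 := (W.subgroupOf C).card_mul_index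
    rw [Nat.card_congr (subgroupOfEquivOfLe hWC).toEquiv, hcardC] at h1
    exact Nat.eq_of_mul_eq_mul_left Nat.card_pos (h1.trans (mul_comm _ _))
  have hmulC : ∀ a ∈ C, a ∉ W → ∀ b ∈ C, b ∉ W → a * b ∈ W := fun a ha ha' b hb hb' => by
    have h1 : (⟨a, ha⟩ * ⟨b, hb⟩ : C) ∈ W.subgroupOf C :=
      (mul_mem_iff_of_index_two hidx).2 (iff_of_false (fun h => ha' h) fun h => hb' h)
    exact h1
  obtain ⟨c, hcC, hcW⟩ : ∃ c, c ∈ C ∧ c ∉ W := by
    by_contra h
    push Not at h
    have h2 := Nat.card_le_card_of_injective _ (Subgroup.inclusion_injective (fun a ha => h a ha : C ≤ W))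
    have := Nat.card_pos (α := W)
    omega
  have hcR : c ∈ R := hCR hcC
  have hcinv : c⁻¹ ∉ W := fun h => hcW (inv_inv c ▸ inv_mem h)
  have hCdec : ∀ n ∈ C, n ∈ W ∨ c⁻¹ * n ∈ W := fun n hn => by
    by_cases h : n ∈ W
    · exact Or.inl h
    · exact Or.inr (hmulC _ (inv_mem hcC) hcinv n hn h)
  have hCcen : ∀ g : X, ∀ n ∈ C, g * n * g⁻¹ * n⁻¹ ∈ W := by
    intro g n hn
    by_cases h : n ∈ W
    · exact mul_mem (Normal.conj_mem inferInstance n h g) (inv_mem h)
    · exact hmulC _ (Normal.conj_mem inferInstance n hn g) (fun e => h (by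
        have := Normal.conj_mem (inferInstance : W.Normal) _ e g⁻¹
        rwa [show g⁻¹ * (g * n * g⁻¹) * g⁻¹⁻¹ = n by group] at this)) _ (inv_mem hn)
        fun e => h (inv_inv n ▸ inv_mem e)
  have hne : ∃ g : X, ∃ a ∈ R, g * a * g⁻¹ * a⁻¹ ∉ C := by
    by_contra h
    push Not at h
    obtain ⟨g, a, ha, hga⟩ := hmove
    exact hga (chain_trivial S.top W C hCR hCcen a (fun g' => h g' a ha)
      (fun r hr => by rw [← commutatorElement_def]; exact hcom r hr a ha) g)
  obtain ⟨K⟩ := exists_coord S.top R C hCR (fun a ha => hWC (hsq a ha))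
    (fun r hr a ha => by rw [← commutatorElement_def]; exact hWC (hcom r hr a ha))
    (by rw [hcard, hcardC]; ring) hne
  -- commutation with the invariant point
  let φ : X → X := fun a => c * a * c⁻¹ * a⁻¹
  have hφW : ∀ a ∈ R, φ a ∈ W := fun a ha => by
    show c * a * c⁻¹ * a⁻¹ ∈ W
    rw [← commutatorElement_def]; exact hcom c hcR a ha
  have hφmul : ∀ a ∈ R, ∀ b ∈ R, φ (a * b) = φ a * φ b := fun a ha b hb => by
    show c * (a * b) * c⁻¹ * (a * b)⁻¹ = c * a * c⁻¹ * a⁻¹ * φ b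
    rw [show c * (a * b) * c⁻¹ * (a * b)⁻¹ = c * a * c⁻¹ * (φ b * a⁻¹) by
      show _ = c * a * c⁻¹ * ((c * b * c⁻¹ * b⁻¹) * a⁻¹); group,
      ← S.cen _ (inv_mem ha) _ (hφW b hb)]
    group
  have hφC : ∀ n ∈ C, φ n = 1 := by
    intro n hn
    show c * n * c⁻¹ * n⁻¹ = 1
    rcases hCdec n hn with h | h
    · rw [S.cen c hcR n h]; group
    · rw [show n = c * (c⁻¹ * n) by group]
      generalize c⁻¹ * n = w at h ⊢
      rw [show c * (c * w) * c⁻¹ * (c * w)⁻¹ = c * (c * w) * (c⁻¹ * w⁻¹) * c⁻¹ by group,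
        S.cen c⁻¹ (inv_mem hcR) _ (inv_mem h)]
      group
  have hφconj : ∀ g : X, ∀ a ∈ R, φ (g * a * g⁻¹) = g * φ a * g⁻¹ := by
    intro g a ha
    obtain ⟨w, hw, hcw⟩ : ∃ w ∈ W, g⁻¹ * c * g = w * c := ⟨_, hCcen g⁻¹ c hcC, by group⟩
    have hwa : w * (c * a * c⁻¹) * w⁻¹ = c * a * c⁻¹ := by
      rw [← S.cen _ (mul_mem (mul_mem hcR ha) (inv_mem hcR)) w hw, mul_inv_cancel_right]
    calc c * (g * a * g⁻¹) * c⁻¹ * (g * a * g⁻¹)⁻¹
        = g * ((g⁻¹ * c * g) * a * (g⁻¹ * c * g)⁻¹ * a⁻¹) * g⁻¹ := by group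
      _ = g * (w * (c * a * c⁻¹) * w⁻¹ * a⁻¹) * g⁻¹ := by rw [hcw]; group
      _ = _ := by rw [hwa]
  have hCcomm : (∀ a ∈ R, φ a = 1) → ∀ a ∈ R, ∀ n ∈ C, a * n = n * a := by
    intro h a ha n hn
    have hca : c * a = a * c := mul_inv_eq_iff_eq_mul.1 (mul_inv_eq_one.1 (h a ha))
    rcases hCdec n hn with h' | h'
    · exact S.cen a ha n h'
    · rw [show n = c * (c⁻¹ * n) by group]
      generalize c⁻¹ * n = w at h' ⊢
      rw [← mul_assoc, ← hca, mul_assoc, S.cen a ha w h', ← mul_assoc]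
  have hcenR : ∀ a ∈ R, ∀ w ∈ W, a * w = w * a := S.cen
  rcases fixed_dichotomy W S.ne S.el S.min with ⟨hfix, hW2⟩ | hnf
  · left
    refine concl_small S hW2 hsq hcard (K.comm W S.el hcenR
      (hCcomm (K.fixed_map φ hφmul hφC fun g a ha => ?_)) hcom (Or.inl hfix))
    rw [hφconj g a ha, hfix g _ (hφW a ha)]
  -- the invariant point is an involution
  have hcc : c * c = 1 := by
    refine hnf _ (hsq c hcR) fun g => ?_
    obtain ⟨w, hw, e⟩ : ∃ w ∈ W, g * c * g⁻¹ = w * c := ⟨_, hCcen g c hcC, by group⟩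
    rw [show g * (c * c) * g⁻¹ = g * c * g⁻¹ * (g * c * g⁻¹) by group, e,
      show w * c * (w * c) = w * (c * w) * c by group, S.cen c hcR w hw,
      show w * (w * c) * c = w * w * (c * c) by group, S.el w hw, one_mul]
  have hC2 : ∀ n ∈ C, n * n = 1 := by
    intro n hn
    rcases hCdec n hn with h | h
    · exact S.el n h
    · rw [show n = c * (c⁻¹ * n) by group]
      generalize c⁻¹ * n = w at h ⊢
      rw [show c * w * (c * w) = c * (w * c) * w by group, ← S.cen c hcR w h,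
        show c * (c * w) * w = c * c * (w * w) by group, hcc, S.el w h, one_mul]
  have hsame : ∀ a ∈ R, ∀ b ∈ R, a * b⁻¹ ∈ W → a * a = b * b := by
    intro a ha b hb hab
    obtain ⟨w, hw, rfl⟩ : ∃ w ∈ W, a = w * b := ⟨_, hab, by group⟩
    rw [show w * b * (w * b) = w * (b * w) * b by group, S.cen b hb w hw,
      show w * (w * b) * b = w * w * (b * b) by group, S.el w hw, one_mul]
  choose l hl hlv using K.lift
  by_cases hφ1 : ∀ a ∈ R, φ a = 1
  · -- the core is commutative
    have hab := K.comm W S.el hcenR (hCcomm hφ1) hcom (Or.inr ⟨S.min, hsq, hC2⟩)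
    rcases K.sq W hab hC2 S.min hsq with hall | ⟨hiso, hinj⟩
    · obtain ⟨a, ha, hne'⟩ := S.nsq
      exact absurd (hall a ha) hne'
    have hW8 := K.card_image W hab hC2 hsq hiso hinj
    obtain ⟨y, hy⟩ := K.surj jBit (by decide +kernel)
    have hy4 : y * y * (y * y) ∈ R := (K.eq_one_iff _).1 (by rw [map_mul, map_mul, hy]; decide +kernel)
    let n : X → X := fun r => y * r * y⁻¹ * r⁻¹
    have hnR : ∀ r ∈ R, n r ∈ R := fun r hr => mul_mem (K.conj_mem y hr) (inv_mem hr)
    have hnv : ∀ r ∈ R, K.v (n r) = jBit *ᵥ K.v r + K.v r := fun r hr => by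
      rw [K.add _ (K.conj_mem y hr) _ (inv_mem hr), K.inv hr, K.conj y r hr, hy]
    have hnmul : ∀ a ∈ R, ∀ b ∈ R, n (a * b) = n a * n b := fun a ha b hb => by
      show y * (a * b) * y⁻¹ * (a * b)⁻¹ = y * a * y⁻¹ * a⁻¹ * (y * b * y⁻¹ * b⁻¹)
      calc y * (a * b) * y⁻¹ * (a * b)⁻¹ = y * a * y⁻¹ * ((y * b * y⁻¹ * b⁻¹) * a⁻¹) := by group
        _ = _ := by
          rw [hab _ (hnR b hb) _ (inv_mem ha)]
          show y * a * y⁻¹ * (a⁻¹ * (y * b * y⁻¹ * b⁻¹)) = _
          group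
    have hn1 : ∀ r ∈ R, y * r * y⁻¹ = r * n r := fun r hr => by
      rw [hab r hr _ (hnR r hr)]; show _ = y * r * y⁻¹ * r⁻¹ * r; group
    set v1 := n (l e0) with hv1
    set v2 := n v1 with hv2
    set v3 := n v2 with hv3
    have h1R : v1 ∈ R := hnR _ (hl e0)
    have h2R : v2 ∈ R := hnR _ h1R
    have h3R : v3 ∈ R := hnR _ h2R
    obtain ⟨j1, j2, j3⟩ := jBit_powers
    have hv1v : K.v v1 = ![0, 1, 0] := by rw [hv1, hnv _ (hl e0), hlv, j1]
    have hv2v : K.v v2 = ![0, 0, 1] := by rw [hv2, hnv _ h1R, hv1v, j2]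
    have h3C : v3 ∈ C := (K.zero_iff _ h3R).1 (by rw [hv3, hnv _ h2R, hv2v, j3])
    by_cases h3W : v3 ∈ W
    · -- an invariant complement
      right
      let L : F3 → X := fun t => pwBit (t 0) (l e0) * pwBit (t 1) v1 * pwBit (t 2) v2
      have hpR : ∀ b : ZMod 2, ∀ r ∈ R, pwBit b r ∈ R := fun b r hr => by
        unfold pwBit; split <;> first | exact one_mem R | exact hr
      have hLR : ∀ t, L t ∈ R := fun t =>
        mul_mem (mul_mem (hpR _ _ (hl e0)) (hpR _ _ h1R)) (hpR _ _ h2R)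
      have hLv : ∀ t, K.v (L t) = t := by
        intro t
        show K.v (pwBit (t 0) (l e0) * pwBit (t 1) v1 * pwBit (t 2) v2) = t
        rw [K.add _ (mul_mem (hpR _ _ (hl e0)) (hpR _ _ h1R)) _ (hpR _ _ h2R), K.add _ (hpR _ _ (hl e0)) _ (hpR _ _ h1R)]
        conv_rhs => rw [span_three t]
        unfold pwBit
        split_ifs <;> simp only [hlv, hv1v, hv2v, K.one]
      let π := QuotientGroup.mk' W
      have hπc : ∀ a ∈ R, ∀ b ∈ R, π a * π b = π b * π a := fun a ha b hb => by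
        rw [← map_mul, ← map_mul, hab a ha b hb]
      have hπsq : ∀ a ∈ R, π a * π a = 1 := fun a ha => by
        rw [← map_mul]; exact (QuotientGroup.eq_one_iff _).2 (hsq a ha)
      have hπp : ∀ (a b : ZMod 2) (r : X), r ∈ R → π (pwBit (a + b) r) = π (pwBit a r) * π (pwBit b r) := by
        intro a b r hr
        unfold pwBit
        rcases (show a = 0 ∨ a = 1 by revert a; decide) with rfl | rfl <;>
          rcases (show b = 0 ∨ b = 1 by revert b; decide) with rfl | rfl <;>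
          simp [show (1 : ZMod 2) + 1 = 0 by decide, hπsq r hr]
      have hLadd : ∀ s t, π (L (s + t)) = π (L s) * π (L t) := by
        intro s t
        show π (pwBit ((s + t) 0) (l e0) * pwBit ((s + t) 1) v1 * pwBit ((s + t) 2) v2) =
          π (pwBit (s 0) (l e0) * pwBit (s 1) v1 * pwBit (s 2) v2) *
            π (pwBit (t 0) (l e0) * pwBit (t 1) v1 * pwBit (t 2) v2)
        simp only [map_mul, Pi.add_apply, hπp _ _ _ (hl e0), hπp _ _ _ h1R, hπp _ _ _ h2R]
        have a1 := hπc _ (hpR (t 0) _ (hl e0)) _ (hpR (s 1) _ h1R)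
        have a2 := hπc _ (hpR (s 2) _ h2R) _ (mul_mem (hpR (t 0) _ (hl e0)) (hpR (t 1) _ h1R))
        rw [map_mul] at a2
        generalize π (pwBit (s 0) (l e0)) = p at *
        generalize π (pwBit (t 0) (l e0)) = p' at *
        generalize π (pwBit (s 1) v1) = q at *
        generalize π (pwBit (t 1) v1) = q' at *
        generalize π (pwBit (s 2) v2) = r at *
        generalize π (pwBit (t 2) v2) = r' at *
        calc p * p' * (q * q') * (r * r') = p * (p' * q) * q' * (r * r') := by group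
          _ = p * q * (p' * q') * r * r' := by rw [a1]; group
          _ = p * q * ((p' * q') * r) * r' := by group
          _ = _ := by rw [← a2]; group
      have hLy : ∀ t, π (y * L t * y⁻¹) = π (L (jBit *ᵥ t)) := by
        intro t
        obtain ⟨q0, q1, q2⟩ := jBit_step t
        show π (y * (pwBit (t 0) (l e0) * pwBit (t 1) v1 * pwBit (t 2) v2) * y⁻¹) =
          π (pwBit ((jBit *ᵥ t) 0) (l e0) * pwBit ((jBit *ᵥ t) 1) v1 * pwBit ((jBit *ᵥ t) 2) v2)
        rw [q0, q1, q2]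
        have hstep : ∀ (b : ZMod 2) (r : X), r ∈ R →
            y * pwBit b r * y⁻¹ = pwBit b r * pwBit b (n r) := by
          intro b r hr
          unfold pwBit
          split
          · group
          · exact hn1 r hr
        rw [show y * (pwBit (t 0) (l e0) * pwBit (t 1) v1 * pwBit (t 2) v2) * y⁻¹ =
            y * pwBit (t 0) (l e0) * y⁻¹ * (y * pwBit (t 1) v1 * y⁻¹) * (y * pwBit (t 2) v2 * y⁻¹) by group,
          hstep _ _ (hl e0), hstep _ _ h1R, hstep _ _ h2R, ← hv1, ← hv2, ← hv3]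
        have hz : π (pwBit (t 2) v3) = 1 := by
          unfold pwBit; split
          · exact map_one π
          · exact (QuotientGroup.eq_one_iff _).2 h3W
        simp only [map_mul, hπp _ _ _ h1R, hπp _ _ _ h2R, hz, mul_one]
        group
      let Q : Subgroup X :=
        { carrier := {r | r ∈ R ∧ π r = π (L (K.v r))}
          one_mem' := ⟨R.one_mem, by
            rw [map_one, K.one]; show 1 = π (pwBit 0 (l e0) * pwBit 0 v1 * pwBit 0 v2); simp [pwBit]⟩
          mul_mem' := fun {a b} ha hb => ⟨mul_mem ha.1 hb.1, by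
            rw [map_mul, ha.2, hb.2, ← hLadd, K.add a ha.1 b hb.1]⟩
          inv_mem' := fun {a} ha => ⟨inv_mem ha.1, by
            rw [map_inv, ha.2, K.inv ha.1, inv_eq_of_mul_eq_one_right (hπsq _ (hLR _))]⟩ }
      have hWQ : W ≤ Q := fun w hw => ⟨S.le hw, by
        rw [(K.zero_iff w (S.le hw)).2 (hWC hw)]
        show π w = π (pwBit 0 (l e0) * pwBit 0 v1 * pwBit 0 v2)
        simp [pwBit, π, (QuotientGroup.eq_one_iff w).2 hw]⟩
      have hcQ : c ∉ Q := fun h => hcW ((QuotientGroup.eq_one_iff c).1 (by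
        show π c = 1
        rw [h.2, (K.zero_iff c hcR).2 hcC]
        show π (pwBit 0 (l e0) * pwBit 0 v1 * pwBit 0 v2) = 1
        simp [pwBit]))
      have hQL : ∀ r ∈ R, π r = π (L (K.v r)) ∨ π (r * c) = π (L (K.v r)) := by
        intro r hr
        have hk : r * (L (K.v r))⁻¹ ∈ C := K.rel hr (hLR _) (hLv _).symm
        obtain ⟨m, hm, hm'⟩ : ∃ m ∈ C, r = m * L (K.v r) := ⟨_, hk, by group⟩
        rcases hCdec m hm with h | h
        · left
          conv_lhs => rw [hm']
          rw [map_mul, show π m = 1 from (QuotientGroup.eq_one_iff _).2 h, one_mul]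
        · right
          obtain ⟨w, hw, rfl⟩ : ∃ w ∈ W, m = c * w := ⟨_, h, by group⟩
          conv_lhs => rw [hm']
          rw [show c * w * L (K.v r) * c = c * (w * L (K.v r)) * c by group, map_mul, map_mul, map_mul,
            show π w = 1 from (QuotientGroup.eq_one_iff _).2 hw, one_mul, hπc c hcR _ (hLR _), mul_assoc,
            hπsq c hcR, mul_one]
      have hQC : ∀ r ∈ R, r ∈ Q ∨ r * c ∈ Q := fun r hr => by
        refine (hQL r hr).imp (fun h => ⟨hr, h⟩) fun h => ⟨mul_mem hr hcR, ?_⟩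
        rw [K.add r hr c hcR, (K.zero_iff c hcR).2 hcC, add_zero]
        exact h
      have hQidx : (Q.subgroupOf R).index = 2 := by
        refine index_eq_two_iff'.2 ⟨⟨c, hcR⟩, fun r => ?_⟩
        show Xor' (c * r.1 ∈ Q) (r.1 ∈ Q)
        rcases hQC r.1 r.2 with h | h
        · exact Or.inr ⟨h, fun e => hcQ (by have := mul_mem e (inv_mem h); rwa [mul_inv_cancel_right] at this)⟩
        · rw [hab c hcR r.1 r.2]
          exact Or.inl ⟨h, fun e => hcQ (by have := mul_mem (inv_mem e) h; rwa [inv_mul_cancel_left] at this)⟩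
      -- an invariant functional
      let Φ : Type u := {χ : R →* Multiplicative (ZMod 2) // χ ⟨c, hcR⟩ = Multiplicative.ofAdd 1}
      have hχW : ∀ χ : R →* Multiplicative (ZMod 2), ∀ w (hw : w ∈ R), w ∈ W → χ ⟨w, hw⟩ = 1 := by
        intro χ w hw hwW
        obtain ⟨a, ha, hae⟩ := hiso w hwW
        rw [show (⟨w, hw⟩ : R) = ⟨a, ha⟩ * ⟨a, ha⟩ from Subtype.ext hae.symm, map_mul]
        generalize χ ⟨a, ha⟩ = q
        revert q
        decide
      letI : MulAction X Φ :=
        { smul := fun g χ => ⟨χ.1.comp (MulAut.conjNormal g⁻¹ : R ≃* R).toMonoidHom, by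
            show χ.1 (MulAut.conjNormal g⁻¹ ⟨c, hcR⟩) = _
            obtain ⟨w, hw, e⟩ : ∃ w ∈ W, g⁻¹ * c * g⁻¹⁻¹ = w * c := ⟨_, hCcen g⁻¹ c hcC, by group⟩
            rw [show MulAut.conjNormal g⁻¹ ⟨c, hcR⟩ = (⟨w, S.le hw⟩ : R) * ⟨c, hcR⟩ from
              Subtype.ext (by rw [MulAut.conjNormal_apply]; exact e), map_mul, hχW _ _ _ hw, one_mul, χ.2]⟩
          one_smul := fun χ => Subtype.ext (MonoidHom.ext fun r => by
            show χ.1 (MulAut.conjNormal (1 : X)⁻¹ r) = χ.1 r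
            exact congrArg χ.1 (by rw [inv_one, map_one, MulAut.one_apply]))
          mul_smul := fun g g' χ => Subtype.ext (MonoidHom.ext fun r => by
            show χ.1 (MulAut.conjNormal (g * g')⁻¹ r) =
              χ.1 (MulAut.conjNormal g'⁻¹ (MulAut.conjNormal g⁻¹ r))
            exact congrArg χ.1 (by rw [_root_.mul_inv_rev, map_mul, MulAut.mul_apply])) }
      let χ0h : R →* Multiplicative (ZMod 2) :=
        { toFun := fun r => if r.1 ∈ Q then 1 else Multiplicative.ofAdd 1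
          map_one' := if_pos Q.one_mem
          map_mul' := fun a b => by
            have h2 := mul_mem_iff_of_index_two hQidx (a := a) (b := b)
            simp only [mem_subgroupOf] at h2
            by_cases ha : a.1 ∈ Q <;> by_cases hb : b.1 ∈ Q <;>
              simp only [Subgroup.coe_mul] at h2 ⊢ <;> simp [ha, hb, h2] <;> decide }
      let χ0 : Φ := ⟨χ0h, if_neg hcQ⟩
      have hΦ : Nat.card Φ = 8 := by
        let dot : F3 → F3 → ZMod 2 := fun θ t => θ 0 * t 0 + θ 1 * t 1 + θ 2 * t 2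
        let f : F3 → Φ := fun θ => ⟨
          { toFun := fun r => χ0h r * Multiplicative.ofAdd (dot θ (K.v r.1))
            map_one' := by
              rw [map_one, show ((1 : R) : X) = 1 from rfl, K.one]
              show 1 * Multiplicative.ofAdd (θ 0 * 0 + θ 1 * 0 + θ 2 * 0) = 1
              simp
            map_mul' := fun a b => by
              rw [map_mul, Subgroup.coe_mul, K.add _ a.2 _ b.2]
              have e : dot θ (K.v a.1 + K.v b.1) = dot θ (K.v a.1) + dot θ (K.v b.1) := by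
                simp only [dot, Pi.add_apply]; ring
              rw [e, ofAdd_add, mul_mul_mul_comm] },
          by
            show χ0h ⟨c, hcR⟩ * Multiplicative.ofAdd (dot θ (K.v c)) = _
            rw [(K.zero_iff c hcR).2 hcC, show χ0h ⟨c, hcR⟩ = Multiplicative.ofAdd 1 from χ0.2]
            simp [dot]⟩
        have hf : Function.Bijective f := by
          refine ⟨fun θ θ' e => ?_, fun χ => ?_⟩
          · have h := fun t => DFunLike.congr_fun (congrArg Subtype.val e) ⟨L t, hLR t⟩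
            have h' : ∀ t, dot θ t = dot θ' t := fun t => by
              have := mul_left_cancel (h t)
              simpa [hLv] using this
            funext i
            fin_cases i
            · simpa [dot] using h' ![1, 0, 0]
            · simpa [dot] using h' ![0, 1, 0]
            · simpa [dot] using h' ![0, 0, 1]
          · let d : R →* Multiplicative (ZMod 2) := χ.1 * χ0h
            have hdC : ∀ k (hk : k ∈ C), d ⟨k, hCR hk⟩ = 1 := by
              intro k hk
              rcases hCdec k hk with h | h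
              · show χ.1 _ * χ0h _ = 1
                rw [hχW _ _ _ h, hχW _ _ _ h, one_mul]
              · have e : (⟨k, hCR hk⟩ : R) = ⟨c, hcR⟩ * ⟨c⁻¹ * k, S.le h⟩ :=
                  Subtype.ext (by show k = c * (c⁻¹ * k); group)
                rw [e, map_mul]
                show χ.1 _ * χ0h _ * (χ.1 _ * χ0h _) = 1
                rw [hχW _ _ _ h, hχW _ _ _ h, χ.2, show χ0h ⟨c, hcR⟩ = Multiplicative.ofAdd 1 from χ0.2]
                decide
            let dv : F3 → ZMod 2 := fun t => Multiplicative.toAdd (d ⟨L t, hLR t⟩)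
            have hdadd : ∀ s t, dv (s + t) = dv s + dv t := by
              intro s t
              show Multiplicative.toAdd (d ⟨L (s + t), hLR _⟩) = _
              rw [show (⟨L (s + t), hLR _⟩ : R) =
                  ⟨L (s + t) * (L s * L t)⁻¹, mul_mem (hLR _) (inv_mem (mul_mem (hLR _) (hLR _)))⟩ *
                    (⟨L s, hLR s⟩ * ⟨L t, hLR t⟩) from Subtype.ext (by
                    show L (s + t) = L (s + t) * (L s * L t)⁻¹ * (L s * L t); group), d.map_mul, d.map_mul,
                hdC _ (K.rel (hLR _) (mul_mem (hLR _) (hLR _)) (by rw [K.add _ (hLR _) _ (hLR _), hLv, hLv, hLv])),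
                one_mul]
              rfl
            refine ⟨![dv ![1, 0, 0], dv ![0, 1, 0], dv ![0, 0, 1]], Subtype.ext (MonoidHom.ext fun r => ?_)⟩
            have hdot : ∀ t, dot ![dv ![1, 0, 0], dv ![0, 1, 0], dv ![0, 0, 1]] t = dv t := by
              intro t
              have h0 : dv 0 = 0 := by
                have := hdadd 0 0; rw [add_zero] at this; exact left_eq_add.1 this
              conv_rhs => rw [span_three t, hdadd, hdadd]
              have hb : ∀ b : ZMod 2, b = 0 ∨ b = 1 := by decide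
              rcases hb (t 0) with e | e <;> rcases hb (t 1) with e' | e' <;> rcases hb (t 2) with e'' | e'' <;>
                simp [dot, e, e', e'', h0, e0]
            show χ0h r * Multiplicative.ofAdd (dot _ (K.v r.1)) = χ.1 r
            rw [hdot]
            show χ0h r * d ⟨L (K.v r.1), hLR _⟩ = χ.1 r
            have e : r = ⟨r.1 * (L (K.v r.1))⁻¹, mul_mem r.2 (inv_mem (hLR _))⟩ * ⟨L (K.v r.1), hLR _⟩ :=
              Subtype.ext (by show r.1 = r.1 * (L (K.v r.1))⁻¹ * L (K.v r.1); group)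
            have e2 : d r = d ⟨L (K.v r.1), hLR _⟩ := by
              conv_lhs => rw [e]
              rw [d.map_mul, hdC _ (K.rel r.2 (hLR _) (hLv _).symm), one_mul]
            rw [← e2]
            show χ0h r * (χ.1 r * χ0h r) = χ.1 r
            generalize χ0h r = p
            generalize χ.1 r = q
            revert p q
            decide
        rw [← Nat.card_congr (Equiv.ofBijective f hf), Nat.card_eq_fintype_card]
        decide +kernel
      have hQy : ∀ r ∈ R, y * r * y⁻¹ ∈ Q ↔ r ∈ Q := by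
        have hfwd : ∀ r ∈ Q, y * r * y⁻¹ ∈ Q := fun r hr => ⟨K.conj_mem y hr.1, by
          rw [map_mul, map_mul, hr.2, ← map_mul, ← map_mul, hLy, K.conj y r hr.1, hy]⟩
        intro r hr
        refine ⟨fun h => ?_, hfwd r⟩
        rcases hQC r hr with h' | h'
        · exact h'
        exfalso
        have h1 := mul_mem (inv_mem h) (hfwd _ h')
        rw [show (y * r * y⁻¹)⁻¹ * (y * (r * c) * y⁻¹) = y * c * y⁻¹ by group] at h1
        have h2 := mul_mem (inv_mem (hWQ (hCcen y c hcC))) h1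
        rw [show (y * c * y⁻¹ * c⁻¹)⁻¹ * (y * c * y⁻¹) = c by group] at h2
        exact hcQ h2
      haveI : Finite Φ := Nat.finite_of_card_ne_zero (by omega)
      obtain ⟨⟨χ, hχc⟩, hχfix⟩ := S.top.exists_fixed hΦ
        (fun r hr χ => Subtype.ext (MonoidHom.ext fun s => congrArg χ.1 (Subtype.ext (by
          show ((MulAut.conjNormal r⁻¹ s : R) : X) = s.1
          rw [MulAut.conjNormal_apply, hab _ (inv_mem hr) _ s.2, mul_inv_cancel_right]))))
        (y * y) (fun e => by have := (K.eq_one_iff _).2 e; rw [map_mul, hy] at this; revert this; decide +kernel)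
        hy4 χ0 (Subtype.ext (MonoidHom.ext fun s => by
          show χ0h (MulAut.conjNormal (y * y)⁻¹ s) = χ0h s
          show (if _ then _ else _) = if _ then _ else _
          refine if_congr ?_ rfl rfl
          rw [MulAut.conjNormal_apply, ← hQy _ (K.conj_mem _ s.2),
            ← hQy _ (K.conj_mem y (K.conj_mem _ s.2)),
            show y * (y * ((y * y)⁻¹ * s.1 * (y * y)⁻¹⁻¹) * y⁻¹) * y⁻¹ = s.1 by group]))
      haveI : (χ.ker.map R.subtype).Normal := ⟨fun r hr g => by
        obtain ⟨r, hr, rfl⟩ := hr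
        refine ⟨MulAut.conjNormal g r, χ.mem_ker.2 ?_, MulAut.conjNormal_apply g r⟩
        have h1 := DFunLike.congr_fun (congrArg Subtype.val (hχfix g⁻¹)) r
        have h2 : χ (MulAut.conjNormal g⁻¹⁻¹ r) = χ r := h1
        rw [inv_inv] at h2
        rw [h2]; exact χ.mem_ker.1 hr⟩
      refine ⟨χ.ker.map R.subtype, inferInstance, fun w hw => ⟨⟨w, S.le hw⟩, χ.mem_ker.2 (hχW χ _ _ hw), rfl⟩,
        map_subtype_le _, ?_⟩
      have hsurj : Function.Surjective χ := fun q => by
        rcases (show q = 1 ∨ q = Multiplicative.ofAdd 1 by revert q; decide) with rfl | rfl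
        · exact ⟨1, map_one χ⟩
        · exact ⟨_, hχc⟩
      have h := χ.ker.card_mul_index
      rw [Subgroup.index_ker, MonoidHom.range_eq_top.2 hsurj, card_top, Nat.card_eq_fintype_card (α := Multiplicative (ZMod 2)),
        Fintype.card_multiplicative, ZMod.card, hcard] at h
      rw [card_map_of_injective R.subtype_injective]
      omega
    -- a fixed coset
    exfalso
    have hw1 : v1 * v1 ∈ W := hsq v1 h1R
    set c' := v3 * (v1 * v1)⁻¹ with hc'
    have hc'C : c' ∈ C := mul_mem h3C (inv_mem (hWC hw1))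
    have hc'W : c' ∉ W := fun h => h3W (by
      have := mul_mem h hw1; rwa [hc', inv_mul_cancel_right] at this)
    have hc'R : c' ∈ R := hCR hc'C
    set v4 := n v3 with hv4
    have h4R : v4 ∈ R := hnR _ h3R
    have hpow4 : ∀ r ∈ R, r * r * (r * r) = 1 := fun r hr => S.el _ (hsq r hr)
    have hy4c : y * y * (y * y) * l e0 * (y * y * (y * y))⁻¹ = l e0 := by
      rw [hab _ hy4 _ (hl e0), mul_inv_cancel_right]
    have hid : v4 = v2 * v2 := by
      letI : CommGroup R := { (inferInstance : Group R) with mul_comm := fun p q => Subtype.ext (hab _ p.2 _ q.2) }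
      let Y : R →* R := (MulAut.conjNormal y : R ≃* R).toMonoidHom
      let a0 : R := ⟨l e0, hl e0⟩
      let a1 : R := ⟨v1, h1R⟩
      let a2 : R := ⟨v2, h2R⟩
      let a3 : R := ⟨v3, h3R⟩
      let a4 : R := ⟨v4, h4R⟩
      have hY : ∀ (p : R), (Y p : X) = y * p * y⁻¹ := fun p => MulAut.conjNormal_apply y p
      have s0 : Y a0 = a0 * a1 := Subtype.ext (by rw [hY]; exact hn1 _ (hl e0))
      have s1 : Y a1 = a1 * a2 := Subtype.ext (by rw [hY]; exact hn1 _ h1R)
      have s2 : Y a2 = a2 * a3 := Subtype.ext (by rw [hY]; exact hn1 _ h2R)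
      have s3 : Y a3 = a3 * a4 := Subtype.ext (by rw [hY]; exact hn1 _ h3R)
      have h4 : Y (Y (Y (Y a0))) = a0 := Subtype.ext (by
        rw [hY, hY, hY, hY]
        show y * (y * (y * (y * l e0 * y⁻¹) * y⁻¹) * y⁻¹) * y⁻¹ = l e0
        conv_rhs => rw [← hy4c]
        group)
      have e4 : ∀ p : R, p ^ 4 = 1 := fun p => Subtype.ext (by
        rw [Subgroup.coe_pow, show (4 : ℕ) = 2 * 2 from rfl, pow_mul, pow_two (p : X), pow_two]
        exact hpow4 _ p.2)
      simp only [s0, s1, s2, s3, map_mul] at h4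
      have h5 : Additive.ofMul a4 + 2 • Additive.ofMul a2 = 0 := by
        have h6 := congrArg Additive.ofMul h4
        simp only [ofMul_mul] at h6
        have f1 : 4 • Additive.ofMul a1 = 0 := congrArg Additive.ofMul (e4 a1)
        have f2 : 4 • Additive.ofMul a2 = 0 := congrArg Additive.ofMul (e4 a2)
        have f3 : 4 • Additive.ofMul a3 = 0 := congrArg Additive.ofMul (e4 a3)
        linear_combination (norm := abel) h6 - f1 - f2 - f3
      have h7 : a4 = a2 * a2 := by
        have h8 : a4 * a2 ^ 2 = 1 := congrArg Additive.toMul h5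
        rw [eq_inv_of_mul_eq_one_left h8, ← pow_two]
        refine inv_eq_of_mul_eq_one_right ?_
        rw [← pow_add]
        exact e4 a2
      exact congrArg Subtype.val h7
    have hnc : y * c' * y⁻¹ = c' := by
      rw [hn1 c' hc'R, mul_eq_left]
      have e : n (v1 * v1)⁻¹ = (v2 * v2)⁻¹ := by
        refine eq_inv_of_mul_eq_one_left ?_
        rw [show v2 * v2 = n (v1 * v1) by rw [hnmul _ h1R _ h1R], ← hnmul _ (inv_mem (S.le hw1)) _ (S.le hw1),
          inv_mul_cancel]
        show y * 1 * y⁻¹ * (1 : X)⁻¹ = 1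
        group
      rw [hc', hnmul _ h3R _ (inv_mem (S.le hw1)), ← hv4, e, hid, mul_inv_cancel]
    let α : Type u := {r : X // r ∈ C ∧ r ∉ W}
    letI : MulAction X α :=
      { smul := fun g r => ⟨g * r.1 * g⁻¹, Normal.conj_mem inferInstance _ r.2.1 g, fun e => r.2.2 (by
          have := Normal.conj_mem (inferInstance : W.Normal) _ e g⁻¹
          rwa [show g⁻¹ * (g * r.1 * g⁻¹) * g⁻¹⁻¹ = r.1 by group] at this)⟩
        one_smul := fun r => Subtype.ext (by show 1 * r.1 * (1 : X)⁻¹ = r.1; group)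
        mul_smul := fun g g' r => Subtype.ext (by
          show g * g' * r.1 * (g * g')⁻¹ = g * (g' * r.1 * g'⁻¹) * g⁻¹; group) }
    have hα : Nat.card α = 8 := by
      rw [← hW8]
      refine (Nat.card_congr (Equiv.ofBijective (fun w : W => (⟨c' * w.1, mul_mem hc'C (hWC w.2),
        fun e => hc'W (by have := mul_mem e (inv_mem w.2); rwa [mul_inv_cancel_right] at this)⟩ : α))
        ⟨fun p q e => Subtype.ext (mul_left_cancel (congrArg Subtype.val e)), fun r => ?_⟩)).symm
      exact ⟨⟨c'⁻¹ * r.1, hmulC _ (inv_mem hc'C) (fun e => hc'W (inv_inv c' ▸ inv_mem e)) _ r.2.1 r.2.2⟩,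
        Subtype.ext (by show c' * (c'⁻¹ * r.1) = r.1; group)⟩
    obtain ⟨⟨b, hbC, hbW⟩, hbfix⟩ := S.top.exists_fixed hα
      (fun r hr q => Subtype.ext (by
        show r * q.1 * r⁻¹ = q.1
        rw [hab r hr _ (hCR q.2.1), mul_inv_cancel_right]))
      (y * y) (fun e => by have := (K.eq_one_iff _).2 e; rw [map_mul, hy] at this; revert this; decide +kernel)
      hy4 ⟨c', hc'C, hc'W⟩ (Subtype.ext (by
        show y * y * c' * (y * y)⁻¹ = c'
        rw [show y * y * c' * (y * y)⁻¹ = y * (y * c' * y⁻¹) * y⁻¹ by group, hnc, hnc]))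
    haveI : (zpowers b).Normal := ⟨fun m hm g => by
      obtain ⟨i, rfl⟩ := mem_zpowers_iff.1 hm
      rw [← conj_zpow, show g * b * g⁻¹ = b from congrArg Subtype.val (hbfix g)]
      exact zpow_mem (mem_zpowers b) i⟩
    have hb0 : b ≠ 1 := fun e => hbW (e ▸ W.one_mem)
    have hind := S.ind (zpowers b) inferInstance (zpowers_le.2 (hCR hbC)) (zpowers_ne_bot.2 hb0) (by
      obtain ⟨g, p, hp, hgp⟩ := hne
      exact ⟨g, p, hp, fun h => hgp (sup_le (sq_le_iff.2 fun u hu => hWC (hsq u hu)) (zpowers_le.2 hbC) h)⟩)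
    rw [Nat.card_zpowers, orderOf_eq_prime (by rw [pow_two, hC2 b hbC]) hb0, hcard, hW8] at hind
    omega
  -- the point acts faithfully: choose the invariant half by squares
  right
  push Not at hφ1
  obtain ⟨a0, ha0, hφa0⟩ := hφ1
  have hφwd : ∀ a ∈ R, ∀ b ∈ R, K.v a = K.v b → φ a = φ b := fun a ha b hb h => by
    rw [show a = a * b⁻¹ * b by group, hφmul _ (hCR (K.rel ha hb h)) _ hb, hφC _ (K.rel ha hb h), one_mul]
  have hφinj : ∀ a ∈ R, φ a = 1 → a ∈ C := by
    intro a ha h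
    by_contra haC
    have hva : K.v a ≠ 0 := fun e => haC ((K.zero_iff a ha).1 e)
    have hva0 : K.v a0 ≠ 0 := fun e => hφa0 (hφC a0 ((K.zero_iff a0 ha0).1 e))
    obtain ⟨g, hg, hga⟩ := exists_vec_mat _ hva
    obtain ⟨g', hg', hga0⟩ := exists_vec_mat _ hva0
    obtain ⟨p, rfl⟩ := K.surj g hg
    obtain ⟨p', rfl⟩ := K.surj g' hg'
    apply hφa0
    rw [← hφwd (p' * p⁻¹ * a * (p' * p⁻¹)⁻¹) (K.conj_mem _ ha) a0 ha0 (by
      rw [K.conj _ a ha, map_mul, ← hga, mulVec_mulVec, mul_assoc, ← map_mul, inv_mul_cancel, map_one, mul_one,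
        hga0]), hφconj _ a ha, h, mul_one, mul_inv_cancel]
  have hφv : ∀ a ∈ R, ∀ b ∈ R, φ a = φ b → K.v a = K.v b := by
    intro a ha b hb h
    have hi : φ b⁻¹ * φ b = 1 := by rw [← hφmul _ (inv_mem hb) _ hb, inv_mul_cancel, hφC 1 C.one_mem]
    have h1 : φ (a * b⁻¹) = 1 := by
      rw [hφmul a ha _ (inv_mem hb), h, eq_inv_of_mul_eq_one_left hi, mul_inv_cancel]
    have h2 := (K.zero_iff _ (mul_mem ha (inv_mem hb))).2 (hφinj _ (mul_mem ha (inv_mem hb)) h1)
    rw [K.add a ha _ (inv_mem hb), K.inv hb] at h2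
    exact CharTwo.add_eq_zero.1 h2
  have hφimg : ∀ w ∈ W, ∃ b ∈ R, φ b = w := by
    let N : Subgroup X :=
      { carrier := {w | ∃ b ∈ R, φ b = w}
        one_mem' := ⟨1, R.one_mem, hφC 1 C.one_mem⟩
        mul_mem' := by rintro _ _ ⟨a, ha, rfl⟩ ⟨b, hb, rfl⟩; exact ⟨a * b, mul_mem ha hb, hφmul a ha b hb⟩
        inv_mem' := by
          rintro _ ⟨a, ha, rfl⟩
          exact ⟨a⁻¹, inv_mem ha, eq_inv_of_mul_eq_one_left
            (by rw [← hφmul _ (inv_mem ha) _ ha, inv_mul_cancel, hφC 1 C.one_mem])⟩ }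
    have hNn : N.Normal := ⟨fun w hw g => by
      obtain ⟨b, hb, e⟩ := hw
      exact ⟨g * b * g⁻¹, K.conj_mem g hb, by rw [hφconj g b hb, e]⟩⟩
    have hN := S.min N hNn
      (fun w hw => by obtain ⟨b, hb, e⟩ := hw; rw [← e]; exact hφW b hb) fun e => hφa0 (by
        have : φ a0 ∈ N := ⟨a0, ha0, rfl⟩
        rw [e] at this
        exact this)
    intro w hw
    exact (hN.symm ▸ hw : w ∈ N)
  have hmulc : ∀ a ∈ R, a * c * (a * c) = a * a * φ a := fun a ha => by
    have e : c * a = φ a * (a * c) := by show c * a = c * a * c⁻¹ * a⁻¹ * (a * c); group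
    calc a * c * (a * c) = a * (c * a) * c := by group
      _ = a * φ a * a * (c * c) := by rw [e]; group
      _ = a * a * φ a := by rw [hcc, mul_one, mul_assoc, ← S.cen a ha _ (hφW a ha), ← mul_assoc]
  have hsqC : ∀ a ∈ R, ∀ b ∈ R, K.v a = K.v b → b * b = a * a ∨ b * b = a * a * φ a := by
    intro a ha b hb h
    rcases hCdec _ (inv_mem (K.rel ha hb h)) with hk | hk
    · exact Or.inl (hsame b hb a ha (by
        rw [show b * a⁻¹ = (a * b⁻¹)⁻¹ by group]; exact hk))
    · refine Or.inr ?_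
      rw [← hmulc a ha]
      refine hsame b hb _ (mul_mem ha hcR) ?_
      have e : b * (a * c)⁻¹ = b * a⁻¹ * c⁻¹ * (c * a * c⁻¹ * a⁻¹) := by group
      rw [e]
      refine mul_mem ?_ (hφW a ha)
      have h3 : b * a⁻¹ * c⁻¹ = c * (c⁻¹ * (a * b⁻¹)⁻¹) * c⁻¹ := by group
      rw [h3]
      exact Normal.conj_mem inferInstance _ hk c
  -- a square is trivial or equal to the commutator with the point
  have hq : ∀ a ∈ R, a ∉ C → a * a = 1 ∨ a * a = φ a := by
    intro a ha haC
    obtain ⟨b, hb, hbe⟩ := hφimg _ (hsq a ha)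
    have hu : ∀ g ∈ stabList, g *ᵥ K.v (l e0) = K.v (l e0) := fun g hg => by rw [hlv]; exact (stab_props g hg).2
    obtain ⟨G, hG, hGv⟩ := exists_vec_mat _ (fun e => haC ((K.zero_iff a ha).1 e) : K.v a ≠ 0)
    obtain ⟨z, rfl⟩ := K.surj G hG
    set a' := z⁻¹ * a * z⁻¹⁻¹ with ha'
    set b' := z⁻¹ * b * z⁻¹⁻¹ with hb'
    have ha'R : a' ∈ R := K.conj_mem _ ha
    have hb'R : b' ∈ R := K.conj_mem _ hb
    have hva' : K.v a' = e0 := by
      rw [ha', K.conj _ a ha, ← hGv, mulVec_mulVec, ← map_mul, inv_mul_cancel, map_one, one_mulVec]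
    have hbe' : φ b' = a' * a' := by
      rw [hb', hφconj _ b hb, hbe, ha']; group
    have hcase : K.v b' = 0 ∨ K.v b' = e0 := by
      refine layer_quad _ fun g hg => ?_
      obtain ⟨hgd, hgu⟩ := stab_props g hg
      obtain ⟨p, rfl⟩ := K.surj g hgd
      have hvv : K.v a' = K.v (p * a' * p⁻¹) := by rw [K.conj p a' ha'R, hva', hgu]
      have h1 := hsqC a' ha'R _ (K.conj_mem p ha'R) hvv
      rw [show p * a' * p⁻¹ * (p * a' * p⁻¹) = p * (a' * a') * p⁻¹ by group, ← hbe', ← hφconj p b' hb'R,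
        ← hφmul b' hb'R a' ha'R] at h1
      rcases h1 with e | e
      · left
        have := hφv _ (K.conj_mem p hb'R) b' hb'R e
        rw [K.conj p b' hb'R] at this
        rw [this, CharTwo.add_self_eq_zero]
      · right
        have := hφv _ (K.conj_mem p hb'R) _ (mul_mem hb'R ha'R) e
        rw [K.conj p b' hb'R, K.add b' hb'R a' ha'R, hva'] at this
        rw [this, add_comm (K.v b' + e0), ← add_assoc, CharTwo.add_self_eq_zero, zero_add]
    have hback : ∀ x : X, z * (z⁻¹ * x * z⁻¹⁻¹) * z⁻¹ = x := fun x => by group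
    rcases hcase with e | e
    · left
      have h1 : φ b' = 1 := by rw [hφwd b' hb'R 1 R.one_mem (by rw [e, K.one]), hφC 1 C.one_mem]
      rw [hb', hφconj _ b hb, hbe] at h1
      exact conj_eq_one_iff.1 h1
    · right
      have h1 : φ b' = φ a' := hφwd b' hb'R a' ha'R (e.trans hva'.symm)
      rw [hb', ha', hφconj _ b hb, hφconj _ a ha, hbe] at h1
      exact (mul_right_inj z⁻¹).1 ((mul_left_inj z⁻¹⁻¹).1 h1)
  -- the two halves
  have hφne : ∀ a ∈ R, a ∉ C → φ a ≠ 1 := fun a ha haC h => haC (hφinj a ha h)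
  have huniq : ∀ a ∈ R, a ∉ C → ∀ b ∈ R, a * a = 1 → b * b = 1 → K.v a = K.v b → b * a⁻¹ ∈ W := by
    intro a ha haC b hb h1 h2 hv
    rcases hCdec _ (K.rel hb ha hv.symm) with h | h
    · exact h
    exfalso
    refine hφne a ha haC ?_
    have h3 : b * b = a * c * (a * c) := by
      refine hsame b hb _ (mul_mem ha hcR) ?_
      rw [show b * (a * c)⁻¹ = c * (c⁻¹ * (b * a⁻¹)) * c⁻¹ * (c * a * c⁻¹ * a⁻¹) by group]
      exact mul_mem (Normal.conj_mem inferInstance _ h c) (hφW a ha)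
    rw [hmulc a ha, h1, one_mul, h2] at h3
    exact h3.symm
  have hzeroC : ∀ a ∈ R, ∀ b ∈ R, Indep (K.v a) (K.v b) → a * b ∉ C := fun a ha b hb h e => h.2.2 (by
    have := (K.zero_iff _ (mul_mem ha hb)).2 e
    rw [K.add a ha b hb] at this
    exact CharTwo.add_eq_zero.1 this)
  have htrans : ∀ a ∈ R, ∀ b ∈ R, ∀ a' ∈ R, ∀ b' ∈ R, a * a = 1 → b * b = 1 → a' * a' = 1 → b' * b' = 1 →
      Indep (K.v a) (K.v b) → Indep (K.v a') (K.v b') → a * b * (a * b) = 1 → a' * b' * (a' * b') = 1 := by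
    intro a ha b hb a' ha' b' hb' qa qb qa' qb' hi hi' hab1
    obtain ⟨g, hg, hga, hgb⟩ := exists_pair_mat _ _ hi
    obtain ⟨g', hg', hga', hgb'⟩ := exists_pair_mat _ _ hi'
    obtain ⟨p, rfl⟩ := K.surj g hg
    obtain ⟨p', rfl⟩ := K.surj g' hg'
    set z := p' * p⁻¹ with hz
    have hcv : ∀ t, K.ρ z *ᵥ (K.ρ p *ᵥ t) = K.ρ p' *ᵥ t := fun t => by
      rw [mulVec_mulVec, ← map_mul, hz, inv_mul_cancel_right]
    have hva : K.v (z * a * z⁻¹) = K.v a' := by rw [K.conj z a ha, ← hga, hcv, hga']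
    have hvb : K.v (z * b * z⁻¹) = K.v b' := by rw [K.conj z b hb, ← hgb, hcv, hgb']
    have hsq1 : ∀ x : X, x * x = 1 → z * x * z⁻¹ * (z * x * z⁻¹) = 1 := fun x hx => by
      rw [show z * x * z⁻¹ * (z * x * z⁻¹) = z * (x * x) * z⁻¹ by group, hx, mul_one, mul_inv_cancel]
    have hC' : ∀ x ∈ R, K.v x ≠ 0 → x ∉ C := fun x hx h e => h ((K.zero_iff x hx).2 e)
    have w1 := huniq _ (K.conj_mem z ha) (hC' _ (K.conj_mem z ha) (by rw [hva]; exact hi'.1)) a' ha'
      (hsq1 a qa) qa' hva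
    have w2 := huniq _ (K.conj_mem z hb) (hC' _ (K.conj_mem z hb) (by rw [hvb]; exact hi'.2.1)) b' hb'
      (hsq1 b qb) qb' hvb
    rw [hsame (a' * b') (mul_mem ha' hb') (z * (a * b) * z⁻¹) (K.conj_mem z (mul_mem ha hb)) ?_]
    · exact hsq1 _ hab1
    · rw [show a' * b' * (z * (a * b) * z⁻¹)⁻¹ =
        a' * (b' * (z * b * z⁻¹)⁻¹) * a'⁻¹ * (a' * (z * a * z⁻¹)⁻¹) by group]
      exact mul_mem (Normal.conj_mem inferInstance _ w2 a') w1
  -- the half closed under products
  obtain ⟨P, hP1, hPc, hPxor, hPinv⟩ : ∃ P : X → Prop,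
      (∀ a ∈ R, ∀ b ∈ R, a * b⁻¹ ∈ W → P a → P b) ∧
      (∀ a ∈ R, ∀ b ∈ R, P a → P b → Indep (K.v a) (K.v b) → P (a * b)) ∧
      (∀ a ∈ R, a ∉ C → Xor' (P (a * c)) (P a)) ∧
      ∀ g : X, ∀ a ∈ R, P a → P (g * a * g⁻¹) := by
    have hinvW : ∀ a ∈ R, ∀ b ∈ R, a * b⁻¹ ∈ W → b * b = a * a ∧ φ b = φ a := fun a ha b hb h =>
      ⟨(hsame a ha b hb h).symm, (hφwd a ha b hb (by
        have := (K.zero_iff _ (mul_mem ha (inv_mem hb))).2 (hWC h)
        rw [K.add a ha _ (inv_mem hb), K.inv hb] at this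
        exact CharTwo.add_eq_zero.1 this)).symm⟩
    have hxor : ∀ a ∈ R, a ∉ C → Xor' (a * c * (a * c) = 1) (a * a = 1) := by
      intro a ha haC
      rw [hmulc a ha]
      rcases hq a ha haC with e | e
      · exact Or.inr ⟨e, by rw [e, one_mul]; exact hφne a ha haC⟩
      · exact Or.inl ⟨by rw [e, S.el _ (hφW a ha)], by rw [e]; exact hφne a ha haC⟩
    by_cases hclosed : ∀ a ∈ R, ∀ b ∈ R, a * a = 1 → b * b = 1 → Indep (K.v a) (K.v b) → a * b * (a * b) = 1
    · exact ⟨fun a => a * a = 1, fun a ha b hb h h' => (hinvW a ha b hb h).1.trans h', hclosed, hxor,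
        fun g a _ h => by
          show g * a * g⁻¹ * (g * a * g⁻¹) = 1
          rw [show g * a * g⁻¹ * (g * a * g⁻¹) = g * (a * a) * g⁻¹ by group, h, mul_one, mul_inv_cancel]⟩
    push Not at hclosed
    obtain ⟨a1, ha1, b1, hb1, qa1, qb1, hi1, hne1⟩ := hclosed
    refine ⟨fun a => a * a = φ a, fun a ha b hb h h' => by
      obtain ⟨e1, e2⟩ := hinvW a ha b hb h; show b * b = φ b; rw [e1, e2]; exact h', ?_, ?_, fun g a ha h => by
        show g * a * g⁻¹ * (g * a * g⁻¹) = φ (g * a * g⁻¹)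
        rw [show g * a * g⁻¹ * (g * a * g⁻¹) = g * (a * a) * g⁻¹ by group, h, hφconj g a ha]⟩
    · intro a ha b hb pa pb hi
      show a * b * (a * b) = φ (a * b)
      have hac : a * c * (a * c) = 1 := by rw [hmulc a ha, pa, S.el _ (hφW a ha)]
      have hbc : b * c * (b * c) = 1 := by rw [hmulc b hb, pb, S.el _ (hφW b hb)]
      have hvc : ∀ x ∈ R, K.v (x * c) = K.v x := fun x hx => by
        rw [K.add x hx c hcR, (K.zero_iff c hcR).2 hcC, add_zero]
      have hprod : a * c * (b * c) * (a * c * (b * c)) ≠ 1 := fun h => hne1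
        (htrans _ (mul_mem ha hcR) _ (mul_mem hb hcR) a1 ha1 b1 hb1 hac hbc qa1 qb1
          (by rw [hvc a ha, hvc b hb]; exact hi) hi1 h)
      rw [hsame (a * c * (b * c)) (mul_mem (mul_mem ha hcR) (mul_mem hb hcR)) (a * b) (mul_mem ha hb) ?_] at hprod
      · exact (hq _ (mul_mem ha hb) (hzeroC a ha b hb hi)).resolve_left hprod
      · rw [show a * c * (b * c) * (a * b)⁻¹ = a * (c * b * (c * b⁻¹)) * a⁻¹ by group]
        refine Normal.conj_mem inferInstance _ ?_ a
        rw [show c * b * (c * b⁻¹) = c * b * c⁻¹ * b⁻¹ * (b * (c * c) * b⁻¹) by group, hcc, mul_one, mul_inv_cancel,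
          mul_one]
        exact hφW b hb
    · intro a ha haC
      have e : φ (a * c) = φ a := by rw [hφmul a ha c hcR, hφC c hcC, mul_one]
      show Xor' (a * c * (a * c) = φ (a * c)) (a * a = φ a)
      rw [e, hmulc a ha]
      rcases hq a ha haC with e' | e'
      · exact Or.inl ⟨by rw [e', one_mul], by rw [e']; exact fun h => hφne a ha haC h.symm⟩
      · exact Or.inr ⟨e', by rw [e', S.el _ (hφW a ha)]; exact fun h => hφne a ha haC h.symm⟩
  let Q : Subgroup X :=
    { carrier := {a | a ∈ R ∧ (a ∈ W ∨ (a ∉ C ∧ P a))}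
      one_mem' := ⟨R.one_mem, Or.inl W.one_mem⟩
      mul_mem' := by
        rintro a b ⟨ha, ha'⟩ ⟨hb, hb'⟩
        refine ⟨mul_mem ha hb, ?_⟩
        rcases ha' with haW | ⟨haC, hpa⟩
        · rcases hb' with hbW | ⟨hbC, hpb⟩
          · exact Or.inl (mul_mem haW hbW)
          · refine Or.inr ⟨fun e => hbC ?_, hP1 b hb _ (mul_mem ha hb) ?_ hpb⟩
            · have := mul_mem (inv_mem (hWC haW)) e; rwa [inv_mul_cancel_left] at this
            · rw [show b * (a * b)⁻¹ = a⁻¹ by group]; exact inv_mem haW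
        rcases hb' with hbW | ⟨hbC, hpb⟩
        · refine Or.inr ⟨fun e => haC ?_, hP1 a ha _ (mul_mem ha hb) ?_ hpa⟩
          · have := mul_mem e (inv_mem (hWC hbW)); rwa [mul_inv_cancel_right] at this
          · rw [show a * (a * b)⁻¹ = a * b⁻¹ * a⁻¹ by group]
            exact Normal.conj_mem inferInstance _ (inv_mem hbW) a
        by_cases hv : K.v a = K.v b
        · left
          rcases hCdec _ (K.rel hb ha hv.symm) with h | h
          · rw [show a * b = a * (b * a⁻¹) * a⁻¹ * (a * a) by group]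
            exact mul_mem (Normal.conj_mem inferInstance _ h a) (hsq a ha)
          exfalso
          have hb2 : P (a * c) := hP1 b hb _ (mul_mem ha hcR) (by
            rw [show b * (a * c)⁻¹ = c * (c⁻¹ * (b * a⁻¹)) * c⁻¹ * (c * a * c⁻¹ * a⁻¹) by group]
            exact mul_mem (Normal.conj_mem inferInstance _ h c) (hφW a ha)) hpb
          rcases hPxor a ha haC with ⟨-, hn⟩ | ⟨-, hn⟩
          · exact hn hpa
          · exact hn hb2
        · have hi : Indep (K.v a) (K.v b) :=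
            ⟨fun e => haC ((K.zero_iff a ha).1 e), fun e => hbC ((K.zero_iff b hb).1 e), hv⟩
          exact Or.inr ⟨hzeroC a ha b hb hi, hPc a ha b hb hpa hpb hi⟩
      inv_mem' := by
        rintro a ⟨ha, haW | ⟨haC, hpa⟩⟩
        · exact ⟨inv_mem ha, Or.inl (inv_mem haW)⟩
        · exact ⟨inv_mem ha, Or.inr ⟨fun e => haC (inv_inv a ▸ inv_mem e),
            hP1 a ha _ (inv_mem ha) (by rw [inv_inv]; exact hsq a ha) hpa⟩⟩ }
  haveI : Q.Normal := ⟨fun a ha g => by
    obtain ⟨haR, haW | ⟨haC, hpa⟩⟩ := ha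
    · exact ⟨K.conj_mem g haR, Or.inl (Normal.conj_mem inferInstance a haW g)⟩
    · refine ⟨K.conj_mem g haR, Or.inr ⟨fun e => haC ?_, hPinv g a haR hpa⟩⟩
      have := Normal.conj_mem (inferInstance : C.Normal) _ e g⁻¹
      rwa [show g⁻¹ * (g * a * g⁻¹) * g⁻¹⁻¹ = a by group] at this⟩
  have hcQ : c ∉ Q := fun h => h.2.elim hcW fun e => e.1 hcC
  have hQR : Q ≤ R := fun a ha => ha.1
  have hsplit : ∀ r ∈ R, r ∈ Q ∨ r * c ∈ Q := by
    intro r hr
    by_cases hrC : r ∈ C
    · rcases hCdec r hrC with h | h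
      · exact Or.inl ⟨hr, Or.inl h⟩
      · refine Or.inr ⟨mul_mem hr hcR, Or.inl ?_⟩
        rw [show r * c = c * (c⁻¹ * r) * c⁻¹ * (c * c) by group, hcc, mul_one]
        exact Normal.conj_mem inferInstance _ h c
    · rcases hPxor r hr hrC with ⟨h, -⟩ | ⟨h, -⟩
      · refine Or.inr ⟨mul_mem hr hcR, Or.inr ⟨fun e => hrC ?_, h⟩⟩
        have := mul_mem e (inv_mem hcC)
        rwa [mul_inv_cancel_right] at this
      · exact Or.inl ⟨hr, Or.inr ⟨hrC, h⟩⟩
  refine ⟨Q, inferInstance, fun w hw => ⟨S.le hw, Or.inl hw⟩, hQR, ?_⟩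
  have hQidx : (Q.subgroupOf R).index = 2 := by
    refine index_eq_two_iff.2 ⟨⟨c, hcR⟩, fun r => ?_⟩
    show Xor' (r.1 * c ∈ Q) (r.1 ∈ Q)
    rcases hsplit r.1 r.2 with h | h
    · exact Or.inr ⟨h, fun e => hcQ (by have := mul_mem (inv_mem h) e; rwa [inv_mul_cancel_left] at this)⟩
    · exact Or.inl ⟨h, fun e => hcQ (by have := mul_mem (inv_mem e) h; rwa [inv_mul_cancel_left] at this)⟩
  have h := (Q.subgroupOf R).card_mul_index
  rw [Nat.card_congr (subgroupOfEquivOfLe hQR).toEquiv, hQidx, hcard] at h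
  omega

end Cfsg.Agent.Lie.ConstrainedLTwo
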