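import Cfsg.Agent.Lib.Lie.ConstrainedLTwo.Coord

/-!
# No cyclic Frattini subgroup of order four

A commutative core with squares in a cyclic group of order four gives an elementary section of order
thirty-two.
-/

set_option autoImplicit false
set_option linter.style.haveILetI false
set_option linter.unusedSectionVars false
set_option maxRecDepth 100000

open Subgroup Matrix
open scoped commutatorElement

namespace Cfsg.Agent.Lie.ConstrainedLTwo

universe u

/-- The Jordan block. -/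
abbrev jBit : Mat3 := !![1, 0, 0; 1, 1, 0; 0, 1, 1]
/-- A transvection with centre the last basis vector. -/
abbrev tBitOne : Mat3 := !![1, 0, 0; 0, 1, 0; 1, 0, 1]
/-- Another one. -/
abbrev tBitTwo : Mat3 := !![1, 0, 0; 0, 1, 0; 0, 1, 1]
/-- The exchange of the first two basis vectors. -/
abbrev hBit : Mat3 := !![0, 1, 0; 1, 0, 0; 0, 0, 1]
/-- A matrix moving the first transvection to the product. -/
abbrev kBit : Mat3 := !![1, 1, 0; 0, 1, 0; 0, 0, 1]

theorem bit_facts :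
    jBit.det = 1 ∧ jBit * jBit = tBitOne ∧ hBit.det = 1 ∧ hBit * hBit = 1 ∧ hBit * tBitOne * hBit = tBitTwo ∧
      kBit.det = 1 ∧ kBit * kBit = 1 ∧ kBit * tBitOne * kBit = tBitOne * tBitTwo ∧ jBit ≠ 1 ∧
      tBitOne * tBitTwo ≠ 1 ∧ tBitOne * tBitTwo * (tBitOne * tBitTwo) = 1 ∧
      (tBitOne * tBitTwo) *ᵥ e0 + e0 = ![0, 0, 1] := by
  decide +kernel

theorem bit_jfix : ∀ t : F3, jBit *ᵥ t = t → t = 0 ∨ t = ![0, 0, 1] := by decide +kernel

theorem bit_tfix : ∀ t : F3, tBitOne *ᵥ t = t → tBitTwo *ᵥ t = t → t = 0 ∨ t = ![0, 0, 1] := by decide +kernel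

theorem bit_moves : ∀ g ∈ [tBitOne, tBitTwo, jBit, hBit, kBit], ∀ t : F3, (t = 0 ∨ t = ![0, 0, 1]) →
    g *ᵥ t = t := by
  decide +kernel

theorem bit_disp : ∀ g ∈ [tBitOne, tBitTwo], ∀ t : F3, g *ᵥ t + t = 0 ∨ g *ᵥ t + t = ![0, 0, 1] := by
  decide +kernel

theorem bit_distinct : tBitOne ≠ 1 ∧ tBitTwo ≠ 1 ∧ tBitOne ≠ tBitTwo ∧ tBitOne ≠ tBitOne * tBitTwo ∧
    tBitTwo ≠ tBitOne * tBitTwo ∧ tBitOne * tBitTwo ≠ 1 := by decide +kernel

variable {X : Type u} [Group X] [Finite X] {R : Subgroup X} [R.Normal]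

/-- Conjugation on cosets of a normal subgroup. -/
def cosetConj (Z : Subgroup X) [Z.Normal] (g : X) (q : X ⧸ Z) : X ⧸ Z :=
  (g : X ⧸ Z) * q * ((g : X ⧸ Z))⁻¹

/-- The core is not `Z8 × E8`. -/
theorem eight_absurd (T : Top X R) (hab : ∀ a ∈ R, ∀ b ∈ R, a * b = b * a) (R0 : Subgroup X) [R0.Normal]
    (hR0 : R0 ≤ R) {z : X} [(zpowers z).Normal] (C : Coord R R0 (zpowers z)) (hz4 : z ^ 4 = 1) (hz2 : z * z ≠ 1)
    (hne : ∃ a ∈ R, a ∉ R0) (hidx : ∀ a ∈ R, a ∉ R0 → ∀ b ∈ R, b ∉ R0 → a * b ∈ R0)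
    (hsq0 : ∀ a ∈ R0, a * a = 1 ∨ a * a = z * z) (hsqx : ∀ a ∈ R, a ∉ R0 → a * a = z ∨ a * a = z⁻¹)
    (hcard : Nat.card R0 = 32) : False := by
  classical
  obtain ⟨hJd, hJJ, hhd, hhh, hhT, hkd, hkk, hkT, hJ1, hT31, hT33, hT3⟩ := bit_facts
  obtain ⟨d1, d2, d12, d13, d23, d3⟩ := bit_distinct
  set Z := zpowers z with hZ
  have hzR0 : z ∈ R0 := C.le (mem_zpowers z)
  have hzR : z ∈ R := hR0 hzR0
  have hzzzz : z * z * (z * z) = 1 := by
    rw [← hz4]
    simp only [pow_succ, pow_zero, one_mul, mul_assoc]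
  have hz1 : z ≠ 1 := fun e => hz2 (by rw [e, one_mul])
  have hzinv : z⁻¹ ≠ z := fun e => hz2 (by rw [← mul_inv_cancel z, e])
  have hcmR : ∀ g : X, ∀ a ∈ R, g * a * g⁻¹ ∈ R := fun g a ha => Normal.conj_mem inferInstance a ha g
  have hcm0 : ∀ g : X, ∀ a ∈ R0, g * a * g⁻¹ ∈ R0 := fun g a ha => Normal.conj_mem inferInstance a ha g
  have hsqmul : ∀ a ∈ R, ∀ b ∈ R, a * b * (a * b) = a * a * (b * b) := fun a ha b hb => by
    rw [show a * b * (a * b) = a * (b * a) * b by group, hab b hb a ha]; group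
  -- the generator of the squares is central
  have hzconj : ∀ g : X, g * z * g⁻¹ = z ∨ g * z * g⁻¹ = z⁻¹ := by
    intro g
    obtain ⟨a, ha, ha0⟩ := hne
    have h2 : g * a * g⁻¹ ∉ R0 := fun h => ha0 (by
      have := hcm0 g⁻¹ _ h
      rwa [show g⁻¹ * (g * a * g⁻¹) * g⁻¹⁻¹ = a by group] at this)
    have h3 : g * a * g⁻¹ * (g * a * g⁻¹) = g * (a * a) * g⁻¹ := by group
    have h4 := hsqx _ (hcmR g a ha) h2
    rw [h3] at h4
    rcases hsqx a ha ha0 with e | e <;> rw [e] at h4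
    · exact h4
    · have h5 : g * z * g⁻¹ = (g * z⁻¹ * g⁻¹)⁻¹ := by group
      rw [h5]
      rcases h4 with e' | e' <;> rw [e']
      · exact Or.inr rfl
      · exact Or.inl (inv_inv z)
  have hzc : ∀ g : X, g * z = z * g := by
    let f : X →* Multiplicative (ZMod 2) :=
      { toFun := fun g => Multiplicative.ofAdd (if g * z * g⁻¹ = z then 0 else 1)
        map_one' := by rw [if_pos (by group)]; rfl
        map_mul' := fun g g' => by
          have e : g * g' * z * (g * g')⁻¹ = g * (g' * z * g'⁻¹) * g⁻¹ := by group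
          have e' : g * z⁻¹ * g⁻¹ = (g * z * g⁻¹)⁻¹ := by group
          rw [e]
          rcases hzconj g' with h' | h' <;> rw [h'] <;> rcases hzconj g with h | h
          · rw [h, if_pos rfl]; rfl
          · rw [h, if_neg hzinv, if_pos rfl]; rfl
          · rw [e', h, if_neg hzinv, if_pos rfl]; rfl
          · rw [e', h, inv_inv, if_pos rfl, if_neg hzinv]; rfl }
    intro g
    have h := T.hom_trivial f (fun r hr => by
      show Multiplicative.ofAdd _ = 1
      rw [if_pos (by rw [hab r hr z hzR, mul_inv_cancel_right])]; rfl) g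
    have h' : (if g * z * g⁻¹ = z then (0 : ZMod 2) else 1) = 0 := Multiplicative.ofAdd.injective h
    by_contra hn
    rw [if_neg (fun e => hn (mul_inv_eq_iff_eq_mul.1 e))] at h'
    exact one_ne_zero h'
  have hzpow : ∀ n ∈ Z, ∀ g : X, g * n * g⁻¹ = n := by
    intro n hn g
    obtain ⟨i, rfl⟩ := mem_zpowers_iff.1 hn
    rw [← conj_zpow, mul_inv_eq_iff_eq_mul.2 (hzc g)]
  have hsqR : ∀ a ∈ R, a * a ∈ Z := fun a ha => by
    by_cases h : a ∈ R0
    · rcases hsq0 a h with e | e <;> rw [e]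
      · exact one_mem _
      · exact mul_mem (mem_zpowers z) (mem_zpowers z)
    · rcases hsqx a ha h with e | e <;> rw [e]
      · exact mem_zpowers z
      · exact inv_mem (mem_zpowers z)
  have hsqinv : ∀ g : X, ∀ a ∈ R, g * a * g⁻¹ * (g * a * g⁻¹) = a * a := fun g a ha => by
    rw [show g * a * g⁻¹ * (g * a * g⁻¹) = g * (a * a) * g⁻¹ by group]
    exact hzpow _ (hsqR a ha) g
  have hpar : ∀ a ∈ R, a * a * (a * a) = 1 → a ∈ R0 := fun a ha h => by
    by_contra h0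
    rcases hsqx a ha h0 with e | e <;> rw [e] at h
    · exact hz2 h
    · exact hz2 (inv_injective (by rw [_root_.mul_inv_rev, h, inv_one]))
  have hpar' : ∀ a ∈ R0, a * a * (a * a) = 1 := fun a ha => by
    rcases hsq0 a ha with e | e <;> rw [e]
    · exact one_mul 1
    · exact hzzzz
  -- lifts
  obtain ⟨y, hy⟩ := C.surj _ hJd
  obtain ⟨h, hh⟩ := C.surj _ hhd
  obtain ⟨k, hk⟩ := C.surj _ hkd
  have hinvρ : ∀ g : X, ∀ m : Mat3, C.ρ g = m → m * m = 1 → C.ρ g⁻¹ = m := fun g m hg hm => by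
    have h1 := congrArg C.ρ (mul_inv_cancel g)
    rw [map_mul, map_one, hg] at h1
    calc C.ρ g⁻¹ = m * m * C.ρ g⁻¹ := by rw [hm, one_mul]
      _ = m := by rw [mul_assoc, h1, mul_one]
  set e1 := y * y with he1
  have hρ1 : C.ρ e1 = tBitOne := by rw [he1, map_mul, hy, hJJ]
  set e2 := h * e1 * h⁻¹ with he2
  have hρ2 : C.ρ e2 = tBitTwo := by rw [he2, map_mul, map_mul, hh, hρ1, hinvρ h _ hh hhh, hhT]
  set e3 := k * e1 * k⁻¹ with he3
  have hρ3 : C.ρ e3 = tBitOne * tBitTwo := by rw [he3, map_mul, map_mul, hk, hρ1, hinvρ k _ hk hkk, hkT]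
  have hs : e1 * e1 ∈ R := (C.eq_one_iff _).1 (by rw [map_mul, hρ1]; decide +kernel)
  have hc : e1 * e2 * (e1 * e2) ∈ R :=
    (C.eq_one_iff _).1 (by rw [map_mul, map_mul, hρ1, hρ2, hT33])
  obtain ⟨r, hr, hrc⟩ : ∃ r ∈ R, e1 * e2 = e3 * r := by
    refine ⟨e3⁻¹ * (e1 * e2), (C.eq_one_iff _).1 ?_, by group⟩
    rw [map_mul, hinvρ e3 _ hρ3 hT33, map_mul, hρ1, hρ2, hT33]
  have hs3 : e3 * e3 = k * (e1 * e1) * k⁻¹ := by rw [he3]; group
  have hc' : e1 * e2 * (e1 * e2) = e3 * r * e3⁻¹ * (k * (e1 * e1) * k⁻¹) * r := by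
    rw [hrc, ← hs3]; group
  have hq : e1 * e2 * (e1 * e2) * (e1 * e2 * (e1 * e2)) = r * r * (r * r) * (e1 * e1 * (e1 * e1)) := by
    conv_lhs => rw [hc']
    rw [hsqmul _ (mul_mem (hcmR _ r hr) (hcmR _ _ hs)) _ hr, hsqmul _ (hcmR _ r hr) _ (hcmR _ _ hs),
      hsqinv _ r hr, hsqinv _ _ hs, mul_assoc (r * r), hab _ (mul_mem hs hs) _ (mul_mem hr hr), ← mul_assoc]
  -- the squares of the lifts are even
  have hseven : e1 * e1 ∈ R0 := by
    refine hpar _ hs ?_
    set s := e1 * e1 with hsdef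
    set c := e1 * e2 * (e1 * e2) with hcdef
    have hs2 : e2 * e2 = h * s * h⁻¹ := by rw [he2, hsdef]; group
    set t := e1 * (e2 * e2) * e1⁻¹ * s with htdef
    have hs2R : e2 * e2 ∈ R := hs2 ▸ hcmR h s hs
    have ht : t ∈ R := mul_mem (hcmR _ _ hs2R) hs
    have h1 : e2 * e1 = (e1 * e2)⁻¹ * t := by rw [htdef, hsdef]; group
    have h2 : e1 * c * e1⁻¹ = s * ((e2 * e1) * (e2 * e1)) * s⁻¹ := by rw [hcdef, hsdef]; group
    have h3 : (e2 * e1) * (e2 * e1) = (e1 * e2)⁻¹ * t * (e1 * e2)⁻¹⁻¹ * c⁻¹ * t := by rw [h1, hcdef]; group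
    have hA : (e1 * e2)⁻¹ * t * (e1 * e2)⁻¹⁻¹ ∈ R := hcmR _ t ht
    have h4 : (e2 * e1) * (e2 * e1) ∈ R := h3 ▸ mul_mem (mul_mem hA (inv_mem hc)) ht
    have h5 : c * c = (e2 * e1) * (e2 * e1) * ((e2 * e1) * (e2 * e1)) := by
      rw [← hsqinv e1 c hc, h2, hab s hs _ h4, mul_inv_cancel_right]
    rw [h3, hsqmul _ (mul_mem hA (inv_mem hc)) _ ht, hsqmul _ hA _ (inv_mem hc), hsqinv _ t ht] at h5
    have h6 : t * t = s * s * (s * s) := by
      rw [htdef, hsqmul _ (hcmR _ _ hs2R) _ hs, hsqinv _ _ hs2R, hs2, hsqinv _ _ hs]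
    have h7 : c * c * (c * c) = 1 := by
      calc c * c * (c * c) = t * t * (c⁻¹ * c⁻¹) * (t * t) * (c * c) := by rw [← h5]
        _ = t * t * (c⁻¹ * c⁻¹ * (c * c)) * (t * t) := by
          rw [mul_assoc (t * t * (c⁻¹ * c⁻¹)), hab _ (mul_mem ht ht) _ (mul_mem hc hc)]; group
        _ = s * s * (s * s) * (s * s * (s * s)) := by rw [h6]; group
        _ = 1 := by
          obtain ⟨i, hi⟩ := mem_zpowers_iff.1 (hsqR s hs)
          rw [← hi, ← _root_.zpow_add, ← _root_.zpow_add, show i + i + (i + i) = 4 * i by ring, _root_.zpow_mul,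
            zpow_ofNat, hz4, _root_.one_zpow]
    have h8 := hpar' c (hpar c hc h7)
    rw [hq, hsqmul _ (mul_mem (mul_mem hr hr) (mul_mem hr hr)) _ (mul_mem hs hs)] at h8
    -- the fourth power of `r` has order at most two
    have h9 : r * r * (r * r) * (r * r * (r * r)) = 1 := by
      obtain ⟨i, hi⟩ := mem_zpowers_iff.1 (hsqR r hr)
      rw [← hi, ← _root_.zpow_add, ← _root_.zpow_add, show i + i + (i + i) = 4 * i by ring, _root_.zpow_mul,
        zpow_ofNat, hz4, _root_.one_zpow]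
    rw [h9, one_mul] at h8
    exact h8
  have hceven : e1 * e2 * (e1 * e2) ∈ R0 := by
    refine hpar _ hc ?_
    rw [hq, hsqmul _ (mul_mem (mul_mem hr hr) (mul_mem hr hr)) _ (mul_mem hs hs), hpar' _ hseven, mul_one]
    obtain ⟨i, hi⟩ := mem_zpowers_iff.1 (hsqR r hr)
    rw [← hi, ← _root_.zpow_add, ← _root_.zpow_add, show i + i + (i + i) = 4 * i by ring, _root_.zpow_mul,
      zpow_ofNat, hz4, _root_.one_zpow]
  -- the elements over the centre of the transvections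
  let P : Set X := {a | a ∈ R0 ∧ (C.v a = 0 ∨ C.v a = ![0, 0, 1])}
  have hPfix : ∀ g : X, C.ρ g = jBit → ∀ a ∈ P, g * g * a = a * (g * g) := by
    intro g hg a ha
    have hv : C.v (g * a * g⁻¹) = C.v a := by rw [C.conj g a ha.1, hg, bit_moves _ (by simp) _ ha.2]
    have hZ' := C.rel (hcm0 g a ha.1) ha.1 hv
    set n := g * a * g⁻¹ * a⁻¹ with hn
    have hga : g * a * g⁻¹ = n * a := by rw [hn]; group
    have hn2 : n * n = 1 := by
      have h1 := hsqinv g a (hR0 ha.1)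
      rw [hga, hsqmul n (hR0 (C.le hZ')) a (hR0 ha.1)] at h1
      exact mul_eq_right.1 h1
    calc g * g * a = g * (g * a * g⁻¹) * g⁻¹ * (g * g) := by group
      _ = (g * n * g⁻¹) * (g * a * g⁻¹) * (g * g) := by conv_lhs => rw [hga]
                                                        group
      _ = n * (n * a) * (g * g) := by rw [hzpow n hZ' g, hga]
      _ = a * (g * g) := by rw [← mul_assoc n n a, hn2, one_mul]
  have hP1 : ∀ a ∈ P, e1 * a = a * e1 := hPfix y hy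
  have hP2 : ∀ a ∈ P, e2 * a = a * e2 := by
    intro a ha
    have hv : h⁻¹ * a * h⁻¹⁻¹ ∈ P :=
      ⟨hcm0 h⁻¹ a ha.1, by rw [C.conj h⁻¹ a ha.1, hinvρ h _ hh hhh, bit_moves _ (by simp) _ ha.2]; exact ha.2⟩
    have h1 := hP1 _ hv
    rw [he2]
    calc h * e1 * h⁻¹ * a = h * (e1 * (h⁻¹ * a * h⁻¹⁻¹)) * h⁻¹ := by group
      _ = _ := by rw [h1]; group
  have hsP : e1 * e1 ∈ P := by
    refine ⟨hseven, bit_jfix _ ?_⟩
    rw [← hy, ← C.conj y _ hseven]
    congr 1
    rw [he1]; group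
  have hs2P : e2 * e2 ∈ P := by
    have e : e2 * e2 = h * (e1 * e1) * h⁻¹ := by rw [he2]; group
    rw [e]
    exact ⟨hcm0 _ _ hseven, by rw [C.conj h _ hseven, hh, bit_moves _ (by simp) _ hsP.2]; exact hsP.2⟩
  -- the product squared is an involution over the centre
  have key : ∀ f1 f2 : X, C.ρ f1 = tBitOne → C.ρ f2 = tBitTwo → (∀ a ∈ P, f1 * a = a * f1) →
      (∀ a ∈ P, f2 * a = a * f2) → f1 * f1 ∈ P → f2 * f2 ∈ P → f1 * f1 * (f1 * f1) = f2 * f2 * (f2 * f2) →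
      f1 * f2 * (f1 * f2) ∈ R0 → f1 * f2 * (f1 * f2) ∈ P ∧
        f1 * f2 * (f1 * f2) * (f1 * f2 * (f1 * f2)) = 1 := by
    intro f1 f2 g1 g2 p1 p2 q1 q2 qq hc0
    set s1 := f1 * f1 with hs1
    set s2 := f2 * f2 with hs2
    set c := f1 * f2 * (f1 * f2) with hcd
    have hs1R : s1 ∈ R := hR0 q1.1
    have hs2R : s2 ∈ R := hR0 q2.1
    have hm : s1 * s2 * (s1 * s2) = 1 := by
      rw [hsqmul _ hs1R _ hs2R, ← qq, hpar' _ q1.1]
    have h21 : f2 * f1 = (f1 * f2)⁻¹ * (s1 * s2) := by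
      rw [eq_inv_mul_iff_mul_eq, show f1 * f2 * (f2 * f1) = f1 * s2 * f1 by rw [hs2]; group, p1 _ q2,
        mul_assoc, ← hs1, hab _ hs2R _ hs1R]
    have hcomm : (f1 * f2)⁻¹ * (s1 * s2) = s1 * s2 * (f1 * f2)⁻¹ := by
      have e : f1 * f2 * (s1 * s2) = s1 * s2 * (f1 * f2) := by
        calc f1 * f2 * (s1 * s2) = f1 * (f2 * s1) * s2 := by group
          _ = f1 * s1 * (f2 * s2) := by rw [p2 _ q1]; group
          _ = f1 * s1 * (s2 * f2) := by rw [p2 _ q2]
          _ = s1 * (f1 * s2) * f2 := by rw [p1 _ q1]; group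
          _ = _ := by rw [p1 _ q2]; group
      rw [eq_mul_inv_iff_mul_eq, mul_assoc, ← e]; group
    have hinv : c⁻¹ = f2 * f1 * (f2 * f1) := by
      rw [h21]
      conv_rhs => rw [mul_assoc, ← mul_assoc (s1 * s2), ← hcomm]
      rw [mul_assoc, hm, mul_one, hcd]; group
    have h1 : f1 * c * f1⁻¹ = c⁻¹ := by
      rw [hinv]
      calc f1 * c * f1⁻¹ = s1 * (f2 * f1 * (f2 * f1)) * s1⁻¹ := by rw [hcd, hs1]; group
        _ = _ := by rw [hab _ hs1R _ (hinv ▸ inv_mem (hR0 hc0)), mul_inv_cancel_right]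
    have h2 : f2 * c * f2⁻¹ = c⁻¹ := by rw [hinv, hcd]; group
    have hvc : C.v c = 0 ∨ C.v c = ![0, 0, 1] := by
      refine bit_tfix _ ?_ ?_
      · rw [← g1, ← C.conj f1 c hc0, h1, C.inv hc0]
      · rw [← g2, ← C.conj f2 c hc0, h2, C.inv hc0]
    refine ⟨⟨hc0, hvc⟩, ?_⟩
    have h3 : f1 * c * f1⁻¹ = c := by rw [p1 c ⟨hc0, hvc⟩, mul_inv_cancel_right]
    rw [h1] at h3
    nth_rw 1 [← h3]
    rw [inv_mul_cancel]
  -- involutory squares
  obtain ⟨f1, f2, g1, g2, p1, p2, q1, q2, q11, q22, hc0⟩ : ∃ f1 f2 : X, C.ρ f1 = tBitOne ∧ C.ρ f2 = tBitTwo ∧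
      (∀ a ∈ P, f1 * a = a * f1) ∧ (∀ a ∈ P, f2 * a = a * f2) ∧ f1 * f1 ∈ P ∧ f2 * f2 ∈ P ∧
      f1 * f1 * (f1 * f1) = 1 ∧ f2 * f2 * (f2 * f2) = 1 ∧ f1 * f2 * (f1 * f2) ∈ R0 := by
    have hq2 : e2 * e2 * (e2 * e2) = e1 * e1 * (e1 * e1) := by
      rw [show e2 * e2 = h * (e1 * e1) * h⁻¹ by rw [he2]; group]
      exact hsqinv _ _ hs
    rcases hsq0 _ hseven with h0 | h0
    · exact ⟨e1, e2, hρ1, hρ2, hP1, hP2, hsP, hs2P, h0, hq2.trans h0, hceven⟩
    obtain ⟨hcP, hc1⟩ := key e1 e2 hρ1 hρ2 hP1 hP2 hsP hs2P hq2.symm hceven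
    rw [hq, h0] at hc1
    have hrodd : r ∉ R0 := fun hr0 => hz2 (by rw [hpar' r hr0, one_mul] at hc1; exact hc1)
    obtain ⟨o, ho, hov⟩ := C.lift e0
    -- the product lift fixes a coset
    set d := e3 * r * e3⁻¹ * r⁻¹ with hddef
    have hr0' : e3 * r * e3⁻¹ ∉ R0 := fun e => hrodd (by
      have := hcm0 e3⁻¹ _ e
      rwa [show e3⁻¹ * (e3 * r * e3⁻¹) * e3⁻¹⁻¹ = r by group] at this)
    have hrinv : r⁻¹ ∉ R0 := fun e => hrodd (inv_inv r ▸ inv_mem e)
    have hd0 : d ∈ R0 := hidx _ (hcmR e3 r hr) hr0' _ (inv_mem hr) hrinv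
    have hks : k * (e1 * e1) * k⁻¹ ∈ P :=
      ⟨hcm0 _ _ hseven, by rw [C.conj k _ hseven, hk, bit_moves _ (by simp) _ hsP.2]; exact hsP.2⟩
    have hrr : r * r ∈ R0 := C.le (hsqR r hr)
    have hdv : C.v d = 0 ∨ C.v d = ![0, 0, 1] := by
      have e : e1 * e2 * (e1 * e2) = d * (r * r) * (k * (e1 * e1) * k⁻¹) := by
        have e' : d * (r * r) = e3 * r * e3⁻¹ * r := by rw [hddef]; group
        rw [hc', e', mul_assoc _ _ r, hab _ (hR0 hks.1) r hr, ← mul_assoc]
      have hv := congrArg C.v e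
      rw [C.add _ (mul_mem hd0 hrr) _ hks.1, C.add _ hd0 _ hrr, (C.zero_iff _ hrr).2 (hsqR r hr), add_zero] at hv
      generalize C.v d = u at hv ⊢
      rcases hcP.2 with e1' | e1' <;> rcases hks.2 with e2' | e2' <;> rw [e1', e2'] at hv <;>
        (revert hv; revert u; decide +kernel)
    obtain ⟨a, haR, ha0, haZ⟩ : ∃ a, a ∈ R ∧ a ∉ R0 ∧ e3 * a * e3⁻¹ * a⁻¹ ∈ Z := by
      rcases hdv with e | e
      · exact ⟨r, hr, hrodd, (C.zero_iff d hd0).1 e⟩
      · refine ⟨r * o, mul_mem hr (hR0 ho), fun e' => hrodd (by simpa using mul_mem e' (inv_mem ho)), ?_⟩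
        have hdo : e3 * o * e3⁻¹ * o⁻¹ ∈ R0 := mul_mem (hcm0 _ o ho) (inv_mem ho)
        have e' : e3 * (r * o) * e3⁻¹ * (r * o)⁻¹ = d * (e3 * o * e3⁻¹ * o⁻¹) := by
          calc _ = e3 * r * e3⁻¹ * ((e3 * o * e3⁻¹ * o⁻¹) * r⁻¹) := by group
            _ = _ := by rw [hab _ (hR0 hdo) _ (inv_mem hr), hddef]; group
        rw [e']
        refine (C.zero_iff _ (mul_mem hd0 hdo)).1 ?_
        rw [C.add _ hd0 _ hdo, C.add _ (hcm0 _ o ho) _ (inv_mem ho), C.inv ho, C.conj _ o ho, hov, hρ3, hT3, e]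
        decide +kernel
    -- hence a fixed coset
    let α : Type u := {q : X ⧸ Z // ∃ b ∈ R, b ∉ R0 ∧ (b : X ⧸ Z) = q}
    letI : MulAction X α :=
      { smul := fun g q => ⟨cosetConj Z g q.1, by
          obtain ⟨b, hb, hb0, e⟩ := q.2
          refine ⟨g * b * g⁻¹, hcmR g b hb, fun e' => hb0 (by
            have := hcm0 g⁻¹ _ e'
            rwa [show g⁻¹ * (g * b * g⁻¹) * g⁻¹⁻¹ = b by group] at this), ?_⟩
          rw [← e]; rfl⟩
        one_smul := fun q => Subtype.ext (by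
          show cosetConj Z 1 q.1 = q.1
          rw [cosetConj, QuotientGroup.mk_one, inv_one, one_mul, mul_one])
        mul_smul := fun g g' q => Subtype.ext (by
          show cosetConj Z (g * g') q.1 = cosetConj Z g (cosetConj Z g' q.1)
          rw [cosetConj, cosetConj, cosetConj, QuotientGroup.mk_mul, _root_.mul_inv_rev]; group) }
    have hα : Nat.card α = 8 := by
      choose lv hlv hlvv using C.lift
      let f : F3 → α := fun t => ⟨((r * lv t : X) : X ⧸ Z), r * lv t, mul_mem hr (hR0 (hlv t)),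
        fun e => hrodd (by simpa using mul_mem e (inv_mem (hlv t))), rfl⟩
      have hf : Function.Bijective f := by
        refine ⟨fun s t e => ?_, fun q => ?_⟩
        · have e' : (r * lv s)⁻¹ * (r * lv t) ∈ Z := (QuotientGroup.eq).1 (congrArg Subtype.val e)
          rw [show (r * lv s)⁻¹ * (r * lv t) = (lv s)⁻¹ * lv t by group] at e'
          have := (C.zero_iff _ (mul_mem (inv_mem (hlv s)) (hlv t))).2 e'
          rw [C.add _ (inv_mem (hlv s)) _ (hlv t), C.inv (hlv s), hlvv, hlvv] at this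
          exact CharTwo.add_eq_zero.1 this
        · obtain ⟨b, hb, hb0, e⟩ := q.2
          have hrb : r⁻¹ * b ∈ R0 := hidx _ (inv_mem hr) hrinv b hb hb0
          refine ⟨C.v (r⁻¹ * b), Subtype.ext ?_⟩
          rw [← e]
          refine (QuotientGroup.eq).2 ?_
          rw [show (r * lv (C.v (r⁻¹ * b)))⁻¹ * b = (lv (C.v (r⁻¹ * b)))⁻¹ * (r⁻¹ * b) by group]
          refine (C.zero_iff _ (mul_mem (inv_mem (hlv _)) hrb)).1 ?_
          rw [C.add _ (inv_mem (hlv _)) _ hrb, C.inv (hlv _), hlvv, CharTwo.add_self_eq_zero]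
      rw [← Nat.card_congr (Equiv.ofBijective f hf), Nat.card_eq_fintype_card]
      decide +kernel
    have hRact : ∀ g ∈ R, ∀ q : α, g • q = q := by
      intro g hg q
      obtain ⟨b, hb, -, e⟩ := q.2
      refine Subtype.ext ?_
      show cosetConj Z g q.1 = q.1
      rw [← e, cosetConj, ← QuotientGroup.mk_inv, ← QuotientGroup.mk_mul, ← QuotientGroup.mk_mul,
        hab g hg b hb, mul_inv_cancel_right]
    have hfix : e3 • (⟨(a : X ⧸ Z), a, haR, ha0, rfl⟩ : α) = ⟨(a : X ⧸ Z), a, haR, ha0, rfl⟩ := by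
      refine Subtype.ext ?_
      show cosetConj Z e3 (a : X ⧸ Z) = (a : X ⧸ Z)
      rw [cosetConj, ← QuotientGroup.mk_inv, ← QuotientGroup.mk_mul, ← QuotientGroup.mk_mul,
        ← mul_inv_eq_one, ← QuotientGroup.mk_inv, ← QuotientGroup.mk_mul]
      exact (QuotientGroup.eq_one_iff _).2 haZ
    obtain ⟨⟨q, x, hxR, hx0, hxq⟩, hxfix⟩ := T.exists_fixed hα hRact e3
      (fun e => hT31 (hρ3 ▸ (C.eq_one_iff e3).2 e))
      ((C.eq_one_iff _).1 (by rw [map_mul, hρ3, hT33])) _ hfix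
    -- the fixed coset is centralised
    have hxZ : ∀ g : X, g * x * g⁻¹ * x⁻¹ ∈ Z := fun g => by
      refine (QuotientGroup.eq_one_iff _).1 ?_
      rw [QuotientGroup.mk_mul, QuotientGroup.mk_mul, QuotientGroup.mk_mul, QuotientGroup.mk_inv,
        QuotientGroup.mk_inv, mul_inv_eq_one, hxq]
      exact congrArg Subtype.val (hxfix g)
    letI : CommGroup Z := { (inferInstance : Group Z) with
      mul_comm := fun p q => Subtype.ext (hab _ (hR0 (C.le p.2)) _ (hR0 (C.le q.2))) }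
    let fx : X →* Z :=
      { toFun := fun g => ⟨g * x * g⁻¹ * x⁻¹, hxZ g⟩
        map_one' := Subtype.ext (by show 1 * x * (1 : X)⁻¹ * x⁻¹ = 1; group)
        map_mul' := fun g g' => Subtype.ext (by
          show g * g' * x * (g * g')⁻¹ * x⁻¹ = g * x * g⁻¹ * x⁻¹ * (g' * x * g'⁻¹ * x⁻¹)
          have h1 := hzpow _ (hxZ g') g
          calc g * g' * x * (g * g')⁻¹ * x⁻¹ = g * (g' * x * g'⁻¹ * x⁻¹) * g⁻¹ * (g * x * g⁻¹ * x⁻¹) := by group
            _ = _ := by rw [h1, hab _ (hR0 (C.le (hxZ g'))) _ (hR0 (C.le (hxZ g)))]) }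
    have hxc : ∀ g : X, g * x = x * g := fun g => by
      have h1 : g * x * g⁻¹ * x⁻¹ = 1 := congrArg Subtype.val (T.hom_trivial fx (fun p hp =>
        Subtype.ext (show p * x * p⁻¹ * x⁻¹ = 1 by
          rw [hab p hp x hxR, mul_inv_cancel_right, mul_inv_cancel])) g)
      exact mul_inv_eq_iff_eq_mul.1 (mul_inv_eq_one.1 h1)
    have hρx : C.ρ x = 1 := (C.eq_one_iff x).2 hxR
    have hxxP : x * x ∈ P :=
      ⟨C.le (hsqR x hxR), Or.inl ((C.zero_iff _ (C.le (hsqR x hxR))).2 (hsqR x hxR))⟩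
    have hx4 : x * x * (x * x) = z * z := by
      rcases hsqx x hxR hx0 with e' | e' <;> rw [e']
      rw [← _root_.mul_inv_rev]
      exact inv_eq_of_mul_eq_one_right hzzzz
    have hsq' : ∀ e : X, e * x * (e * x) = e * e * (x * x) := fun e => by
      rw [show e * x * (e * x) = e * (x * e) * x by group, ← hxc e]; group
    have hshiftP : ∀ p ∈ P, p * (x * x) ∈ P := fun p hp => ⟨mul_mem hp.1 hxxP.1, by
      rw [C.add _ hp.1 _ hxxP.1, (C.zero_iff _ hxxP.1).2 (hsqR x hxR), add_zero]; exact hp.2⟩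
    have h4 : ∀ p ∈ R, p * p = z * z → p * (x * x) * (p * (x * x)) = 1 := fun p hp e => by
      rw [hsqmul _ hp _ (mul_mem hxR hxR), e, hx4]; exact hzzzz
    refine ⟨e1 * x, e2 * x, by rw [map_mul, hρ1, hρx, mul_one], by rw [map_mul, hρ2, hρx, mul_one],
      fun p hp => ?_, fun p hp => ?_, hsq' e1 ▸ hshiftP _ hsP, hsq' e2 ▸ hshiftP _ hs2P,
      hsq' e1 ▸ h4 _ hs h0, hsq' e2 ▸ h4 _ (hR0 hs2P.1) (hq2.trans h0), ?_⟩
    · rw [mul_assoc, ← hxc p, ← mul_assoc, hP1 p hp, mul_assoc]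
    · rw [mul_assoc, ← hxc p, ← mul_assoc, hP2 p hp, mul_assoc]
    · rw [show e1 * x * (e2 * x) = e1 * (x * e2) * x by group, ← hxc e2,
        show e1 * (e2 * x) * x = e1 * e2 * (x * x) by group]
      rw [show e1 * e2 * (x * x) * (e1 * e2 * (x * x)) = e1 * e2 * ((x * x) * (e1 * e2)) * (x * x) by group,
        show x * x * (e1 * e2) = e1 * e2 * (x * x) by
          rw [mul_assoc, ← hxc (e1 * e2), ← mul_assoc, ← hxc (e1 * e2), mul_assoc]]
      rw [show e1 * e2 * (e1 * e2 * (x * x)) * (x * x) = e1 * e2 * (e1 * e2) * (x * x * (x * x)) by group, hx4]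
      exact mul_mem hceven (mul_mem hzR0 hzR0)
  obtain ⟨hcP, hc1⟩ := key f1 f2 g1 g2 p1 p2 q1 q2 (q11.trans q22.symm) hc0
  -- the section
  let M : Subgroup X :=
    { carrier := {a | a ∈ P ∧ a * a = 1}
      one_mem' := ⟨⟨R0.one_mem, Or.inl C.one⟩, one_mul 1⟩
      mul_mem' := fun {a b} ha hb => ⟨⟨mul_mem ha.1.1 hb.1.1, by
          rw [C.add a ha.1.1 b hb.1.1]
          rcases ha.1.2 with e | e <;> rcases hb.1.2 with e' | e' <;> rw [e, e'] <;> decide⟩,
        by rw [hsqmul a (hR0 ha.1.1) b (hR0 hb.1.1), ha.2, hb.2, one_mul]⟩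
      inv_mem' := fun {a} ha => ⟨⟨inv_mem ha.1.1, by rw [C.inv ha.1.1]; exact ha.1.2⟩,
        by rw [← _root_.mul_inv_rev, ha.2, inv_one]⟩ }
  have hcomm0 : ∀ f : X, ∀ g ∈ [tBitOne, tBitTwo], C.ρ f = g → ∀ a ∈ R0, ⁅f, a⁆ ∈ M := by
    intro f g hg hf a ha
    rw [commutatorElement_def]
    refine ⟨⟨mul_mem (hcm0 f a ha) (inv_mem ha), ?_⟩, ?_⟩
    · rw [C.add _ (hcm0 f a ha) _ (inv_mem ha), C.inv ha, C.conj f a ha, hf]
      exact bit_disp g hg _
    · rw [hsqmul _ (hcmR f a (hR0 ha)) _ (inv_mem (hR0 ha)), hsqinv f a (hR0 ha)]; group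
  have hff : ⁅f1, f2⁆ ∈ M := by
    have e : ⁅f1, f2⁆ = f1 * f2 * (f1 * f2) * (f2⁻¹ * (f1 * f1)⁻¹ * f2) * (f2 * f2)⁻¹ := by
      rw [commutatorElement_def]; group
    have e' : f2⁻¹ * (f1 * f1)⁻¹ * f2 = (f1 * f1)⁻¹ := by
      calc f2⁻¹ * (f1 * f1)⁻¹ * f2 = (f2⁻¹ * (f1 * f1) * f2)⁻¹ := by group
        _ = (f1 * f1)⁻¹ := by rw [mul_assoc, ← p2 _ q1, inv_mul_cancel_left]
    rw [e, e']
    exact mul_mem (mul_mem ⟨hcP, hc1⟩ (inv_mem ⟨q1, q11⟩)) (inv_mem ⟨q2, q22⟩)
  let S : Set X := (R0 : Set X) ∪ {f1, f2}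
  refine section_absurd T.rank (closure S) M S rfl (fun a ha => subset_closure (Or.inl ha.1.1)) ?_ ?_ ?_ ?_
  · rintro s (hs | rfl | rfl) a ha
    · exact hab s (hR0 hs) a (hR0 ha.1.1)
    · exact p1 a ha.1
    · exact p2 a ha.1
  · rintro s (hs | rfl | rfl)
    · have := hsqR s (hR0 hs)
      exact ⟨⟨C.le this, Or.inl ((C.zero_iff _ (C.le this)).2 this)⟩, hpar' s hs⟩
    · exact ⟨q1, q11⟩
    · exact ⟨q2, q22⟩
  · have hsym : ∀ a b : X, ⁅a, b⁆ ∈ M → ⁅b, a⁆ ∈ M := fun a b e => by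
      rw [← commutatorElement_inv]; exact inv_mem e
    rintro s (hs | rfl | rfl) t (ht | rfl | rfl)
    · rw [commutatorElement_eq_one_iff_mul_comm.2 (hab s (hR0 hs) t (hR0 ht))]; exact one_mem _
    · exact hsym _ _ (hcomm0 _ _ (by simp) g1 s hs)
    · exact hsym _ _ (hcomm0 _ _ (by simp) g2 s hs)
    · exact hcomm0 _ _ (by simp) g1 t ht
    · rw [commutatorElement_self]; exact one_mem _
    · exact hff
    · exact hcomm0 _ _ (by simp) g2 t ht
    · exact hsym _ _ hff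
    · rw [commutatorElement_self]; exact one_mem _
  · have hM4 : Nat.card M ≤ 4 := by
      let f : M → {t : F3 // t = 0 ∨ t = ![0, 0, 1]} := fun m => ⟨C.v m.1, m.2.1.2⟩
      let g : {t : F3 // t = 0 ∨ t = ![0, 0, 1]} → X := fun t =>
        if h : ∃ m : M, C.v m.1 = t.1 then h.choose.1 else 1
      let F : M → {t : F3 // t = 0 ∨ t = ![0, 0, 1]} × Bool := fun m => (f m, decide (m.1 = g (f m)))
      have hF : Function.Injective F := by
        intro m m' e
        obtain ⟨e1', e2'⟩ := Prod.ext_iff.1 e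
        simp only [F] at e1' e2'
        have hvv : C.v m.1 = C.v m'.1 := congrArg Subtype.val e1'
        have hex : ∃ n : M, C.v n.1 = (f m).1 := ⟨m, rfl⟩
        have hg1 : g (f m) = hex.choose.1 := dif_pos hex
        have hn := hex.choose_spec
        have hcl : ∀ m'' : M, C.v m''.1 = C.v m.1 → m''.1 ≠ g (f m) → m''.1 = g (f m) * (z * z) := by
          intro m'' hv hne'
          rw [hg1] at hne' ⊢
          have hk := C.rel m''.2.1.1 hex.choose.2.1.1 (hv.trans hn.symm)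
          have hq' : m''.1 * hex.choose.1⁻¹ * (m''.1 * hex.choose.1⁻¹) = 1 := by
            rw [hsqmul _ (hR0 m''.2.1.1) _ (inv_mem (hR0 hex.choose.2.1.1)), m''.2.2, one_mul,
              ← _root_.mul_inv_rev, hex.choose.2.2, inv_one]
          generalize hgen : m''.1 * hex.choose.1⁻¹ = n at hk hq'
          have hm'' : m''.1 = n * hex.choose.1 := by rw [← hgen]; group
          have hn' : n = 1 ∨ n = z * z := by
            obtain ⟨i, rfl⟩ := mem_zpowers_iff.1 hk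
            rcases Int.even_or_odd i with ⟨j, rfl⟩ | ⟨j, rfl⟩
            · rcases Int.even_or_odd j with ⟨l, rfl⟩ | ⟨l, rfl⟩
              · left
                rw [show l + l + (l + l) = 4 * l by ring, _root_.zpow_mul, zpow_ofNat, hz4, _root_.one_zpow]
              · right
                rw [show 2 * l + 1 + (2 * l + 1) = 4 * l + 2 by ring, _root_.zpow_add, _root_.zpow_mul,
                  zpow_ofNat, hz4, _root_.one_zpow, one_mul, zpow_ofNat, pow_two]
            · exfalso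
              rw [← _root_.zpow_add, show 2 * j + 1 + (2 * j + 1) = 4 * j + 2 by ring, _root_.zpow_add,
                _root_.zpow_mul, zpow_ofNat, hz4, _root_.one_zpow, one_mul, zpow_ofNat, pow_two] at hq'
              exact hz2 hq'
          rcases hn' with rfl | rfl
          · exact absurd (by rw [hm'', one_mul]) hne'
          · rw [hm'', hab _ (hR0 (mul_mem hzR0 hzR0)) _ (hR0 hex.choose.2.1.1)]
        by_cases hm : m.1 = g (f m)
        · have h2 : decide (m'.1 = g (f m')) = true := by rw [← e2']; simpa using hm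
          rw [← e1'] at h2
          exact Subtype.ext (hm.trans (of_decide_eq_true h2).symm)
        · have h2 : decide (m'.1 = g (f m')) = false := by rw [← e2']; simpa using hm
          rw [← e1'] at h2
          exact Subtype.ext ((hcl m rfl hm).trans (hcl m' hvv.symm (of_decide_eq_false h2)).symm)
      refine (Nat.card_le_card_of_injective F hF).trans ?_
      rw [Nat.card_eq_fintype_card]
      decide +kernel
    let g : Bool × Bool × R0 → closure S := fun p =>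
      ⟨(bif p.1 then f1 else 1) * (bif p.2.1 then f2 else 1) * p.2.2.1, mul_mem (mul_mem
        (by cases p.1 <;> first | exact one_mem _ | exact subset_closure (Or.inr (Or.inl rfl)))
        (by cases p.2.1 <;> first | exact one_mem _ | exact subset_closure (Or.inr (Or.inr rfl))))
        (subset_closure (Or.inl p.2.2.2))⟩
    have hg : Function.Injective g := by
      rintro ⟨i, j, p⟩ ⟨i', j', p'⟩ e
      have e1' : (bif i then f1 else 1) * (bif j then f2 else 1) * p.1 =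
          (bif i' then f1 else 1) * (bif j' then f2 else 1) * p'.1 := congrArg Subtype.val e
      have e2' := congrArg C.ρ e1'
      simp only [map_mul, (C.eq_one_iff _).2 (hR0 p.2), (C.eq_one_iff _).2 (hR0 p'.2), mul_one] at e2'
      have hij : i = i' ∧ j = j' := by
        cases i <;> cases j <;> cases i' <;> cases j' <;>
          simp only [cond_true, cond_false, map_one, g1, g2, one_mul, mul_one] at e2' <;>
          first
            | exact ⟨rfl, rfl⟩
            | (exfalso; revert e2'; decide +kernel)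
      obtain ⟨rfl, rfl⟩ := hij
      rw [show p = p' from Subtype.ext (mul_left_cancel e1')]
    have hle := Nat.card_le_card_of_injective g hg
    rw [Nat.card_prod, Nat.card_prod, hcard, Nat.card_eq_fintype_card, Fintype.card_bool] at hle
    omega

end Cfsg.Agent.Lie.ConstrainedLTwo
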