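import Cfsg.Agent.Lib.Lie.ConstrainedLTwo.Middle
import Cfsg.Agent.Lib.Lie.ConstrainedLTwo.Eight

/-!
# The branches over a minimal normal subgroup
-/

set_option autoImplicit false
set_option linter.style.haveILetI false
set_option linter.unusedSectionVars false
set_option maxRecDepth 100000

open Subgroup Matrix
open scoped commutatorElement

namespace Cfsg.Agent.Lie.ConstrainedLTwo

universe u

variable {X : Type u} [Group X] [Finite X] {R : Subgroup X} [R.Normal]

/-- A map centralising two factors of a series centralises their extension. -/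
theorem chain_trivial (T : Top X R) (W C : Subgroup X) [W.Normal] [C.Normal] (hCR : C ≤ R)
    (hC : ∀ g : X, ∀ n ∈ C, g * n * g⁻¹ * n⁻¹ ∈ W) (a : X) (ha : ∀ g : X, g * a * g⁻¹ * a⁻¹ ∈ C)
    (hRa : ∀ r ∈ R, r * a * r⁻¹ * a⁻¹ ∈ W) (g : X) : g * a * g⁻¹ * a⁻¹ ∈ W := by
  let π := QuotientGroup.mk' W
  have hcen : ∀ n ∈ C, ∀ p : X, π p * π n = π n * π p := fun n hn p => by
    rw [← mul_inv_eq_iff_eq_mul, ← mul_inv_eq_one, ← map_inv, ← map_inv, ← map_mul, ← map_mul, ← map_mul]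
    exact (QuotientGroup.eq_one_iff _).2 (hC p n hn)
  letI : CommGroup ↥(C.map π) :=
    { (inferInstance : Group ↥(C.map π)) with
      mul_comm := fun p q => Subtype.ext (by
        obtain ⟨n, hn, e⟩ := p.2
        obtain ⟨n', -, e'⟩ := q.2
        show p.1 * q.1 = q.1 * p.1
        rw [← e, ← e']
        exact (hcen n hn n').symm) }
  let f : X →* ↥(C.map π) :=
    { toFun := fun g => ⟨π (g * a * g⁻¹ * a⁻¹), mem_map_of_mem π (ha g)⟩
      map_one' := Subtype.ext (by
        show π (1 * a * (1 : X)⁻¹ * a⁻¹) = 1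
        rw [show 1 * a * (1 : X)⁻¹ * a⁻¹ = 1 by group, map_one])
      map_mul' := fun g g' => Subtype.ext (by
        show π (g * g' * a * (g * g')⁻¹ * a⁻¹) = π (g * a * g⁻¹ * a⁻¹) * π (g' * a * g'⁻¹ * a⁻¹)
        rw [show g * g' * a * (g * g')⁻¹ * a⁻¹ = g * (g' * a * g'⁻¹ * a⁻¹) * g⁻¹ * (g * a * g⁻¹ * a⁻¹) by group,
          map_mul, map_mul π (g * (g' * a * g'⁻¹ * a⁻¹)), map_mul π g, map_inv, hcen _ (ha g') g,
          mul_inv_cancel_right]
        exact (hcen _ (ha g') _).symm) }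
  have h := congrArg Subtype.val (T.hom_trivial f (fun r hr => Subtype.ext
    ((QuotientGroup.eq_one_iff _).2 (hRa r hr))) g)
  exact (QuotientGroup.eq_one_iff _).1 h

theorem layer_quad : ∀ u : F3, (∀ g ∈ stabList, g *ᵥ u + u = 0 ∨ g *ᵥ u + u = e0) → u = 0 ∨ u = e0 := by
  decide +kernel

theorem units_four : ∀ u : (ZMod 4)ˣ, u = 1 ∨ u = -1 := by decide +kernel

theorem jBit_facts : (jOne.map redHom) = jBit ∧ tOne.map redHom = tBitOne ∧ tTwo.map redHom = tBitTwo := by
  decide +kernel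

/-- The determinant of a frame as a homomorphism. -/
noncomputable def frameDet {A : Subgroup X} {n : ℕ} {v : X → Fin n → ZMod 2} (F : Frame A n v) : X →* (ZMod 4)ˣ :=
  ((Matrix.detMonoidHom).comp F.M).toHomUnits

theorem frameDet_coe {A : Subgroup X} {n : ℕ} {v : X → Fin n → ZMod 2} (F : Frame A n v) (x : X) :
    ((frameDet F x : (ZMod 4)ˣ) : ZMod 4) = (F.M x).det := rfl

/-- A core of order eight modulo a minimal normal subgroup is elementary. -/
theorem case_one {W : Subgroup X} [W.Normal] (S : Step X R W) (hsq : ∀ a ∈ R, a * a ∈ W)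
    (hmove : ∃ g : X, ∃ a ∈ R, g * a * g⁻¹ * a⁻¹ ∉ W) (hcard : Nat.card R = 8 * Nat.card W) : False := by
  obtain ⟨C⟩ := exists_coord S.top R W S.le hsq
    (fun r hr a ha => by rw [← commutatorElement_def]; exact comm_mem_of_sq hsq hr ha) hcard hmove
  have hab := C.comm W S.el S.cen (fun a ha k hk => S.cen a ha k hk)
    (fun a ha b hb => comm_mem_of_sq hsq ha hb) (Or.inr ⟨S.min, hsq, S.el⟩)
  rcases C.sq W hab S.el S.min hsq with hall | ⟨hiso, hinj⟩
  · obtain ⟨a, ha, hne⟩ := S.nsq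
    exact hne (hall a ha)
  obtain ⟨F, hF⟩ := C.cube_frame hab S.el hsq hiso hinj hcard
  refine cube_absurd S.top.rank F hab ⊤ le_top (fun x _ => ?_) (fun g hg => ?_) (fun x _ hx => ?_)
  · have h := congrArg Units.val (S.top.hom_trivial (frameDet F)
      (fun r hr => Units.ext (by rw [frameDet_coe, F.M_eq_one hab hr, det_one]; rfl)) x)
    exact h
  · obtain ⟨x, hx⟩ := C.surj g hg
    exact ⟨x, mem_top x, (hF x).trans hx⟩
  · refine (C.eq_one_iff _).1 ?_
    rw [map_mul, ← hF x]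
    rcases hx with e | e <;> rw [e] <;> decide +kernel

/-- The branch with an invariant subgroup of index two. -/
theorem branch_eight {W : Subgroup X} [W.Normal] (S : Step X R W) (hsq : ∀ a ∈ R, a * a ∈ W)
    (hmove : ∃ g : X, ∃ a ∈ R, g * a * g⁻¹ * a⁻¹ ∉ W) (hcard : Nat.card R = 16 * Nat.card W)
    (R1 : Subgroup X) [R1.Normal] (hW1 : W ≤ R1) (h1R : R1 ≤ R) (hcard1 : Nat.card R1 = 8 * Nat.card W) :
    Concl R := by
  classical
  have hcom : ∀ a ∈ R, ∀ b ∈ R, ⁅a, b⁆ ∈ W := fun a ha b hb => comm_mem_of_sq hsq ha hb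
  have hidx : (R1.subgroupOf R).index = 2 := by
    have h1 := (R1.subgroupOf R).card_mul_index
    rw [Nat.card_congr (subgroupOfEquivOfLe h1R).toEquiv, hcard1, hcard] at h1
    exact Nat.eq_of_mul_eq_mul_left (Nat.mul_pos (by norm_num : 0 < 8) Nat.card_pos) (h1.trans (by ring))
  have hmul2 : ∀ a ∈ R, a ∉ R1 → ∀ b ∈ R, b ∉ R1 → a * b ∈ R1 := fun a ha ha' b hb hb' => by
    have h1 : (⟨a, ha⟩ * ⟨b, hb⟩ : R) ∈ R1.subgroupOf R :=
      (mul_mem_iff_of_index_two hidx).2 (iff_of_false (fun h => ha' h) fun h => hb' h)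
    exact h1
  obtain ⟨x, hxR, hx1⟩ : ∃ x, x ∈ R ∧ x ∉ R1 := by
    by_contra h
    push Not at h
    have h2 := Nat.card_le_card_of_injective _ (Subgroup.inclusion_injective (fun a ha => h a ha : R ≤ R1))
    have := Nat.card_pos (α := W)
    omega
  have hconjx : ∀ g : X, g * x * g⁻¹ ∉ R1 := fun g h => hx1 (by
    have := Normal.conj_mem (inferInstance : R1.Normal) _ h g⁻¹
    rwa [show g⁻¹ * (g * x * g⁻¹) * g⁻¹⁻¹ = x by group] at this)
  have hdecomp : ∀ r ∈ R, r ∈ R1 ∨ x⁻¹ * r ∈ R1 := fun r hr => by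
    by_cases h : r ∈ R1
    · exact Or.inl h
    · exact Or.inr (hmul2 _ (inv_mem hxR) (fun e => hx1 (inv_inv x ▸ inv_mem e)) r hr h)
  have hne : ∃ g : X, ∃ a ∈ R1, g * a * g⁻¹ * a⁻¹ ∉ W := by
    by_contra h
    push Not at h
    obtain ⟨g, a, ha, hga⟩ := hmove
    refine hga ?_
    have hx' := chain_trivial S.top W R1 h1R h x
      (fun g' => hmul2 _ (Normal.conj_mem inferInstance x hxR g') (hconjx g') _ (inv_mem hxR)
        fun e => hx1 (inv_inv x ▸ inv_mem e))
      (fun r hr => by rw [← commutatorElement_def]; exact hcom r hr x hxR)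
    rcases hdecomp a ha with h' | h'
    · exact h g a h'
    · have h1 := h g _ h'
      have h2 := hx' g
      rw [show g * a * g⁻¹ * a⁻¹ =
        (g * x * g⁻¹ * x⁻¹) * (x * (g * (x⁻¹ * a) * g⁻¹ * (x⁻¹ * a)⁻¹) * x⁻¹) by group]
      exact mul_mem h2 (Normal.conj_mem inferInstance _ h1 x)
  obtain ⟨C⟩ := exists_coord S.top R1 W hW1 (fun a ha => hsq a (h1R ha))
    (fun r hr a ha => by rw [← commutatorElement_def]; exact hcom r hr a (h1R ha)) hcard1 hne
  let φ : X → X := fun a => x * a * x⁻¹ * a⁻¹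
  have hφW : ∀ a ∈ R, φ a ∈ W := fun a ha => by
    show x * a * x⁻¹ * a⁻¹ ∈ W
    rw [← commutatorElement_def]; exact hcom x hxR a ha
  have hφmul : ∀ a ∈ R1, ∀ b ∈ R1, φ (a * b) = φ a * φ b := fun a ha b hb => by
    show x * (a * b) * x⁻¹ * (a * b)⁻¹ = x * a * x⁻¹ * a⁻¹ * φ b
    rw [show x * (a * b) * x⁻¹ * (a * b)⁻¹ = x * a * x⁻¹ * (φ b * a⁻¹) by
      show _ = x * a * x⁻¹ * ((x * b * x⁻¹ * b⁻¹) * a⁻¹); group,
      ← S.cen _ (inv_mem (h1R ha)) _ (hφW b (h1R hb))]
    group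
  have hφW1 : ∀ k ∈ W, φ k = 1 := fun k hk => by
    show x * k * x⁻¹ * k⁻¹ = 1
    rw [S.cen x hxR k hk]; group
  have hφconj : (∀ a ∈ R1, ∀ b ∈ R1, a * b = b * a) →
      ∀ g : X, ∀ a ∈ R1, φ (g * a * g⁻¹) = g * φ a * g⁻¹ := by
    intro hab1 g a ha
    have hr : x⁻¹ * (g⁻¹ * x * g⁻¹⁻¹) ∈ R1 :=
      hmul2 _ (inv_mem hxR) (fun e => hx1 (inv_inv x ▸ inv_mem e)) _ (Normal.conj_mem inferInstance x hxR g⁻¹)
        (hconjx g⁻¹)
    obtain ⟨r, hr', hxr⟩ : ∃ r ∈ R1, g⁻¹ * x * g = x * r := ⟨_, hr, by group⟩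
    have hra : r * a * r⁻¹ = a := by rw [hab1 r hr' a ha, mul_inv_cancel_right]
    calc x * (g * a * g⁻¹) * x⁻¹ * (g * a * g⁻¹)⁻¹
        = g * ((g⁻¹ * x * g) * a * (g⁻¹ * x * g)⁻¹ * a⁻¹) * g⁻¹ := by group
      _ = g * (x * (r * a * r⁻¹) * x⁻¹ * a⁻¹) * g⁻¹ := by rw [hxr]; group
      _ = _ := by rw [hra]
  have hfull : (∀ a ∈ R1, ∀ b ∈ R1, a * b = b * a) → (∀ a ∈ R1, φ a = 1) → ∀ a ∈ R, ∀ b ∈ R, a * b = b * a := by
    intro hab1 hφ a ha b hb
    have hxc : ∀ n ∈ R1, x * n = n * x := fun n hn => mul_inv_eq_iff_eq_mul.1 (mul_inv_eq_one.1 (hφ n hn))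
    have hboth : ∀ n ∈ R, ∀ m ∈ R1, n * m = m * n := by
      intro n hn m hm
      rcases hdecomp n hn with h | h
      · exact hab1 n h m hm
      · rw [show n = x * (x⁻¹ * n) by group]
        generalize x⁻¹ * n = p at h ⊢
        rw [mul_assoc, hab1 p h m hm, ← mul_assoc, hxc m hm, mul_assoc]
    rcases hdecomp b hb with h | h
    · exact hboth a ha b h
    · rw [show b = x * (x⁻¹ * b) by group]
      generalize x⁻¹ * b = p at h ⊢
      have hax : a * x = x * a := by
        rcases hdecomp a ha with h' | h'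
        · exact (hxc a h').symm
        · rw [show a = x * (x⁻¹ * a) by group]
          generalize x⁻¹ * a = q at h' ⊢
          rw [mul_assoc, ← hxc q h']
      rw [← mul_assoc, hax, mul_assoc, hboth a ha p h, ← mul_assoc]
  have hcen1 : ∀ a ∈ R1, ∀ w ∈ W, a * w = w * a := fun a ha => S.cen a (h1R ha)
  have hcom1 : ∀ a ∈ R1, ∀ b ∈ R1, ⁅a, b⁆ ∈ W := fun a ha b hb => hcom a (h1R ha) b (h1R hb)
  rcases fixed_dichotomy W S.ne S.el S.min with ⟨hfix, hW2⟩ | hnf
  · have hab1 := C.comm W S.el hcen1 hcen1 hcom1 (Or.inl hfix)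
    refine concl_small S hW2 hsq hcard (hfull hab1 (C.fixed_map φ hφmul hφW1 fun g a ha => ?_))
    rw [hφconj hab1 g a ha, hfix g _ (hφW a (h1R ha))]
  exfalso
  have hab1 := C.comm W S.el hcen1 hcen1 hcom1 (Or.inr ⟨S.min, fun a ha => hsq a (h1R ha), S.el⟩)
  rcases C.sq W hab1 S.el S.min (fun a ha => hsq a (h1R ha)) with hall | ⟨hiso, hinj⟩
  · have h16 := elementary_le S.top.rank R1 hall
    rw [hcard1] at h16
    have hW2 : Nat.card W = 2 := by
      rcases (show Nat.card W = 1 ∨ Nat.card W = 2 by have := Nat.card_pos (α := W); omega) with h | h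
      · exact absurd (Subgroup.eq_bot_of_card_eq W h) S.ne
      · exact h
    obtain ⟨w, hw, hw1⟩ : ∃ w ∈ W, w ≠ 1 := W.ne_bot_iff_exists_ne_one.1 S.ne |> fun ⟨w, hw⟩ =>
      ⟨w.1, w.2, fun e => hw (Subtype.ext e)⟩
    refine hw1 (hnf w hw fun g => ?_)
    obtain ⟨p, q, hpq, huniv⟩ := Nat.card_eq_two_iff.1 hW2
    have hall2 : ∀ n : W, n = p ∨ n = q := fun n => by
      have : n ∈ ({p, q} : Set W) := huniv ▸ Set.mem_univ n
      simpa using this
    have hconj : g * w * g⁻¹ ∈ W := Normal.conj_mem inferInstance w hw g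
    by_contra hne'
    rcases hall2 ⟨w, hw⟩ with e1 | e1 <;> rcases hall2 1 with e2 | e2 <;> rcases hall2 ⟨_, hconj⟩ with e3 | e3 <;>
      first
        | exact hw1 (congrArg Subtype.val (e1.trans e2.symm))
        | exact hne' (congrArg Subtype.val (e3.trans e1.symm))
        | exact hw1 (conj_eq_one_iff.1 (congrArg Subtype.val (e3.trans e2.symm)))
  have hW8 := C.card_image W hab1 S.el (fun a ha => hsq a (h1R ha)) hiso hinj
  obtain ⟨F, hF⟩ := C.cube_frame hab1 S.el (fun a ha => hsq a (h1R ha)) hiso hinj hcard1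
  rcases C.sq_endo W φ (fun a ha => hφW a (h1R ha)) hiso hab1 S.el hinj hφmul hφW1 (hφconj hab1) with h0 | hinv
  · -- the core is commutative
    have hab := hfull hab1 h0
    have hM : ∀ r ∈ R, F.M r = 1 := fun r hr => Matrix.ext_of_mulVec_single fun i => by
      obtain ⟨a, ha, haw⟩ := F.lift (Pi.single i 1)
      rw [← haw, ← F.conj r a ha, one_mulVec, hab r hr a (h1R ha), mul_inv_cancel_right]
    have hdet : ∀ g, (F.M g).det = 1 := fun g => congrArg Units.val (S.top.hom_trivial (frameDet F)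
      (fun r hr => Units.ext (by rw [frameDet_coe, hM r hr, det_one]; rfl)) g)
    obtain ⟨y, hy⟩ := C.surj jBit (by decide +kernel)
    have hy4 : y * y * (y * y) ∈ R := (C.eq_one_iff _).1 (by rw [map_mul, map_mul, hy]; decide +kernel)
    by_cases hy1 : y * y * (y * y) ∈ R1
    · refine cube_absurd S.top.rank F hab1 ⊤ le_top (fun g _ => hdet g) (fun g hg => ?_) (fun g _ hg => ?_)
      · obtain ⟨z, hz⟩ := C.surj g hg
        exact ⟨z, mem_top z, (hF z).trans hz⟩
      obtain ⟨k, hk⟩ := C.surj kBit (by decide +kernel)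
      obtain ⟨p, hpρ, hpg⟩ : ∃ p : X, C.ρ p = C.ρ g ∧ p * p ∈ R1 := by
        rw [hF g, jBit_facts.2.1, jBit_facts.2.2] at hg
        rcases hg with e | e
        · exact ⟨y * y, by rw [map_mul, hy, e]; decide +kernel, hy1⟩
        · refine ⟨k * (y * y) * k⁻¹, ?_, ?_⟩
          · have hk' : C.ρ k⁻¹ = kBit := by
              have h1 := congrArg C.ρ (mul_inv_cancel k)
              rw [map_mul, map_one, hk] at h1
              calc C.ρ k⁻¹ = kBit * kBit * C.ρ k⁻¹ := by
                    rw [show kBit * kBit = 1 by decide +kernel, one_mul]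
                _ = kBit := by rw [mul_assoc, h1, mul_one]
            rw [map_mul, map_mul, map_mul, hy, hk, hk', e]
            decide +kernel
          · rw [show k * (y * y) * k⁻¹ * (k * (y * y) * k⁻¹) = k * (y * y * (y * y)) * k⁻¹ by group]
            exact Normal.conj_mem inferInstance _ hy1 k
      have hr : p⁻¹ * g ∈ R := (C.eq_one_iff _).1 (by rw [map_mul, ← hpρ, ← map_mul, inv_mul_cancel, map_one])
      obtain ⟨r, hrR, hgr⟩ : ∃ r ∈ R, g = p * r := ⟨_, hr, by group⟩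
      rw [hgr, show p * r * (p * r) = p * r * p⁻¹ * (p * p) * r by group]
      have hrp : p * r * p⁻¹ * r ∈ R1 := by
        by_cases h : r ∈ R1
        · exact mul_mem (Normal.conj_mem inferInstance r h p) h
        · exact hmul2 _ (Normal.conj_mem inferInstance r hrR p) (fun e => h (by
            have := Normal.conj_mem (inferInstance : R1.Normal) _ e p⁻¹
            rwa [show p⁻¹ * (p * r * p⁻¹) * p⁻¹⁻¹ = r by group] at this)) r hrR h
      rw [mul_assoc _ (p * p) r, hab _ (h1R hpg) r hrR, ← mul_assoc]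
      exact mul_mem hrp hpg
    -- a fixed coset
    obtain ⟨kk, hkk⟩ := exists_pert ((hF y).trans (hy.trans jBit_facts.1.symm))
    obtain ⟨hgfix, hgred⟩ := jordan_fixed kk (by rw [← hkk, ← detThree_eq]; exact hdet y) (by
      rw [← hkk]
      simp only [← mvThree_eq, mulVec_mulVec, ← map_mul]
      rw [show y * (y * (y * y)) = y * y * (y * y) by group, hM _ hy4, one_mulVec])
    rw [← hkk] at hgfix hgred
    obtain ⟨s, hs, hsw⟩ := F.lift (mvThree (F.M y) (mvThree (F.M y) ![1, 0, 0]) + ![1, 0, 0])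
    have hsfix : y * s * y⁻¹ = s :=
      F.inj (C.conj_mem y hs) hs (by rw [F.conj y s hs, hsw, mvThree_eq]; exact hgfix)
    have hsv : C.v s = ![0, 0, 1] := by rw [← F.red s hs, hsw, hgred]
    set c2 := y * y * (y * y) with hc2
    obtain ⟨a, ha, hae⟩ := hiso _ (hsq c2 hy4)
    have hsqeq : ∀ p ∈ R1, ∀ q ∈ R1, (C.v p = C.v q ↔ p * p = q * q) := by
      intro p hp q hq
      have e : p * q⁻¹ * (p * q⁻¹) = p * p * (q * q)⁻¹ := by
        rw [show p * q⁻¹ * (p * q⁻¹) = p * (q⁻¹ * p) * q⁻¹ by group, hab1 _ (inv_mem hq) p hp]; group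
      constructor
      · intro h
        have h1 := S.el _ (C.rel hp hq h)
        rw [e] at h1
        exact mul_inv_eq_one.1 h1
      · intro h
        have h1 := (C.zero_iff _ (mul_mem hp (inv_mem hq))).2 (hinj _ (mul_mem hp (inv_mem hq))
          (by rw [e, h, mul_inv_cancel]))
        rw [C.add p hp _ (inv_mem hq), C.inv hq] at h1
        exact CharTwo.add_eq_zero.1 h1
    have hva : C.v a = 0 ∨ C.v a = ![0, 0, 1] := by
      refine bit_jfix _ ?_
      rw [← hy, ← C.conj y a ha]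
      refine (hsqeq _ (C.conj_mem y ha) a ha).2 ?_
      rw [show y * a * y⁻¹ * (y * a * y⁻¹) = y * (a * a) * y⁻¹ by group, hae, hc2]
      group
    obtain ⟨c', hc'R, hc'1, hc'sq, hc'fix⟩ : ∃ c' ∈ R, c' ∉ R1 ∧ c' * c' = 1 ∧ y * c' * y⁻¹ = c' := by
      have hyc : y * c2 * y⁻¹ = c2 := by rw [hc2]; group
      rcases hva with e | e
      · refine ⟨c2, hy4, hy1, ?_, hyc⟩
        rw [← hae, (hsqeq a ha 1 R1.one_mem).1 (by rw [e, C.one]), one_mul]
      · refine ⟨c2 * s⁻¹, mul_mem hy4 (inv_mem (h1R hs)), fun h => hy1 ?_, ?_, ?_⟩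
        · have := mul_mem h hs; rwa [inv_mul_cancel_right] at this
        · rw [show c2 * s⁻¹ * (c2 * s⁻¹) = c2 * (s⁻¹ * c2) * s⁻¹ by group,
            hab _ (inv_mem (h1R hs)) _ hy4, show c2 * (c2 * s⁻¹) * s⁻¹ = c2 * c2 * (s * s)⁻¹ by group,
            ← hae, (hsqeq a ha s hs).1 (e.trans hsv.symm), mul_inv_cancel]
        · rw [show y * (c2 * s⁻¹) * y⁻¹ = y * c2 * y⁻¹ * (y * s * y⁻¹)⁻¹ by group, hyc, hsfix]
    let α : Type u := {r : X // r ∈ R ∧ r ∉ R1 ∧ r * r = 1}
    letI : MulAction X α :=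
      { smul := fun g r => ⟨g * r.1 * g⁻¹, Normal.conj_mem inferInstance _ r.2.1 g, fun e => r.2.2.1 (by
            have := Normal.conj_mem (inferInstance : R1.Normal) _ e g⁻¹
            rwa [show g⁻¹ * (g * r.1 * g⁻¹) * g⁻¹⁻¹ = r.1 by group] at this),
          by rw [show g * r.1 * g⁻¹ * (g * r.1 * g⁻¹) = g * (r.1 * r.1) * g⁻¹ by group, r.2.2.2, mul_one,
            mul_inv_cancel]⟩
        one_smul := fun r => Subtype.ext (by show 1 * r.1 * (1 : X)⁻¹ = r.1; group)
        mul_smul := fun g g' r => Subtype.ext (by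
          show g * g' * r.1 * (g * g')⁻¹ = g * (g' * r.1 * g'⁻¹) * g⁻¹; group) }
    have hα : Nat.card α = 8 := by
      rw [← hW8]
      refine (Nat.card_congr (Equiv.ofBijective (fun w : W => (⟨c' * w.1, mul_mem hc'R (S.le w.2),
        fun e => hc'1 (by have := mul_mem e (inv_mem (hW1 w.2)); rwa [mul_inv_cancel_right] at this),
        by rw [show c' * w.1 * (c' * w.1) = c' * (w.1 * c') * w.1 by group, ← S.cen c' hc'R _ w.2,
          show c' * (c' * w.1) * w.1 = c' * c' * (w.1 * w.1) by group, hc'sq, S.el _ w.2, one_mul]⟩ : α))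
        ⟨fun p q e => Subtype.ext (mul_left_cancel (congrArg Subtype.val e)), fun r => ?_⟩)).symm
      have hc'inv : c'⁻¹ ∉ R1 := fun e => hc'1 (inv_inv c' ▸ inv_mem e)
      have hin : c'⁻¹ * r.1 ∈ R1 := hmul2 _ (inv_mem hc'R) hc'inv _ r.2.1 r.2.2.1
      refine ⟨⟨c'⁻¹ * r.1, hinj _ hin ?_⟩, Subtype.ext (by show c' * (c'⁻¹ * r.1) = r.1; group)⟩
      rw [show c'⁻¹ * r.1 * (c'⁻¹ * r.1) = c'⁻¹ * (r.1 * c'⁻¹) * r.1 by group, hab _ r.2.1 _ (inv_mem hc'R),
        show c'⁻¹ * (c'⁻¹ * r.1) * r.1 = (c' * c')⁻¹ * (r.1 * r.1) by group, hc'sq, r.2.2.2, inv_one, one_mul]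
    obtain ⟨⟨b, hbR, hb1, hbb⟩, hbfix⟩ := S.top.exists_fixed hα
      (fun r hr q => Subtype.ext (by show r * q.1 * r⁻¹ = q.1; rw [hab r hr _ q.2.1, mul_inv_cancel_right]))
      (y * y) (fun e => by have := (C.eq_one_iff _).2 e; rw [map_mul, hy] at this; revert this; decide +kernel)
      hy4 ⟨c', hc'R, hc'1, hc'sq⟩ (Subtype.ext (by
        show y * y * c' * (y * y)⁻¹ = c'
        rw [show y * y * c' * (y * y)⁻¹ = y * (y * c' * y⁻¹) * y⁻¹ by group, hc'fix, hc'fix]))
    haveI : (zpowers b).Normal := ⟨fun n hn g => by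
      obtain ⟨i, rfl⟩ := mem_zpowers_iff.1 hn
      rw [← conj_zpow, show g * b * g⁻¹ = b from congrArg Subtype.val (hbfix g)]
      exact zpow_mem (mem_zpowers b) i⟩
    have hb0 : b ≠ 1 := fun e => hb1 (e ▸ R1.one_mem)
    have hind := S.ind (zpowers b) inferInstance (zpowers_le.2 hbR) (zpowers_ne_bot.2 hb0) (by
      obtain ⟨g, p, hp, hgp⟩ := hne
      refine ⟨g, p, h1R hp, fun h => hgp ?_⟩
      let H : Subgroup X :=
        { carrier := {r | r ∈ R ∧ r * r = 1}
          one_mem' := ⟨R.one_mem, one_mul 1⟩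
          mul_mem' := fun {u v} hu hv => ⟨mul_mem hu.1 hv.1, by
            rw [show u * v * (u * v) = u * (v * u) * v by group, hab v hv.1 u hu.1,
              show u * (u * v) * v = u * u * (v * v) by group, hu.2, hv.2, one_mul]⟩
          inv_mem' := fun {u} hu => ⟨inv_mem hu.1, by rw [← _root_.mul_inv_rev, hu.2, inv_one]⟩ }
      have hle : Sq R ⊔ zpowers b ≤ H := sup_le (sq_le_iff.2 fun u hu => ⟨mul_mem hu hu, S.el _ (hsq u hu)⟩)
        (zpowers_le.2 ⟨hbR, hbb⟩)
      exact hinj _ (mul_mem (C.conj_mem g hp) (inv_mem hp)) (hle h).2)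
    rw [Nat.card_zpowers, orderOf_eq_prime (by rw [pow_two, hbb]) hb0, hcard, hW8] at hind
    omega
  · -- inversion: pass to the kernel of the determinant
    have hMx : F.M x = -1 := Matrix.ext_of_mulVec_single fun i => by
      obtain ⟨a, ha, haw⟩ := F.lift (Pi.single i 1)
      have e : x * a * x⁻¹ = a * a * a := mul_inv_eq_iff_eq_mul.1 (hinv a ha)
      rw [← haw, ← F.conj x a ha, e, F.add _ (mul_mem ha ha) a ha, F.add a ha a ha, neg_mulVec, one_mulVec]
      funext j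
      rw [Pi.add_apply, Pi.add_apply, Pi.neg_apply]
      generalize F.w a j = q
      revert q
      decide
    have hfx : frameDet F x = -1 := Units.ext (by
      rw [frameDet_coe, hMx, Units.val_neg, Units.val_one, det_neg, det_one, Fintype.card_fin]; decide)
    have hf1 : ∀ a ∈ R1, frameDet F a = 1 := fun a ha =>
      Units.ext (by rw [frameDet_coe, F.M_eq_one hab1 ha, det_one]; rfl)
    refine cube_absurd S.top.rank F hab1 (frameDet F).ker (fun a ha => (frameDet F).mem_ker.2 (hf1 a ha))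
      (fun g hg => congrArg Units.val ((frameDet F).mem_ker.1 hg)) (fun g hg => ?_) (fun g hgG hg => ?_)
    · obtain ⟨z, hz⟩ := C.surj g hg
      rcases units_four (frameDet F z) with e | e
      · exact ⟨z, (frameDet F).mem_ker.2 e, (hF z).trans hz⟩
      · refine ⟨z * x, (frameDet F).mem_ker.2 (by rw [map_mul, e, hfx, neg_mul_neg, one_mul]), ?_⟩
        rw [hF, map_mul, hz, (C.eq_one_iff x).2 hxR, mul_one]
    · have hR2 : g * g ∈ R := (C.eq_one_iff _).1 (by
        rw [map_mul, ← hF g]; rcases hg with e | e <;> rw [e] <;> decide +kernel)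
      rcases hdecomp _ hR2 with h | h
      · exact h
      exfalso
      have h1 : frameDet F (g * g) = 1 := by rw [map_mul, (frameDet F).mem_ker.1 hgG, one_mul]
      have h2 := hf1 _ h
      rw [map_mul, map_inv, h1, mul_one, hfx] at h2
      revert h2
      decide

end Cfsg.Agent.Lie.ConstrainedLTwo
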