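import Cfsg.Agent.Lib.Lie.ConstrainedLTwo.Basic

/-!
# Layers of order eight

A layer `R1/K` of order eight on which the group acts nontrivially carries the natural module; squares and
commutators into a minimal normal subgroup are then linear.
-/

set_option autoImplicit false
set_option linter.style.haveILetI false
set_option linter.unusedSectionVars false

open Subgroup Matrix
open scoped commutatorElement

namespace Cfsg.Agent.Lie.ConstrainedLTwo

universe u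

/-- Vectors of length three over the field of two elements. -/
abbrev F3 : Type := Fin 3 → ZMod 2

/-- Matrices of size three over the field of two elements. -/
abbrev Mat3 : Type := Matrix (Fin 3) (Fin 3) (ZMod 2)

theorem card_det_one : Fintype.card {g : Mat3 // g.det = 1} = 168 := by decide +kernel

/-- A basis vector. -/
abbrev e0 : F3 := ![1, 0, 0]

/-- Two independent vectors. -/
abbrev Indep (s t : F3) : Prop := s ≠ 0 ∧ t ≠ 0 ∧ s ≠ t

theorem exists_pair_mat : ∀ s t : F3, Indep s t →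
    ∃ g : Mat3, g.det = 1 ∧ g *ᵥ e0 = s ∧ g *ᵥ ![0, 1, 0] = t := by
  decide +kernel

theorem exists_vec_mat : ∀ s : F3, s ≠ 0 → ∃ g : Mat3, g.det = 1 ∧ g *ᵥ e0 = s := by decide +kernel

theorem vec_cases : ∀ s t : F3, ¬ Indep s t → s = 0 ∨ t = 0 ∨ s = t := by decide +kernel

set_option synthInstance.maxSize 4000 in
set_option synthInstance.maxHeartbeats 400000 in
theorem plane_meet : ∀ s t : F3, Indep s t →
    ((s = e0 ∨ s = ![0, 1, 0] ∨ s = ![1, 1, 0]) ∧ (t = e0 ∨ t = ![0, 1, 0] ∨ t = ![1, 1, 0])) ∨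
      ∃ a b b' : F3, Indep a b ∧ (a = e0 ∨ a = ![0, 1, 0] ∨ a = ![1, 1, 0]) ∧
        (b = e0 ∨ b = ![0, 1, 0] ∨ b = ![1, 1, 0]) ∧ Indep a b' ∧ (a = s ∨ a = t ∨ a = s + t) ∧
        (b' = s ∨ b' = t ∨ b' = s + t) ∧ Indep a (b + b') := by
  decide +kernel

/-- Three matrices fixing the first basis vector. -/
abbrev stabList : List Mat3 :=
  [!![1, 0, 0; 0, 0, 1; 0, 1, 0], !![1, 1, 0; 0, 1, 0; 0, 0, 1], !![1, 0, 0; 0, 1, 1; 0, 0, 1]]

theorem stab_props : ∀ g ∈ stabList, g.det = 1 ∧ g *ᵥ e0 = e0 := by decide +kernel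

theorem plane_moved : ∀ s t : F3, Indep s t → ∃ g ∈ stabList,
    ¬ ((g *ᵥ s = s ∨ g *ᵥ s = t ∨ g *ᵥ s = s + t) ∧ (g *ᵥ t = s ∨ g *ᵥ t = t ∨ g *ᵥ t = s + t)) := by
  decide +kernel

theorem plane_pull : ∀ s t : F3, Indep s t → ∀ p : F3, (p = s ∨ p = t ∨ p = s + t) → p ≠ 0 := by
  decide +kernel

theorem fixed_by_stab : ∀ t : F3, (∀ g ∈ stabList, g *ᵥ t = t) → t = 0 ∨ t = e0 := by decide +kernel

variable {X : Type u} [Group X] [Finite X] {R : Subgroup X} [R.Normal]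

/-- Coordinates on a layer `R1/K` with the induced action. -/
structure Coord (R R1 K : Subgroup X) where
  v : X → F3
  ρ : X →* Mat3
  le : K ≤ R1
  add : ∀ a ∈ R1, ∀ b ∈ R1, v (a * b) = v a + v b
  zero_iff : ∀ a ∈ R1, v a = 0 ↔ a ∈ K
  lift : ∀ t : F3, ∃ a ∈ R1, v a = t
  conj : ∀ x : X, ∀ a ∈ R1, v (x * a * x⁻¹) = ρ x *ᵥ v a
  det : ∀ x : X, (ρ x).det = 1
  surj : ∀ g : Mat3, g.det = 1 → ∃ x : X, ρ x = g
  eq_one_iff : ∀ x : X, ρ x = 1 ↔ x ∈ R

theorem exists_coord (T : Top X R) (R1 K : Subgroup X) [R1.Normal] [K.Normal] (hK : K ≤ R1)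
    (hsq : ∀ a ∈ R1, a * a ∈ K) (hR : ∀ r ∈ R, ∀ a ∈ R1, r * a * r⁻¹ * a⁻¹ ∈ K)
    (hcard : Nat.card R1 = 8 * Nat.card K) (hne : ∃ x : X, ∃ a ∈ R1, x * a * x⁻¹ * a⁻¹ ∉ K) :
    Nonempty (Coord R R1 K) := by
  classical
  let V := R1 ⧸ K.subgroupOf R1
  have hVsq : ∀ a : V, a * a = 1 := by
    intro a
    induction a using QuotientGroup.induction_on with | _ a
    exact (QuotientGroup.eq_one_iff _).2 (mem_subgroupOf.2 (hsq a a.2))
  have hVcomm : ∀ a b : V, a * b = b * a := fun a b => by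
    calc a * b = (a * b)⁻¹ := (inv_eq_of_mul_eq_one_right (hVsq _)).symm
      _ = b * a := by
        rw [_root_.mul_inv_rev, inv_eq_of_mul_eq_one_right (hVsq a), inv_eq_of_mul_eq_one_right (hVsq b)]
  letI : CommGroup V := { (inferInstance : Group V) with mul_comm := hVcomm }
  letI : Module (ZMod 2) (Additive V) := AddCommGroup.zmodModule (n := 2) (fun a => by
    rw [two_nsmul]; exact hVsq (Additive.toMul a))
  have hV8 : Nat.card (Additive V) = 8 := by
    have h1 := (K.subgroupOf R1).card_eq_card_quotient_mul_card_subgroup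
    rw [Nat.card_congr (subgroupOfEquivOfLe hK).toEquiv, hcard] at h1
    exact (Nat.eq_of_mul_eq_mul_right Nat.card_pos h1).symm
  have hrank : Module.finrank (ZMod 2) (Additive V) = Module.finrank (ZMod 2) F3 := by
    have h1 : Nat.card (Additive V) = 2 ^ Module.finrank (ZMod 2) (Additive V) := by
      rw [Module.natCard_eq_pow_finrank (K := ZMod 2), Nat.card_zmod]
    rw [Module.finrank_fin_fun]
    rw [hV8] at h1
    exact Nat.pow_right_injective le_rfl (h1.symm.trans (by norm_num : (8 : ℕ) = 2 ^ 3))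
  let e : Additive V ≃ₗ[ZMod 2] F3 := LinearEquiv.ofFinrankEq _ _ hrank
  let f : R1 → F3 := fun a => e (Additive.ofMul (QuotientGroup.mk a : V))
  let v : X → F3 := fun a => if h : a ∈ R1 then f ⟨a, h⟩ else 0
  have hv : ∀ (a : X) (h : a ∈ R1), v a = f ⟨a, h⟩ := fun a h => dif_pos h
  have hadd : ∀ a ∈ R1, ∀ b ∈ R1, v (a * b) = v a + v b := fun a ha b hb => by
    rw [hv _ ha, hv _ hb, hv _ (mul_mem ha hb), ← map_add]
    rfl
  have hzero : ∀ a ∈ R1, v a = 0 ↔ a ∈ K := fun a ha => by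
    rw [hv a ha]
    show e (Additive.ofMul (QuotientGroup.mk (⟨a, ha⟩ : R1) : V)) = 0 ↔ _
    rw [LinearEquiv.map_eq_zero_iff, ← ofMul_one, Equiv.apply_eq_iff_eq, QuotientGroup.eq_one_iff,
      mem_subgroupOf]
  have hlift : ∀ t : F3, ∃ a ∈ R1, v a = t := by
    intro t
    obtain ⟨a, ha⟩ := QuotientGroup.mk_surjective (Additive.toMul (e.symm t))
    refine ⟨a, a.2, ?_⟩
    rw [hv _ a.2]
    show e (Additive.ofMul (QuotientGroup.mk a : V)) = t
    rw [ha]
    exact e.apply_symm_apply t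
  have hv1 : v 1 = 0 := (hzero 1 R1.one_mem).2 K.one_mem
  have hconjmem : ∀ x : X, ∀ a ∈ R1, x * a * x⁻¹ ∈ R1 := fun x a ha => Normal.conj_mem inferInstance a ha x
  have heq : ∀ a ∈ R1, ∀ b ∈ R1, v a = v b → a * b⁻¹ ∈ K := by
    intro a ha b hb hab
    refine (hzero _ (mul_mem ha (inv_mem hb))).1 ?_
    have h1 := hadd _ (mul_mem ha (inv_mem hb)) b hb
    rw [inv_mul_cancel_right, hab] at h1
    exact left_eq_add.1 (h1.trans (add_comm _ _))
  have hwd : ∀ x : X, ∀ a ∈ R1, ∀ b ∈ R1, v a = v b → v (x * a * x⁻¹) = v (x * b * x⁻¹) := by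
    intro x a ha b hb hab
    have h1 : x * (a * b⁻¹) * x⁻¹ ∈ K := Normal.conj_mem inferInstance _ (heq a ha b hb hab) x
    have h2 := hadd _ (hK h1) _ (hconjmem x b hb)
    rw [show x * (a * b⁻¹) * x⁻¹ * (x * b * x⁻¹) = x * a * x⁻¹ by group, (hzero _ (hK h1)).2 h1, zero_add] at h2
    exact h2
  choose l hl hlv using hlift
  let L : X → (F3 →ₗ[ZMod 2] F3) := fun x =>
    AddMonoidHom.toZModLinearMap 2
      (AddMonoidHom.mk' (fun t => v (x * l t * x⁻¹)) fun s t => by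
        show v (x * l (s + t) * x⁻¹) = v (x * l s * x⁻¹) + v (x * l t * x⁻¹)
        rw [← hadd _ (hconjmem x _ (hl s)) _ (hconjmem x _ (hl t))]
        rw [show x * l s * x⁻¹ * (x * l t * x⁻¹) = x * (l s * l t) * x⁻¹ by group]
        exact hwd x _ (hl _) _ (mul_mem (hl s) (hl t)) (by rw [hlv, hadd _ (hl s) _ (hl t), hlv, hlv]))
  have hL : ∀ x : X, ∀ a ∈ R1, L x (v a) = v (x * a * x⁻¹) := fun x a ha =>
    hwd x _ (hl _) a ha (hlv _)
  have hL1 : L 1 = LinearMap.id := LinearMap.ext fun t => by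
    rw [← hlv t, hL 1 _ (hl t), one_mul, inv_one, mul_one]; rfl
  have hLmul : ∀ x y, L (x * y) = (L x).comp (L y) := fun x y => LinearMap.ext fun t => by
    rw [← hlv t, hL _ _ (hl t), LinearMap.comp_apply, hL _ _ (hl t), hL _ _ (hconjmem y _ (hl t))]
    congr 1
    group
  let ρ : X →* Mat3 :=
    { toFun := fun x => LinearMap.toMatrix' (L x)
      map_one' := by rw [hL1, LinearMap.toMatrix'_id]
      map_mul' := fun x y => by rw [hLmul, LinearMap.toMatrix'_comp] }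
  have hconj : ∀ x : X, ∀ a ∈ R1, v (x * a * x⁻¹) = ρ x *ᵥ v a := by
    intro x a ha
    show _ = LinearMap.toMatrix' (L x) *ᵥ v a
    rw [← Matrix.toLin'_apply, Matrix.toLin'_toMatrix', hL x a ha]
  have hdet : ∀ x : X, (ρ x).det = 1 := by
    intro x
    have h1 : (ρ x).det * (ρ x⁻¹).det = 1 := by
      rw [← Matrix.det_mul, ← map_mul, mul_inv_cancel, map_one, Matrix.det_one]
    revert h1
    generalize (ρ x).det = d
    generalize (ρ x⁻¹).det = d'
    revert d d'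
    decide
  have hRk : ∀ r ∈ R, ρ r = 1 := by
    intro r hr
    show LinearMap.toMatrix' (L r) = 1
    rw [← LinearMap.toMatrix'_id]
    congr 1
    refine LinearMap.ext fun t => ?_
    rw [← hlv t, hL r _ (hl t), LinearMap.id_apply]
    have h1 := hR r hr _ (hl t)
    have h2 := hadd _ (hK h1) _ (hl t)
    rwa [inv_mul_cancel_right, (hzero _ (hK h1)).2 h1, zero_add] at h2
  have hkn : (ρ.ker).Normal := inferInstance
  have hker : ρ.ker = R := by
    rcases T.eq_or_top ρ.ker (fun r hr => ρ.mem_ker.2 (hRk r hr)) with h | h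
    · exact h
    · obtain ⟨x, a, ha, hxa⟩ := hne
      have h1 : v (x * a * x⁻¹) = v a := by rw [hconj x a ha, ρ.mem_ker.1 (h ▸ mem_top x), one_mulVec]
      exact absurd (heq _ (hconjmem x a ha) a ha h1) hxa
  have hiff : ∀ x : X, ρ x = 1 ↔ x ∈ R := fun x => by rw [← hker, MonoidHom.mem_ker]
  refine ⟨⟨v, ρ, hK, hadd, hzero, fun t => ⟨l t, hl t, hlv t⟩, hconj, hdet, ?_, hiff⟩⟩
  let ψ : X ⧸ R → {g : Mat3 // g.det = 1} :=
    Quotient.lift (fun x => (⟨ρ x, hdet x⟩ : {g : Mat3 // g.det = 1})) fun a b hab => by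
      refine Subtype.ext ?_
      have h1 : a⁻¹ * b ∈ R := QuotientGroup.leftRel_apply.1 hab
      show ρ a = ρ b
      rw [show b = a * (a⁻¹ * b) by group, map_mul, hRk _ h1, mul_one]
  have hψ : Function.Injective ψ := by
    intro p q
    induction p using QuotientGroup.induction_on with | _ p
    induction q using QuotientGroup.induction_on with | _ q
    intro h
    have h1 : ρ p = ρ q := congrArg Subtype.val h
    refine (QuotientGroup.eq).2 ((hiff _).1 ?_)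
    rw [map_mul, ← h1, ← map_mul, inv_mul_cancel, map_one]
  haveI : Fintype (X ⧸ R) := Fintype.ofFinite _
  have hb := (Fintype.bijective_iff_injective_and_card ψ).2
    ⟨hψ, by rw [← Nat.card_eq_fintype_card, T.card, card_det_one]⟩
  intro g hg
  obtain ⟨q, hq⟩ := hb.2 ⟨g, hg⟩
  induction q using QuotientGroup.induction_on with | _ q
  exact ⟨q, congrArg Subtype.val hq⟩

variable {R1 K : Subgroup X} [R1.Normal]

theorem Coord.one (C : Coord R R1 K) : C.v 1 = 0 := (C.zero_iff 1 R1.one_mem).2 K.one_mem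

theorem Coord.inv (C : Coord R R1 K) {a : X} (ha : a ∈ R1) : C.v a⁻¹ = C.v a := by
  have h := C.add a⁻¹ (inv_mem ha) a ha
  rw [inv_mul_cancel, C.one] at h
  rw [CharTwo.add_eq_zero.1 h.symm]

theorem Coord.rel (C : Coord R R1 K) {a b : X} (ha : a ∈ R1) (hb : b ∈ R1) (h : C.v a = C.v b) :
    a * b⁻¹ ∈ K := by
  refine (C.zero_iff _ (mul_mem ha (inv_mem hb))).1 ?_
  rw [C.add a ha _ (inv_mem hb), C.inv hb, h, CharTwo.add_self_eq_zero]

theorem Coord.conj_mem (_C : Coord R R1 K) (x : X) {a : X} (ha : a ∈ R1) : x * a * x⁻¹ ∈ R1 :=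
  Normal.conj_mem inferInstance a ha x

/-- Commutators into an elementary central subgroup: none if the subgroup is centralised or minimal. -/
theorem Coord.comm (C : Coord R R1 K) (W : Subgroup X) [W.Normal] (hWsq : ∀ w ∈ W, w * w = 1)
    (hWcen : ∀ a ∈ R1, ∀ w ∈ W, a * w = w * a) (hKcen : ∀ a ∈ R1, ∀ k ∈ K, a * k = k * a)
    (hcom : ∀ a ∈ R1, ∀ b ∈ R1, ⁅a, b⁆ ∈ W)
    (hW : (∀ x : X, ∀ w ∈ W, x * w * x⁻¹ = w) ∨
      ((∀ N : Subgroup X, N.Normal → N ≤ W → N ≠ ⊥ → N = W) ∧ (∀ a ∈ R1, a * a ∈ W) ∧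
        ∀ k ∈ K, k * k = 1)) :
    ∀ a ∈ R1, ∀ b ∈ R1, a * b = b * a := by
  classical
  choose l hl hlv using C.lift
  let β : F3 → F3 → X := fun s t => ⁅l s, l t⁆
  have hWc : ∀ u ∈ W, ∀ w ∈ W, u * w = w * u := fun u hu w hw => by
    calc u * w = (u * w)⁻¹ := (inv_eq_of_mul_eq_one_right (hWsq _ (mul_mem hu hw))).symm
      _ = w * u := by
        rw [_root_.mul_inv_rev, inv_eq_of_mul_eq_one_right (hWsq u hu), inv_eq_of_mul_eq_one_right (hWsq w hw)]
  have hmul : ∀ a ∈ R1, ∀ b ∈ R1, ∀ c ∈ R1, ⁅a * b, c⁆ = ⁅a, c⁆ * ⁅b, c⁆ := by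
    intro a ha b hb c hc
    have h1 : a * ⁅b, c⁆ * a⁻¹ = ⁅b, c⁆ := by
      rw [hWcen a ha _ (hcom b hb c hc), mul_inv_cancel_right]
    rw [show ⁅a * b, c⁆ = a * ⁅b, c⁆ * a⁻¹ * ⁅a, c⁆ by simp only [commutatorElement_def]; group, h1]
    exact hWc _ (hcom b hb c hc) _ (hcom a ha c hc)
  have hswap : ∀ a ∈ R1, ∀ b ∈ R1, ⁅a, b⁆ = ⁅b, a⁆ := by
    intro a ha b hb
    rw [← commutatorElement_inv b a]
    exact inv_eq_of_mul_eq_one_right (hWsq _ (hcom b hb a ha))
  have hkill : ∀ a ∈ R1, ∀ k ∈ K, ⁅k, a⁆ = 1 := fun a ha k hk =>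
    commutatorElement_eq_one_iff_mul_comm.2 (hKcen a ha k hk).symm
  have hwd : ∀ a ∈ R1, ∀ b ∈ R1, ⁅a, b⁆ = β (C.v a) (C.v b) := by
    have h1 : ∀ a ∈ R1, ∀ a' ∈ R1, C.v a = C.v a' → ∀ b ∈ R1, ⁅a, b⁆ = ⁅a', b⁆ := by
      intro a ha a' ha' h b hb
      have hk := C.rel ha ha' h
      rw [show a = a * a'⁻¹ * a' by group, hmul _ (C.le hk) _ ha' _ hb, hkill b hb _ hk, one_mul]
    intro a ha b hb
    rw [h1 a ha _ (hl _) (hlv _).symm b hb, hswap _ (hl _) b hb, h1 b hb _ (hl _) (hlv _).symm _ (hl _),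
      hswap _ (hl _) _ (hl _)]
  have hadd : ∀ s s' t, β (s + s') t = β s t * β s' t := by
    intro s s' t
    rw [← hmul _ (hl s) _ (hl s') _ (hl t), hwd _ (mul_mem (hl s) (hl s')) _ (hl t),
      C.add _ (hl s) _ (hl s'), hlv, hlv, hlv]
  have hsym : ∀ s t, β s t = β t s := fun s t => hswap _ (hl s) _ (hl t)
  have hadd' : ∀ s t t', β s (t + t') = β s t * β s t' := fun s t t' => by
    rw [hsym, hadd, hsym t, hsym t']
  have hdiag : ∀ s, β s s = 1 := fun s => commutatorElement_self _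
  have hβW : ∀ s t, β s t ∈ W := fun s t => hcom _ (hl s) _ (hl t)
  have hequiv : ∀ x : X, ∀ s t, x * β s t * x⁻¹ = β (C.ρ x *ᵥ s) (C.ρ x *ᵥ t) := by
    intro x s t
    rw [show x * β s t * x⁻¹ = ⁅x * l s * x⁻¹, x * l t * x⁻¹⁆ by
        simp only [β, commutatorElement_def]; group,
      hwd _ (C.conj_mem x (hl s)) _ (C.conj_mem x (hl t)), C.conj x _ (hl s), C.conj x _ (hl t), hlv, hlv]
  have hbase : ∀ s t, Indep s t → ∃ x : X, β s t = x * β e0 ![0, 1, 0] * x⁻¹ := by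
    intro s t hst
    obtain ⟨g, hg, hgs, hgt⟩ := exists_pair_mat s t hst
    obtain ⟨x, rfl⟩ := C.surj g hg
    exact ⟨x, by rw [hequiv, hgs, hgt]⟩
  have hone : ∀ s t, Indep s t → β s t = 1 → β e0 ![0, 1, 0] = 1 := by
    intro s t hst h
    obtain ⟨x, hx⟩ := hbase s t hst
    rw [hx] at h
    exact conj_eq_one_iff.1 h
  suffices h0 : β e0 ![0, 1, 0] = 1 by
    intro a ha b hb
    rw [← commutatorElement_eq_one_iff_mul_comm, hwd a ha b hb]
    by_cases hst : Indep (C.v a) (C.v b)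
    · obtain ⟨x, hx⟩ := hbase _ _ hst
      rw [hx, h0, mul_one, mul_inv_cancel]
    · rcases vec_cases _ _ hst with h | h | h
      · rw [h]; have := hadd 0 0 (C.v b); rw [add_zero] at this; exact left_eq_mul.1 this
      · rw [h]; have := hadd' (C.v a) 0 0; rw [add_zero] at this; exact left_eq_mul.1 this
      · rw [h]; exact hdiag _
  rcases hW with hfix | ⟨hmin, hsq, hK2⟩
  · have h1 : ∀ s t, Indep s t → β s t = β e0 ![0, 1, 0] := fun s t hst => by
      obtain ⟨x, hx⟩ := hbase s t hst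
      rw [hx, hfix x _ (hβW _ _)]
    have h2 := hadd' e0 ![0, 1, 0] ![0, 0, 1]
    rw [h1 _ _ (by decide), h1 e0 ![0, 0, 1] (by decide)] at h2
    exact left_eq_mul.1 h2
  by_contra hμ
  have hne : ∀ s t, Indep s t → β s t ≠ 1 := fun s t hst h => hμ (hone s t hst h)
  have hplane0 : ∀ p q : F3, Indep p q → (p = e0 ∨ p = ![0, 1, 0] ∨ p = ![1, 1, 0]) →
      (q = e0 ∨ q = ![0, 1, 0] ∨ q = ![1, 1, 0]) → β p q = β e0 ![0, 1, 0] := by
    intro p q hpq hp hq
    have e3 : (![1, 1, 0] : F3) = e0 + ![0, 1, 0] := by decide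
    rcases hp with rfl | rfl | rfl <;> rcases hq with rfl | rfl | rfl <;>
      first
        | exact absurd rfl hpq.2.2
        | exact rfl
        | exact hsym _ _
        | (rw [e3]; simp only [hadd, hadd', hdiag, one_mul, mul_one, hsym ![0, 1, 0] e0])
  have hplane : ∀ s t, Indep s t → ∀ p q, Indep p q → (p = s ∨ p = t ∨ p = s + t) →
      (q = s ∨ q = t ∨ q = s + t) → β p q = β s t := by
    intro s t hst p q hpq hp hq
    rcases hp with hp | hp | hp <;> rcases hq with hq | hq | hq <;> rw [hp, hq] at hpq ⊢ <;>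
      first
        | exact absurd rfl hpq.2.2
        | exact hsym _ _
        | simp only [hadd, hadd', hdiag, one_mul, mul_one, hsym t s]
  -- any two values multiply to a value
  have hpair : ∀ s t, Indep s t → β s t * β e0 ![0, 1, 0] = 1 ∨
      ∃ a b, Indep a b ∧ β s t * β e0 ![0, 1, 0] = β a b := by
    intro s t hst
    rcases plane_meet s t hst with ⟨h1, h2⟩ | ⟨a, b, b', hab, ha0, hb0, hab', has, hb', hbb⟩
    · left; rw [hplane0 s t hst h1 h2]; exact hWsq _ (hβW _ _)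
    · right
      refine ⟨a, b + b', hbb, ?_⟩
      rw [hadd', hplane0 a b hab ha0 hb0, hplane s t hst a b' hab' has hb']
      exact hWc _ (hβW _ _) _ (hβW _ _)
  let N : Subgroup X :=
    { carrier := {w | w = 1 ∨ ∃ s t, Indep s t ∧ w = β s t}
      one_mem' := Or.inl rfl
      mul_mem' := by
        rintro a b (rfl | ⟨s, t, hst, rfl⟩) hb
        · rwa [one_mul]
        rcases hb with rfl | ⟨s', t', hst', rfl⟩
        · rw [mul_one]; exact Or.inr ⟨s, t, hst, rfl⟩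
        obtain ⟨g, hg, hgs, hgt⟩ := exists_pair_mat s' t' hst'
        obtain ⟨x, rfl⟩ := C.surj g hg
        have hinv : ∀ w, C.ρ x *ᵥ (C.ρ x⁻¹ *ᵥ w) = w := fun w => by
          rw [mulVec_mulVec, ← map_mul, mul_inv_cancel, map_one, one_mulVec]
        have hst0 : Indep (C.ρ x⁻¹ *ᵥ s) (C.ρ x⁻¹ *ᵥ t) :=
          ⟨fun h => hst.1 (by rw [← hinv s, h, mulVec_zero]),
            fun h => hst.2.1 (by rw [← hinv t, h, mulVec_zero]),
            fun h => hst.2.2 (by rw [← hinv s, h, hinv])⟩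
        have hx : β s t * β s' t' =
            x * (β (C.ρ x⁻¹ *ᵥ s) (C.ρ x⁻¹ *ᵥ t) * β e0 ![0, 1, 0]) * x⁻¹ := by
          rw [← conj_mul, hequiv, hequiv, hinv, hinv, hgs, hgt]
        rcases hpair _ _ hst0 with h | ⟨a, b, hab, h⟩
        · left; rw [hx, h, mul_one, mul_inv_cancel]
        · right
          refine ⟨C.ρ x *ᵥ a, C.ρ x *ᵥ b, ?_, by rw [hx, h, hequiv]⟩
          have hinv' : ∀ w, C.ρ x⁻¹ *ᵥ (C.ρ x *ᵥ w) = w := fun w => by
            rw [mulVec_mulVec, ← map_mul, inv_mul_cancel, map_one, one_mulVec]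
          exact ⟨fun h => hab.1 (by rw [← hinv' a, h, mulVec_zero]),
            fun h => hab.2.1 (by rw [← hinv' b, h, mulVec_zero]),
            fun h => hab.2.2 (by rw [← hinv' a, h, hinv'])⟩
      inv_mem' := by
        rintro a (rfl | ⟨s, t, hst, rfl⟩)
        · exact Or.inl inv_one
        · exact Or.inr ⟨s, t, hst, inv_eq_of_mul_eq_one_right (hWsq _ (hβW s t))⟩ }
  have hNn : N.Normal := ⟨fun w hw x => by
    rcases hw with rfl | ⟨s, t, hst, rfl⟩
    · exact Or.inl (by rw [mul_one, mul_inv_cancel])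
    · refine Or.inr ⟨C.ρ x *ᵥ s, C.ρ x *ᵥ t, ?_, hequiv x s t⟩
      have hinv' : ∀ w, C.ρ x⁻¹ *ᵥ (C.ρ x *ᵥ w) = w := fun w => by
        rw [mulVec_mulVec, ← map_mul, inv_mul_cancel, map_one, one_mulVec]
      exact ⟨fun h => hst.1 (by rw [← hinv' s, h, mulVec_zero]),
        fun h => hst.2.1 (by rw [← hinv' t, h, mulVec_zero]),
        fun h => hst.2.2 (by rw [← hinv' s, h, hinv'])⟩⟩
  have hNW : N = W := hmin N hNn (by
    rintro w (rfl | ⟨s, t, -, rfl⟩)
    · exact W.one_mem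
    · exact hβW s t) fun h => hμ (by
      have : β e0 ![0, 1, 0] ∈ N := Or.inr ⟨_, _, by decide, rfl⟩
      rw [h] at this; exact this)
  -- squares
  have hq : ∀ a ∈ R1, ∀ b ∈ R1, C.v a = C.v b → a * a = b * b := by
    intro a ha b hb h
    have hk := C.rel ha hb h
    have ha' : a = a * b⁻¹ * b := by group
    rw [ha']
    generalize a * b⁻¹ = k at hk ⊢
    rw [show k * b * (k * b) = k * (b * k) * b by group, hKcen b hb k hk,
      show k * (k * b) * b = k * k * (b * b) by group, hK2 k hk, one_mul]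
  have hu : l e0 * l e0 = 1 := by
    rcases (hNW ▸ hsq _ (hl e0) : l e0 * l e0 ∈ N) with h | ⟨s, t, hst, h⟩
    · exact h
    exfalso
    obtain ⟨g, hgl, hmove⟩ := plane_moved s t hst
    obtain ⟨hgd, hgu⟩ := stab_props g hgl
    obtain ⟨x, rfl⟩ := C.surj g hgd
    have hinv' : ∀ w, C.ρ x⁻¹ *ᵥ (C.ρ x *ᵥ w) = w := fun w => by
      rw [mulVec_mulVec, ← map_mul, inv_mul_cancel, map_one, one_mulVec]
    have hgst : Indep (C.ρ x *ᵥ s) (C.ρ x *ᵥ t) :=
      ⟨fun h => hst.1 (by rw [← hinv' s, h, mulVec_zero]),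
        fun h => hst.2.1 (by rw [← hinv' t, h, mulVec_zero]),
        fun h => hst.2.2 (by rw [← hinv' s, h, hinv'])⟩
    have hfix : β (C.ρ x *ᵥ s) (C.ρ x *ᵥ t) = β s t := by
      rw [← hequiv, ← h, show x * (l e0 * l e0) * x⁻¹ = x * l e0 * x⁻¹ * (x * l e0 * x⁻¹) by group]
      exact hq _ (C.conj_mem x (hl e0)) _ (hl e0) (by rw [C.conj x _ (hl e0), hlv, hgu])
    -- pull the plane of `s, t` to the standard one
    obtain ⟨g', hg', hgs, hgt⟩ := exists_pair_mat s t hst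
    obtain ⟨y, rfl⟩ := C.surj g' hg'
    have hy : ∀ w, C.ρ y *ᵥ (C.ρ y⁻¹ *ᵥ w) = w := fun w => by
      rw [mulVec_mulVec, ← map_mul, mul_inv_cancel, map_one, one_mulVec]
    set a := C.ρ y⁻¹ *ᵥ (C.ρ x *ᵥ s) with ha
    set b := C.ρ y⁻¹ *ᵥ (C.ρ x *ᵥ t) with hb
    have hab : Indep a b :=
      ⟨fun h => hgst.1 (by rw [← hy (C.ρ x *ᵥ s), ← ha, h, mulVec_zero]),
        fun h => hgst.2.1 (by rw [← hy (C.ρ x *ᵥ t), ← hb, h, mulVec_zero]),
        fun h => hgst.2.2 (by rw [← hy (C.ρ x *ᵥ s), ← ha, h, hb, hy])⟩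
    have hval : β a b = β e0 ![0, 1, 0] := by
      refine (mul_right_inj y).1 ((mul_left_inj y⁻¹).1 ?_)
      rw [hequiv, hequiv, ha, hb, hy, hy, hgs, hgt, hfix]
    rcases plane_meet a b hab with ⟨h1, h2⟩ | ⟨c, d, d', hcd, hc0, hd0, hcd', hca, hd', hbb⟩
    · refine hmove ⟨?_, ?_⟩
      · rcases h1 with h1 | h1 | h1 <;> rw [← hy (C.ρ x *ᵥ s), ← ha, h1]
        · exact Or.inl hgs
        · exact Or.inr (Or.inl hgt)
        · rw [show (![1, 1, 0] : F3) = e0 + ![0, 1, 0] by decide, mulVec_add, hgs, hgt]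
          exact Or.inr (Or.inr rfl)
      · rcases h2 with h2 | h2 | h2 <;> rw [← hy (C.ρ x *ᵥ t), ← hb, h2]
        · exact Or.inl hgs
        · exact Or.inr (Or.inl hgt)
        · rw [show (![1, 1, 0] : F3) = e0 + ![0, 1, 0] by decide, mulVec_add, hgs, hgt]
          exact Or.inr (Or.inr rfl)
    · refine hne c (d + d') hbb ?_
      rw [hadd', hplane0 c d hcd hc0 hd0, hplane a b hab c d' hcd' hca hd', hval]
      exact hWsq _ (hβW _ _)
  have hsq1 : ∀ a ∈ R1, a * a = 1 := by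
    intro a ha
    by_cases h0 : C.v a = 0
    · exact hK2 a ((C.zero_iff a ha).1 h0)
    obtain ⟨g, hg, hgu⟩ := exists_vec_mat _ h0
    obtain ⟨x, rfl⟩ := C.surj g hg
    rw [hq a ha _ (C.conj_mem x (hl e0)) (by rw [C.conj x _ (hl e0), hlv, hgu]),
      show x * l e0 * x⁻¹ * (x * l e0 * x⁻¹) = x * (l e0 * l e0) * x⁻¹ by group, hu, mul_one, mul_inv_cancel]
  exact hμ (commutatorElement_eq_one_iff_mul_comm.2 (by
    calc l e0 * l ![0, 1, 0] = (l e0 * l ![0, 1, 0])⁻¹ :=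
          (inv_eq_of_mul_eq_one_right (hsq1 _ (mul_mem (hl _) (hl _)))).symm
      _ = l ![0, 1, 0] * l e0 := by
        rw [_root_.mul_inv_rev, inv_eq_of_mul_eq_one_right (hsq1 _ (hl _)), inv_eq_of_mul_eq_one_right (hsq1 _ (hl _))]))

/-- Squares on a commutative layer: none or an isomorphism onto the minimal normal subgroup. -/
theorem Coord.sq (C : Coord R R1 K) [K.Normal] (W : Subgroup X)
    (hab : ∀ a ∈ R1, ∀ b ∈ R1, a * b = b * a) (hK2 : ∀ k ∈ K, k * k = 1)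
    (hmin : ∀ N : Subgroup X, N.Normal → N ≤ W → N ≠ ⊥ → N = W) (hsq : ∀ a ∈ R1, a * a ∈ W) :
    (∀ a ∈ R1, a * a = 1) ∨ ((∀ w ∈ W, ∃ a ∈ R1, a * a = w) ∧ ∀ a ∈ R1, a * a = 1 → a ∈ K) := by
  by_cases hall : ∀ a ∈ R1, a * a = 1
  · exact Or.inl hall
  push Not at hall
  right
  let N : Subgroup X :=
    { carrier := {w | ∃ a ∈ R1, a * a = w}
      one_mem' := ⟨1, R1.one_mem, one_mul 1⟩
      mul_mem' := by
        rintro _ _ ⟨a, ha, rfl⟩ ⟨b, hb, rfl⟩
        exact ⟨a * b, mul_mem ha hb, by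
          rw [show a * b * (a * b) = a * (b * a) * b by group, hab b hb a ha]; group⟩
      inv_mem' := by
        rintro _ ⟨a, ha, rfl⟩
        exact ⟨a⁻¹, inv_mem ha, by group⟩ }
  have hNn : N.Normal := ⟨fun w ⟨a, ha, e⟩ x => ⟨x * a * x⁻¹, C.conj_mem x ha, by rw [← e]; group⟩⟩
  obtain ⟨a0, ha0, hne⟩ := hall
  have hNW : N = W := hmin N hNn (fun w ⟨a, ha, e⟩ => e ▸ hsq a ha) fun h => hne (by
    have : a0 * a0 ∈ N := ⟨a0, ha0, rfl⟩
    rw [h] at this; exact this)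
  refine ⟨fun w hw => (hNW ▸ hw : w ∈ N), fun a ha h1 => ?_⟩
  by_contra haK
  have hva : C.v a ≠ 0 := fun h => haK ((C.zero_iff a ha).1 h)
  have hva0 : C.v a0 ≠ 0 := fun h => hne (hK2 _ ((C.zero_iff a0 ha0).1 h))
  obtain ⟨g, hg, hga⟩ := exists_vec_mat _ hva
  obtain ⟨g', hg', hga0⟩ := exists_vec_mat _ hva0
  obtain ⟨x, rfl⟩ := C.surj g hg
  obtain ⟨x', rfl⟩ := C.surj g' hg'
  set y := x' * x⁻¹ with hy
  have hv : C.v (y * a * y⁻¹) = C.v a0 := by
    rw [C.conj y a ha, ← hga, hy, map_mul, mulVec_mulVec, mul_assoc, ← map_mul, inv_mul_cancel, map_one,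
      mul_one, hga0]
  have hk := C.rel ha0 (C.conj_mem y ha) hv.symm
  apply hne
  rw [show a0 = a0 * (y * a * y⁻¹)⁻¹ * (y * a * y⁻¹) by group]
  generalize a0 * (y * a * y⁻¹)⁻¹ = k at hk ⊢
  rw [show k * (y * a * y⁻¹) * (k * (y * a * y⁻¹)) = k * ((y * a * y⁻¹) * k) * (y * a * y⁻¹) by group,
    hab _ (C.conj_mem y ha) k (C.le hk),
    show k * (k * (y * a * y⁻¹)) * (y * a * y⁻¹) = k * k * (y * (a * a) * y⁻¹) by group, hK2 k hk, h1, one_mul,
    mul_one, mul_inv_cancel]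

/-- An element commuting with the group modulo a layer acts by zero or by the doubling map. -/
theorem Coord.endo (C : Coord R R1 K) (f : F3 → F3) (h0 : f 0 = 0)
    (hf : ∀ (x : X) (t : F3), f (C.ρ x *ᵥ t) = C.ρ x *ᵥ f t) : (∀ t, f t = 0) ∨ ∀ t, f t = t := by
  have he : f e0 = 0 ∨ f e0 = e0 := fixed_by_stab _ fun g hg => by
    obtain ⟨hgd, hgu⟩ := stab_props g hg
    obtain ⟨x, rfl⟩ := C.surj g hgd
    rw [← hf, hgu]
  refine he.imp (fun h t => ?_) (fun h t => ?_) <;>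
  · by_cases ht : t = 0
    · subst ht; exact h0
    obtain ⟨g, hg, hgt⟩ := exists_vec_mat t ht
    obtain ⟨x, rfl⟩ := C.surj g hg
    rw [← hgt, hf, h]
    try rw [mulVec_zero]

end Cfsg.Agent.Lie.ConstrainedLTwo
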