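import Cfsg.Agent.Lib.Lie.ConstrainedLTwo.Coord

/-!
# Homocyclic layers of exponent four

A normal homocyclic group of rank three and exponent four carrying the natural module yields an elementary
section of order thirty-two.
-/

set_option autoImplicit false
set_option linter.style.haveILetI false
set_option linter.unusedSectionVars false
set_option synthInstance.maxSize 4000
set_option maxRecDepth 100000

open Subgroup Matrix
open scoped commutatorElement

namespace Cfsg.Agent.Lie.ConstrainedLTwo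

universe u

/-- Reduction modulo two. -/
def redHom : ZMod 4 →+* ZMod 2 := ZMod.castHom (by norm_num) (ZMod 2)

/-- Reduction of a vector. -/
abbrev redV {n : ℕ} (a : Fin n → ZMod 4) : Fin n → ZMod 2 := fun i => redHom (a i)

theorem redHom_eq_zero : ∀ z : ZMod 4, redHom z = 0 → ∃ d : ZMod 4, z = 2 * d := by decide +kernel

variable {X : Type u} [Group X] [Finite X]

/-- Coordinates on a free module over the integers modulo four. -/
structure Frame (A : Subgroup X) (n : ℕ) (v : X → Fin n → ZMod 2) where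
  w : X → Fin n → ZMod 4
  M : X →* Matrix (Fin n) (Fin n) (ZMod 4)
  add : ∀ a ∈ A, ∀ b ∈ A, w (a * b) = w a + w b
  eq_one : ∀ a ∈ A, w a = 0 → a = 1
  lift : ∀ t, ∃ a ∈ A, w a = t
  conj : ∀ x : X, ∀ a ∈ A, w (x * a * x⁻¹) = M x *ᵥ w a
  red : ∀ a ∈ A, redV (w a) = v a

theorem exists_frame (A : Subgroup X) [A.Normal] {n : ℕ} (v : X → Fin n → ZMod 2)
    (hab : ∀ a ∈ A, ∀ b ∈ A, a * b = b * a) (h4 : ∀ a ∈ A, a ^ 4 = 1)
    (hadd : ∀ a ∈ A, ∀ b ∈ A, v (a * b) = v a + v b) (hsurj : ∀ t, ∃ a ∈ A, v a = t)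
    (hker : ∀ a ∈ A, a * a = 1 → v a = 0) (hcard : Nat.card A = 4 ^ n) : Nonempty (Frame A n v) := by
  classical
  letI : CommGroup A := { (inferInstance : Group A) with mul_comm := fun a b => Subtype.ext (hab a a.2 b b.2) }
  letI : Module (ZMod 4) (Additive A) := AddCommGroup.zmodModule (n := 4) (fun a => by
    show Additive.ofMul ((Additive.toMul a) ^ 4) = 0
    rw [show (Additive.toMul a) ^ 4 = 1 from Subtype.ext (by rw [Subgroup.coe_pow]; exact h4 _ (Additive.toMul a).2)]
    rfl)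
  let vA : Additive A →+ (Fin n → ZMod 2) :=
    AddMonoidHom.mk' (fun a => v (Additive.toMul a : A)) fun a b => hadd _ (Additive.toMul a).2 _ (Additive.toMul b).2
  choose g hg hgv using fun i => hsurj (Pi.single i 1)
  let gA : Fin n → Additive A := fun i => Additive.ofMul ⟨g i, hg i⟩
  let f := Fintype.linearCombination (ZMod 4) gA
  have hvf : ∀ c, vA (f c) = redV c := by
    intro c
    have h1 : ∀ (z : ZMod 4) (a : Additive A), vA (z • a) = fun j => redHom z * vA a j := by
      intro z a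
      obtain ⟨k, rfl⟩ := ZMod.natCast_zmod_surjective z
      rw [Nat.cast_smul_eq_nsmul, map_nsmul]
      funext j
      rw [Pi.smul_apply, nsmul_eq_mul, map_natCast]
    rw [Fintype.linearCombination_apply, map_sum]
    funext j
    rw [Finset.sum_apply, Finset.sum_eq_single j]
    · rw [h1]
      show redHom (c j) * v (g j) j = _
      rw [hgv, Pi.single_eq_same, mul_one]
    · intro i _ hij
      rw [h1]
      show redHom (c i) * v (g i) j = 0
      rw [hgv, Pi.single_eq_of_ne (Ne.symm hij), mul_zero]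
    · exact fun h => absurd (Finset.mem_univ j) h
  have hinj : Function.Injective f := by
    refine (injective_iff_map_eq_zero f).2 fun c hc => ?_
    have h1 : redV c = 0 := by rw [← hvf, hc, map_zero]
    choose d hd using fun i => redHom_eq_zero (c i) (congrFun h1 i)
    have hcd : c = (2 : ZMod 4) • d := funext fun i => hd i
    rw [hcd, map_smul] at hc
    have h2 : redV d = 0 := by
      rw [← hvf]
      refine hker _ (Additive.toMul (f d)).2 ?_
      have h3 : ((2 : ℕ) : ZMod 4) • f d = 0 := hc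
      rw [Nat.cast_smul_eq_nsmul, two_nsmul] at h3
      exact congrArg Subtype.val (congrArg Additive.toMul h3)
    choose d' hd' using fun i => redHom_eq_zero (d i) (congrFun h2 i)
    funext i
    rw [hd i, hd' i, ← mul_assoc, Pi.zero_apply]
    exact (by decide : ∀ z : ZMod 4, 2 * 2 * z = 0) _
  haveI : Fintype (Additive A) := Fintype.ofFinite _
  have hb := (Fintype.bijective_iff_injective_and_card f).2 ⟨hinj, by
    rw [Fintype.card_fun, ZMod.card, Fintype.card_fin, ← Nat.card_eq_fintype_card]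
    exact hcard.symm⟩
  let e : (Fin n → ZMod 4) ≃ₗ[ZMod 4] Additive A := LinearEquiv.ofBijective f hb
  let w : X → Fin n → ZMod 4 := fun a => if h : a ∈ A then e.symm (Additive.ofMul ⟨a, h⟩) else 0
  have hw : ∀ (a : X) (h : a ∈ A), w a = e.symm (Additive.ofMul ⟨a, h⟩) := fun a h => dif_pos h
  have hwadd : ∀ a ∈ A, ∀ b ∈ A, w (a * b) = w a + w b := fun a ha b hb => by
    rw [hw _ ha, hw _ hb, hw _ (mul_mem ha hb), ← map_add]
    rfl
  have hlift : ∀ t, ∃ a ∈ A, w a = t := fun t => ⟨_, (Additive.toMul (e t)).2, by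
    rw [hw _ (Additive.toMul (e t)).2]; exact e.symm_apply_apply t⟩
  choose l hl hlw using hlift
  have hone : ∀ a ∈ A, w a = 0 → a = 1 := fun a ha h => by
    rw [hw a ha, LinearEquiv.map_eq_zero_iff, ← ofMul_one, Equiv.apply_eq_iff_eq] at h
    exact congrArg Subtype.val h
  have heq : ∀ a ∈ A, ∀ b ∈ A, w a = w b → a = b := fun a ha b hb h => by
    rw [hw a ha, hw b hb] at h
    exact congrArg Subtype.val (Additive.ofMul.injective (e.symm.injective h))
  have hcm : ∀ x : X, ∀ a ∈ A, x * a * x⁻¹ ∈ A := fun x a ha => Normal.conj_mem inferInstance a ha x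
  let L : X → ((Fin n → ZMod 4) →ₗ[ZMod 4] (Fin n → ZMod 4)) := fun x =>
    AddMonoidHom.toZModLinearMap 4
      (AddMonoidHom.mk' (fun t => w (x * l t * x⁻¹)) fun s t => by
        show w (x * l (s + t) * x⁻¹) = w (x * l s * x⁻¹) + w (x * l t * x⁻¹)
        rw [← hwadd _ (hcm x _ (hl s)) _ (hcm x _ (hl t)),
          heq _ (hl _) _ (mul_mem (hl s) (hl t)) (by rw [hlw, hwadd _ (hl s) _ (hl t), hlw, hlw])]
        congr 1
        group)
  have hL : ∀ x : X, ∀ a ∈ A, L x (w a) = w (x * a * x⁻¹) := fun x a ha => by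
    show w (x * l (w a) * x⁻¹) = _
    rw [heq _ (hl _) a ha (hlw _)]
  have hLmul : ∀ x y, L (x * y) = (L x).comp (L y) := fun x y => LinearMap.ext fun t => by
    rw [← hlw t, hL _ _ (hl t), LinearMap.comp_apply, hL _ _ (hl t), hL _ _ (hcm y _ (hl t))]
    congr 1
    group
  have hL1 : L 1 = LinearMap.id := LinearMap.ext fun t => by
    rw [← hlw t, hL 1 _ (hl t), one_mul, inv_one, mul_one]; rfl
  refine ⟨⟨w,
    { toFun := fun x => LinearMap.toMatrix' (L x)
      map_one' := by rw [hL1, LinearMap.toMatrix'_id]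
      map_mul' := fun x y => by rw [hLmul, LinearMap.toMatrix'_comp] },
    hwadd, hone, fun t => ⟨l t, hl t, hlw t⟩, fun x a ha => ?_, fun a ha => ?_⟩⟩
  · show _ = LinearMap.toMatrix' (L x) *ᵥ w a
    rw [← Matrix.toLin'_apply, Matrix.toLin'_toMatrix', hL x a ha]
  · rw [← hvf, hw a ha]
    show v (Additive.toMul (e (e.symm (Additive.ofMul (⟨a, ha⟩ : A)))) : A) = v a
    rw [e.apply_symm_apply]
    rfl

variable {A : Subgroup X} {n : ℕ} {v : X → Fin n → ZMod 2}

theorem Frame.one (F : Frame A n v) : F.w 1 = 0 := by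
  have := F.add 1 A.one_mem 1 A.one_mem
  rw [mul_one] at this
  exact left_eq_add.1 this

theorem Frame.inv (F : Frame A n v) {a : X} (ha : a ∈ A) : F.w a⁻¹ = -F.w a := by
  have h := F.add a⁻¹ (inv_mem ha) a ha
  rw [inv_mul_cancel, F.one] at h
  exact eq_neg_of_add_eq_zero_left h.symm

theorem Frame.inj (F : Frame A n v) {a b : X} (ha : a ∈ A) (hb : b ∈ A) (h : F.w a = F.w b) : a = b := by
  have h1 := F.eq_one (a * b⁻¹) (mul_mem ha (inv_mem hb))
    (by rw [F.add a ha _ (inv_mem hb), F.inv hb, h, add_neg_cancel])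
  exact mul_inv_eq_one.1 h1

theorem Frame.M_eq_one (F : Frame A n v) (hab : ∀ a ∈ A, ∀ b ∈ A, a * b = b * a) {a : X} (ha : a ∈ A) :
    F.M a = 1 := by
  refine Matrix.ext_of_mulVec_single fun i => ?_
  obtain ⟨b, hb, hbw⟩ := F.lift (Pi.single i 1)
  rw [← hbw, ← F.conj a b hb, one_mulVec, hab a ha b hb, mul_inv_cancel_right]

/-- Lift of the single Jordan block. -/
abbrev jOne : Matrix (Fin 3) (Fin 3) (ZMod 4) := !![1, 0, 0; 1, 1, 0; 0, 1, 1]
/-- Lift of the transvection with centre the last and axis the last two basis vectors. -/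
abbrev tOne : Matrix (Fin 3) (Fin 3) (ZMod 4) := !![1, 0, 0; 0, 1, 0; 1, 0, 1]
/-- Lift of the transvection with centre the last and axis the first and last basis vectors. -/
abbrev tTwo : Matrix (Fin 3) (Fin 3) (ZMod 4) := !![1, 0, 0; 0, 1, 0; 0, 1, 1]

/-- A matrix with given reduction from the bits of its difference. -/
abbrev pert (B : Matrix (Fin 3) (Fin 3) (ZMod 4)) (k : Fin 3 → Fin 3 → Bool) : Matrix (Fin 3) (Fin 3) (ZMod 4) :=
  fun i j => B i j + bif k i j then 2 else 0

theorem entry_pert : ∀ a b : ZMod 4, redHom a = redHom b → ∃ k : Bool, a = b + bif k then 2 else 0 := by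
  decide +kernel

theorem exists_pert {M B : Matrix (Fin 3) (Fin 3) (ZMod 4)} (h : M.map redHom = B.map redHom) :
    ∃ k, M = pert B k := by
  choose k hk using fun i j => entry_pert (M i j) (B i j) (congrFun (congrFun h i) j)
  exact ⟨k, funext fun i => funext fun j => hk i j⟩

/-- Explicit product of a matrix with a vector. -/
def mvThree (M : Matrix (Fin 3) (Fin 3) (ZMod 4)) (a : Fin 3 → ZMod 4) : Fin 3 → ZMod 4 :=
  ![M 0 0 * a 0 + M 0 1 * a 1 + M 0 2 * a 2, M 1 0 * a 0 + M 1 1 * a 1 + M 1 2 * a 2,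
    M 2 0 * a 0 + M 2 1 * a 1 + M 2 2 * a 2]

/-- Explicit determinant. -/
def detThree (M : Matrix (Fin 3) (Fin 3) (ZMod 4)) : ZMod 4 :=
  M 0 0 * M 1 1 * M 2 2 - M 0 0 * M 1 2 * M 2 1 - M 0 1 * M 1 0 * M 2 2 + M 0 1 * M 1 2 * M 2 0 +
    M 0 2 * M 1 0 * M 2 1 - M 0 2 * M 1 1 * M 2 0

theorem mvThree_eq (M : Matrix (Fin 3) (Fin 3) (ZMod 4)) (a : Fin 3 → ZMod 4) : M *ᵥ a = mvThree M a := by
  funext i
  fin_cases i <;> simp [mvThree, Matrix.mulVec, dotProduct, Fin.sum_univ_three]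

theorem detThree_eq (M : Matrix (Fin 3) (Fin 3) (ZMod 4)) : M.det = detThree M := Matrix.det_fin_three M

set_option maxHeartbeats 0 in
theorem jordan_data : ∀ k : Fin 3 → Fin 3 → Bool, detThree (pert jOne k) = 1 →
    mvThree (pert jOne k) (mvThree (pert jOne k) (mvThree (pert jOne k) (mvThree (pert jOne k) ![1, 0, 0]))) =
      ![1, 0, 0] →
    ∀ s : Fin 3 → ZMod 4, mvThree (pert jOne k) s = s →
      ∃ z : ZMod 4, mvThree (pert jOne k) (mvThree (pert jOne k) ![z, 0, 0]) + s + ![z, 0, 0] = 0 := by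
  decide +kernel

theorem jordan_lift (k : Fin 3 → Fin 3 → Bool) (hd : (pert jOne k).det = 1)
    (h4 : pert jOne k * pert jOne k * (pert jOne k * pert jOne k) = 1) (s : Fin 3 → ZMod 4)
    (hs : pert jOne k *ᵥ s = s) :
    ∃ a : Fin 3 → ZMod 4, (pert jOne k * pert jOne k) *ᵥ a + s + a = 0 := by
  rw [detThree_eq] at hd
  rw [mvThree_eq] at hs
  have h5 := congrArg (fun M => M *ᵥ (![1, 0, 0] : Fin 3 → ZMod 4)) h4
  simp only [← mulVec_mulVec, one_mulVec, mvThree_eq] at h5
  obtain ⟨z, hz⟩ := jordan_data k hd h5 s hs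
  exact ⟨![z, 0, 0], by rw [← mulVec_mulVec, mvThree_eq, mvThree_eq]; exact hz⟩

set_option maxHeartbeats 0 in
theorem jordan_fixed : ∀ k : Fin 3 → Fin 3 → Bool, detThree (pert jOne k) = 1 →
    mvThree (pert jOne k) (mvThree (pert jOne k) (mvThree (pert jOne k) (mvThree (pert jOne k) ![1, 0, 0]))) =
      ![1, 0, 0] →
    mvThree (pert jOne k) (mvThree (pert jOne k) (mvThree (pert jOne k) ![1, 0, 0]) + ![1, 0, 0]) =
        mvThree (pert jOne k) (mvThree (pert jOne k) ![1, 0, 0]) + ![1, 0, 0] ∧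
      redV (mvThree (pert jOne k) (mvThree (pert jOne k) ![1, 0, 0]) + ![1, 0, 0]) = ![0, 0, 1] := by
  decide +kernel

set_option maxHeartbeats 0 in
theorem tOne_data : ∀ k : Fin 3 → Fin 3 → Bool,
    mvThree (pert tOne k) (mvThree (pert tOne k) ![1, 0, 0]) = ![1, 0, 0] →
      mvThree (pert tOne k) ![0, 0, 1] = ![0, 0, 1] ∨ mvThree (pert tOne k) ![0, 0, 1] = ![0, 0, 3] := by
  decide +kernel

set_option maxHeartbeats 0 in
theorem tTwo_data : ∀ k : Fin 3 → Fin 3 → Bool, detThree (pert tTwo k) = 1 →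
    mvThree (pert tTwo k) (mvThree (pert tTwo k) ![1, 0, 0]) = ![1, 0, 0] →
    mvThree (pert tTwo k) (mvThree (pert tTwo k) ![0, 1, 0]) = ![0, 1, 0] →
      (mvThree (pert tTwo k) ![0, 0, 1] = ![0, 0, 1] ∨ mvThree (pert tTwo k) ![0, 0, 1] = ![0, 0, 3]) ∧
      (mvThree (pert tTwo k) ![1, 0, 0] + ![1, 0, 0] = 0 ∨
        mvThree (pert tTwo k) ![1, 0, 0] + ![1, 0, 0] = ![0, 0, 2]) := by
  decide +kernel

theorem pert_even (B : Matrix (Fin 3) (Fin 3) (ZMod 4)) (k : Fin 3 → Fin 3 → Bool) (c : Fin 3 → ZMod 4)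
    (hc0 : redV c = 0) : pert B k *ᵥ c = B *ᵥ c := by
  choose d hd using fun i => redHom_eq_zero (c i) (congrFun hc0 i)
  funext i
  show ∑ j, pert B k i j * c j = ∑ j, B i j * c j
  refine Finset.sum_congr rfl fun j _ => ?_
  show (B i j + bif k i j then 2 else 0) * c j = B i j * c j
  rw [hd j]
  generalize B i j = p, d j = q, k i j = r
  revert p q r
  decide

set_option maxHeartbeats 0 in
theorem line_cases : ∀ a : Fin 3 → ZMod 4, redV a 0 = 0 → redV a 1 = 0 →
    redV ![a 0, a 1, 0] = 0 ∧ a = ![a 0, a 1, 0] + a 2 • ![0, 0, 1] ∧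
      ∀ g : ZMod 4, (g = 1 ∨ g = 3) →
        (mvThree tOne ![a 0, a 1, 0] + a 2 • ![0, 0, g] = a ∨
          mvThree tOne ![a 0, a 1, 0] + a 2 • ![0, 0, g] = a + ![0, 0, 2]) ∧
        (mvThree tTwo ![a 0, a 1, 0] + a 2 • ![0, 0, g] = a ∨
          mvThree tTwo ![a 0, a 1, 0] + a 2 • ![0, 0, g] = a + ![0, 0, 2]) := by
  decide +kernel

theorem line_fixed {B : Matrix (Fin 3) (Fin 3) (ZMod 4)} (hB : B ∈ [tOne, tTwo]) (k : Fin 3 → Fin 3 → Bool)
    (hg : mvThree (pert B k) ![0, 0, 1] = ![0, 0, 1] ∨ mvThree (pert B k) ![0, 0, 1] = ![0, 0, 3])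
    (a : Fin 3 → ZMod 4) (h0 : redV a 0 = 0) (h1 : redV a 1 = 0) :
    pert B k *ᵥ a = a ∨ pert B k *ᵥ a = a + ![0, 0, 2] := by
  obtain ⟨he, hsplit, hall⟩ := line_cases a h0 h1
  have hMa : pert B k *ᵥ a = B *ᵥ ![a 0, a 1, 0] + a 2 • (pert B k *ᵥ ![0, 0, 1]) := by
    conv_lhs => rw [hsplit]
    rw [mulVec_add, mulVec_smul, pert_even B k _ he]
  rw [hMa, mvThree_eq (pert B k), mvThree_eq B]
  simp only [List.mem_cons, List.not_mem_nil, or_false] at hB
  rcases hg with h | h <;> rw [h] <;> rcases hB with rfl | rfl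
  · exact (hall 1 (Or.inl rfl)).1
  · exact (hall 1 (Or.inl rfl)).2
  · exact (hall 3 (Or.inr rfl)).1
  · exact (hall 3 (Or.inr rfl)).2

theorem even_fixed : ∀ c : Fin 3 → ZMod 4, redV c = 0 → tOne *ᵥ c = -c → tTwo *ᵥ c = -c →
    c = 0 ∨ c = ![0, 0, 2] := by
  decide +kernel

theorem red_fixed : ∀ t : F3, tOne.map redHom *ᵥ t = t → tTwo.map redHom *ᵥ t = t →
    t = 0 ∨ t = ![0, 0, 1] := by
  decide +kernel

/-- The swap of the first two basis vectors. -/
abbrev swapMat : Mat3 := !![0, 1, 0; 1, 0, 0; 0, 0, 1]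

theorem mat_facts : (jOne.map redHom).det = 1 ∧ jOne.map redHom * jOne.map redHom = tOne.map redHom ∧
    swapMat.det = 1 ∧ swapMat * swapMat = 1 ∧ swapMat * tOne.map redHom * swapMat = tTwo.map redHom ∧
    tOne.map redHom * tTwo.map redHom * (tOne.map redHom * tTwo.map redHom) = 1 ∧
    (tOne.map redHom * tTwo.map redHom) *ᵥ e0 + e0 = ![0, 0, 1] ∧
    (tOne.map redHom) ≠ 1 ∧ (tTwo.map redHom) ≠ 1 ∧ tOne.map redHom * tTwo.map redHom ≠ 1 := by
  decide +kernel

theorem card_azero : Fintype.card {t : Fin 3 → ZMod 4 // redV t 0 = 0 ∧ redV t 1 = 0} = 16 := by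
  decide +kernel

theorem red_map_mulVec (M : Matrix (Fin 3) (Fin 3) (ZMod 4)) (a : Fin 3 → ZMod 4) :
    redV (M *ᵥ a) = M.map redHom *ᵥ redV a :=
  funext fun i => RingHom.map_mulVec redHom M a i

/-- No group of sectional rank four has a homocyclic normal subgroup with the natural action. -/
theorem cube_absurd (hrank : Cfsg.SectionalPRankLE 2 4 X) {A : Subgroup X} [A.Normal] {v : X → F3}
    (F : Frame A 3 v) (hab : ∀ a ∈ A, ∀ b ∈ A, a * b = b * a)
    (G : Subgroup X) (hAG : A ≤ G) (hdet : ∀ x ∈ G, (F.M x).det = 1)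
    (hreal : ∀ g : Mat3, g.det = 1 → ∃ x ∈ G, (F.M x).map redHom = g)
    (hH : ∀ x ∈ G, ((F.M x).map redHom = tOne.map redHom ∨
      (F.M x).map redHom = tOne.map redHom * tTwo.map redHom) → x * x ∈ A) : False := by
  classical
  obtain ⟨hJdet, hJJ, hsdet, hss, hsT, hTT, hT3, hne1, hne2, hne3⟩ := mat_facts
  have hcm : ∀ x : X, ∀ a ∈ A, x * a * x⁻¹ ∈ A := fun x a ha => Normal.conj_mem inferInstance a ha x
  have hMA : ∀ a ∈ A, F.M a = 1 := fun a ha => F.M_eq_one hab ha
  have hmapmul : ∀ x y, (F.M (x * y)).map redHom = (F.M x).map redHom * (F.M y).map redHom := fun x y => by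
    rw [map_mul, Matrix.map_mul]
  -- an involution over the first transvection
  obtain ⟨y, hyG, hy⟩ := hreal _ hJdet
  obtain ⟨k, hk⟩ := exists_pert hy
  have hy2 : (F.M (y * y)).map redHom = tOne.map redHom := by rw [hmapmul, hy, hJJ]
  have hy4 : y * y * (y * y) ∈ A := hH _ (mul_mem hyG hyG) (Or.inl hy2)
  have hs : F.M y *ᵥ F.w (y * y * (y * y)) = F.w (y * y * (y * y)) := by
    rw [← F.conj y _ hy4]; congr 1; group
  have hM4 : F.M y * F.M y * (F.M y * F.M y) = 1 := by
    rw [← map_mul, ← map_mul]; exact hMA _ hy4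
  obtain ⟨t, ht⟩ := jordan_lift k (hk ▸ hdet y hyG) (hk ▸ hM4) _ (hk ▸ hs)
  rw [← hk, ← map_mul] at ht
  obtain ⟨a, ha, hat⟩ := F.lift t
  set e1 := y * y * a with he1
  have he1G : e1 ∈ G := mul_mem (mul_mem hyG hyG) (hAG ha)
  have he1sq : e1 * e1 = 1 := by
    rw [show e1 * e1 = y * y * a * (y * y)⁻¹ * (y * y * (y * y)) * a by rw [he1]; simp [mul_assoc]]
    refine F.eq_one _ (mul_mem (mul_mem (hcm _ a ha) hy4) ha) ?_
    rw [F.add _ (mul_mem (hcm _ a ha) hy4) _ ha, F.add _ (hcm _ a ha) _ hy4, F.conj _ a ha, hat]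
    exact ht
  have he1M : (F.M e1).map redHom = tOne.map redHom := by rw [he1, map_mul, hMA a ha, mul_one, hy2]
  -- its conjugate over the second transvection
  obtain ⟨h, hhG, hh⟩ := hreal _ hsdet
  set e2 := h * e1 * h⁻¹ with he2
  have he2G : e2 ∈ G := mul_mem (mul_mem hhG he1G) (inv_mem hhG)
  have he2sq : e2 * e2 = 1 := by
    rw [show e2 * e2 = h * (e1 * e1) * h⁻¹ by rw [he2]; group, he1sq, mul_one, mul_inv_cancel]
  have hhinv : (F.M h⁻¹).map redHom = swapMat := by
    have h1 := hmapmul h h⁻¹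
    rw [mul_inv_cancel, map_one, Matrix.map_one _ (map_zero _) (map_one _), hh] at h1
    calc (F.M h⁻¹).map redHom = swapMat * swapMat * (F.M h⁻¹).map redHom := by rw [hss, one_mul]
      _ = swapMat := by rw [mul_assoc, ← h1, mul_one]
  have he2M : (F.M e2).map redHom = tTwo.map redHom := by
    rw [he2, hmapmul, hmapmul, hh, he1M, hhinv, hsT]
  obtain ⟨k1, hk1⟩ := exists_pert he1M
  obtain ⟨k2, hk2⟩ := exists_pert he2M
  have hinvM : ∀ e, e * e = 1 → F.M e * F.M e = 1 := fun e he => by rw [← map_mul, he, map_one]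
  have hsqv : ∀ e, e * e = 1 → ∀ z, mvThree (F.M e) (mvThree (F.M e) z) = z := fun e he z => by
    rw [← mvThree_eq, ← mvThree_eq, mulVec_mulVec, hinvM e he, one_mulVec]
  have D1 := tOne_data k1 (by rw [← hk1]; exact hsqv e1 he1sq _)
  have D2 := tTwo_data k2 (by rw [← hk2, ← detThree_eq]; exact hdet e2 he2G)
    (by rw [← hk2]; exact hsqv e2 he2sq _) (by rw [← hk2]; exact hsqv e2 he2sq _)
  have T1 : ∀ b : Fin 3 → ZMod 4, redV b 0 = 0 → redV b 1 = 0 →
      F.M e1 *ᵥ b = b ∨ F.M e1 *ᵥ b = b + ![0, 0, 2] := hk1 ▸ line_fixed (by simp) k1 D1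
  have T2 : ∀ b : Fin 3 → ZMod 4, redV b 0 = 0 → redV b 1 = 0 →
      F.M e2 *ᵥ b = b ∨ F.M e2 *ᵥ b = b + ![0, 0, 2] := hk2 ▸ line_fixed (by simp) k2 D2.1
  -- the special element
  obtain ⟨m, hm, hmw⟩ := F.lift ![0, 0, 2]
  have hm2 : m * m = 1 := F.eq_one _ (mul_mem hm hm) (by rw [F.add m hm m hm, hmw]; decide +kernel)
  have hm1 : m ≠ 1 := fun e => by
    rw [e, F.one] at hmw; revert hmw; decide +kernel
  have hin : ∀ b ∈ A, F.w b = 0 ∨ F.w b = ![0, 0, 2] → b ∈ zpowers m := by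
    rintro b hb (hb' | hb')
    · rw [F.eq_one b hb hb']; exact one_mem _
    · rw [F.inj hb hm (hb'.trans hmw.symm)]; exact mem_zpowers m
  have hMm : ∀ z ∈ zpowers m, z = 1 ∨ z = m := by
    intro z hz
    obtain ⟨i, rfl⟩ := mem_zpowers_iff.1 hz
    rcases Int.even_or_odd i with ⟨j, rfl⟩ | ⟨j, rfl⟩
    · left; rw [← two_mul, _root_.zpow_mul, zpow_ofNat, pow_two, hm2, _root_.one_zpow]
    · right; rw [_root_.zpow_add, _root_.zpow_mul, zpow_ofNat, pow_two, hm2, _root_.one_zpow, one_mul, zpow_one]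
  -- adjust the second involution
  obtain ⟨f, hfM, hfsq, hfc⟩ : ∃ f, F.M f = F.M e2 ∧ f * f ∈ zpowers m ∧
      v (e1 * f * (e1 * f)) = 0 ∧ e1 * f * (e1 * f) ∈ A := by
    have hc : e1 * e2 * (e1 * e2) ∈ A := hH _ (mul_mem he1G he2G) (Or.inr (by rw [hmapmul, he1M, he2M]))
    have hcinv : (e1 * e2 * (e1 * e2))⁻¹ = e2 * e1 * (e2 * e1) := by
      refine inv_eq_of_mul_eq_one_right ?_
      calc e1 * e2 * (e1 * e2) * (e2 * e1 * (e2 * e1))
          = e1 * e2 * e1 * (e2 * e2) * e1 * e2 * e1 := by group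
        _ = e1 * e2 * (e1 * e1) * e2 * e1 := by rw [he2sq]; group
        _ = e1 * (e2 * e2) * e1 := by rw [he1sq]; group
        _ = 1 := by rw [he2sq, mul_one, he1sq]
    have hanti1 : F.M e1 *ᵥ F.w (e1 * e2 * (e1 * e2)) = -F.w (e1 * e2 * (e1 * e2)) := by
      rw [← F.conj e1 _ hc, ← F.inv hc, hcinv]
      refine congrArg F.w ?_
      calc e1 * (e1 * e2 * (e1 * e2)) * e1⁻¹ = e1 * e1 * (e2 * e1 * (e2 * e1⁻¹)) := by group
        _ = _ := by rw [he1sq, one_mul, inv_eq_of_mul_eq_one_right he1sq]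
    have hanti2 : F.M e2 *ᵥ F.w (e1 * e2 * (e1 * e2)) = -F.w (e1 * e2 * (e1 * e2)) := by
      rw [← F.conj e2 _ hc, ← F.inv hc, hcinv]
      refine congrArg F.w ?_
      group
    have hneg : ∀ z : Fin 3 → ZMod 4, redV (-z) = redV z := fun z => funext fun i => by
      show redHom (-z i) = redHom (z i)
      rw [map_neg]; exact CharTwo.neg_eq _
    have hf1 := congrArg redV hanti1
    have hf2 := congrArg redV hanti2
    rw [red_map_mulVec, he1M, hneg, F.red _ hc] at hf1
    rw [red_map_mulVec, he2M, hneg, F.red _ hc] at hf2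
    rcases red_fixed _ hf1 hf2 with h0 | h0
    · exact ⟨e2, rfl, by rw [he2sq]; exact one_mem _, h0, hc⟩
    obtain ⟨u, hu, huw⟩ := F.lift ![1, 0, 0]
    refine ⟨e2 * u, by rw [map_mul, hMA u hu, mul_one], ?_, ?_, ?_⟩
    · have h1 : e2 * u * (e2 * u) = e2 * u * e2⁻¹ * u := by
        rw [inv_eq_of_mul_eq_one_right he2sq]; group
      rw [h1]
      refine hin _ (mul_mem (hcm _ u hu) hu) ?_
      rw [F.add _ (hcm _ u hu) _ hu, F.conj _ u hu]
      rw [huw, hk2, mvThree_eq]
      exact D2.2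
    · have h1 : e1 * (e2 * u) * (e1 * (e2 * u)) =
          (e1 * e2) * u * (e1 * e2)⁻¹ * (e1 * e2 * (e1 * e2)) * u := by group
      rw [h1, ← F.red _ (mul_mem (mul_mem (hcm _ u hu) hc) hu), F.add _ (mul_mem (hcm _ u hu) hc) _ hu,
        F.add _ (hcm _ u hu) _ hc, F.conj _ u hu]
      have hadd2 : ∀ p q : Fin 3 → ZMod 4, redV (p + q) = redV p + redV q := fun p q =>
        funext fun i => map_add redHom (p i) (q i)
      rw [hadd2, hadd2, red_map_mulVec, hmapmul, he1M, he2M, F.red _ hc, h0, huw]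
      decide +kernel
    · rw [show e1 * (e2 * u) * (e1 * (e2 * u)) =
          (e1 * e2) * u * (e1 * e2)⁻¹ * (e1 * e2 * (e1 * e2)) * u by group]
      exact mul_mem (mul_mem (hcm _ u hu) hc) hu
  obtain ⟨hfv, hc⟩ := hfc
  set c := e1 * f * (e1 * f) with hcdef
  -- the special element is centralised
  have hcen1 : ∀ b ∈ A, redV (F.w b) 0 = 0 → redV (F.w b) 1 = 0 → ⁅e1, b⁆ ∈ zpowers m ∧ ⁅f, b⁆ ∈ zpowers m := by
    intro b hb h0 h1
    rw [commutatorElement_def, commutatorElement_def]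
    refine ⟨hin _ (mul_mem (hcm _ b hb) (inv_mem hb)) ?_, hin _ (mul_mem (hcm _ b hb) (inv_mem hb)) ?_⟩
    · rw [F.add _ (hcm _ b hb) _ (inv_mem hb), F.conj _ b hb, F.inv hb]
      rcases T1 _ h0 h1 with e | e <;> rw [e]
      · exact Or.inl (add_neg_cancel _)
      · exact Or.inr (by abel)
    · rw [F.add _ (hcm _ b hb) _ (inv_mem hb), F.conj _ b hb, F.inv hb, hfM]
      rcases T2 _ h0 h1 with e | e <;> rw [e]
      · exact Or.inl (add_neg_cancel _)
      · exact Or.inr (by abel)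
  have hmfix : ∀ e : X, F.M e = F.M e1 ∨ F.M e = F.M e2 → e * m = m * e := by
    intro e he
    rw [← mul_inv_eq_iff_eq_mul]
    refine F.inj (hcm e m hm) hm ?_
    rw [F.conj e m hm, hmw]
    rcases he with he | he <;> rw [he]
    · rw [hk1, pert_even _ _ _ (by decide +kernel)]; decide +kernel
    · rw [hk2, pert_even _ _ _ (by decide +kernel)]; decide +kernel
  have hf1 := hmfix f (Or.inr hfM)
  have he1m := hmfix e1 (Or.inl rfl)
  -- the product squared lies in the special subgroup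
  have hcin : c ∈ zpowers m := by
    have hff : f * f = 1 ∨ f * f = m := hMm _ hfsq
    set d := f * f with hd
    have hd1 : e1 * d = d * e1 := by rcases hff with e | e <;> rw [e] <;> first | (rw [mul_one, one_mul]) | exact he1m
    have hd2 : d * d = 1 := by rcases hff with e | e <;> rw [e] <;> first | exact one_mul 1 | exact hm2
    have hfd : f⁻¹ = f * d := by
      refine inv_eq_of_mul_eq_one_right ?_
      rw [← mul_assoc, ← hd, hd2]
    have hdf : d * f = f * d := by rw [hd]; group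
    have hcinv : c⁻¹ = f * e1 * (f * e1) := by
      rw [hcdef, _root_.mul_inv_rev, _root_.mul_inv_rev, inv_eq_of_mul_eq_one_right he1sq, hfd]
      calc f * d * e1 * (f * d * e1) = f * (d * e1) * (f * (d * e1)) := by group
        _ = f * (e1 * d) * (f * (e1 * d)) := by rw [hd1]
        _ = f * e1 * (d * f) * e1 * d := by group
        _ = f * e1 * f * (d * e1) * d := by rw [hdf]; group
        _ = f * e1 * (f * e1) * (d * d) := by rw [← hd1]; group
        _ = _ := by rw [hd2, mul_one]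
    have hanti1 : F.M e1 *ᵥ F.w c = -F.w c := by
      rw [← F.conj e1 c hc, ← F.inv hc, hcinv, inv_eq_of_mul_eq_one_right he1sq, hcdef]
      congr 1
      calc e1 * (e1 * f * (e1 * f)) * e1 = e1 * e1 * (f * e1 * (f * e1)) := by group
        _ = _ := by rw [he1sq, one_mul]
    have hanti2 : F.M f *ᵥ F.w c = -F.w c := by
      rw [← F.conj f c hc, ← F.inv hc, hcinv, hcdef]
      congr 1
      group
    have hred : redV (F.w c) = 0 := by rw [F.red c hc, hfv]
    rw [hk1, pert_even _ _ _ hred] at hanti1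
    rw [hfM, hk2, pert_even _ _ _ hred] at hanti2
    exact hin c hc (even_fixed _ hred hanti1 hanti2)
  -- the section
  let A0 : Set X := {b | b ∈ A ∧ redV (F.w b) 0 = 0 ∧ redV (F.w b) 1 = 0}
  let S : Set X := A0 ∪ {e1, f}
  have hmA0 : m ∈ A0 := ⟨hm, by rw [hmw]; decide +kernel, by rw [hmw]; decide +kernel⟩
  refine section_absurd hrank (closure S) (zpowers m) S rfl
    ((zpowers_le).2 (subset_closure (Or.inl hmA0))) ?_ ?_ ?_ ?_
  · intro s hs z hz
    rcases hMm z hz with rfl | rfl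
    · rw [mul_one, one_mul]
    rcases hs with hs | rfl | rfl
    · exact hab s hs.1 _ hm
    · exact he1m
    · exact hf1
  · rintro s (hs | rfl | rfl)
    · refine hin _ (mul_mem hs.1 hs.1) ?_
      rw [F.add s hs.1 s hs.1]
      obtain ⟨-, h0, h1⟩ := hs
      revert h0 h1
      generalize F.w s = z
      revert z
      decide +kernel
    · rw [he1sq]; exact one_mem _
    · exact hfsq
  · have hcomm : ⁅e1, f⁆ ∈ zpowers m := by
      have h1 : ⁅e1, f⁆ = e1 * f * (e1 * f) * (f * f)⁻¹ := by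
        rw [commutatorElement_def, inv_eq_of_mul_eq_one_right he1sq]; group
      rw [h1]
      exact mul_mem hcin (inv_mem hfsq)
    have hsym : ∀ p q : X, ⁅p, q⁆ ∈ zpowers m → ⁅q, p⁆ ∈ zpowers m := fun p q h => by
      rw [← commutatorElement_inv]; exact inv_mem h
    rintro s (hs | rfl | rfl) t (ht | rfl | rfl)
    · rw [commutatorElement_eq_one_iff_mul_comm.2 (hab s hs.1 t ht.1)]; exact one_mem _
    · exact hsym _ _ (hcen1 s hs.1 hs.2.1 hs.2.2).1
    · exact hsym _ _ (hcen1 s hs.1 hs.2.1 hs.2.2).2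
    · exact (hcen1 t ht.1 ht.2.1 ht.2.2).1
    · rw [commutatorElement_self]; exact one_mem _
    · exact hcomm
    · exact (hcen1 t ht.1 ht.2.1 ht.2.2).2
    · exact hsym _ _ hcomm
    · rw [commutatorElement_self]; exact one_mem _
  · have hcardm : Nat.card (zpowers m) = 2 := by
      rw [Nat.card_zpowers]; exact orderOf_eq_prime (by rw [pow_two, hm2]) hm1
    rw [hcardm]
    choose la hla hlaw using F.lift
    let T := {t : Fin 3 → ZMod 4 // redV t 0 = 0 ∧ redV t 1 = 0}
    let g : Bool × Bool × T → closure S := fun p =>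
      ⟨(bif p.1 then e1 else 1) * (bif p.2.1 then f else 1) * la p.2.2.1, mul_mem (mul_mem
        (by cases p.1 <;> first | exact one_mem _ | exact subset_closure (Or.inr (Or.inl rfl)))
        (by cases p.2.1 <;> first | exact one_mem _ | exact subset_closure (Or.inr (Or.inr rfl))))
        (subset_closure (Or.inl ⟨hla _, by rw [hlaw]; exact p.2.2.2.1, by rw [hlaw]; exact p.2.2.2.2⟩))⟩
    have hg : Function.Injective g := by
      rintro ⟨i, j, p⟩ ⟨i', j', p'⟩ h
      have h1 : (bif i then e1 else 1) * (bif j then f else 1) * la p.1 =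
          (bif i' then e1 else 1) * (bif j' then f else 1) * la p'.1 := congrArg Subtype.val h
      have h2 := congrArg (fun x => (F.M x).map redHom) h1
      simp only [map_mul, hMA _ (hla _), mul_one, Matrix.map_mul] at h2
      have hij : i = i' ∧ j = j' := by
        cases i <;> cases j <;> cases i' <;> cases j' <;>
          simp only [cond_true, cond_false, map_one, Matrix.map_one _ (map_zero redHom) (map_one redHom),
            he1M, hfM, he2M, one_mul, mul_one] at h2 <;>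
          first
            | exact ⟨rfl, rfl⟩
            | (exfalso; revert h2; decide +kernel)
      obtain ⟨rfl, rfl⟩ := hij
      have h3 : la p.1 = la p'.1 := mul_left_cancel h1
      have h4 : p.1 = p'.1 := by rw [← hlaw p.1, h3, hlaw]
      rw [show p = p' from Subtype.ext h4]
    have hle := Nat.card_le_card_of_injective g hg
    have hT : Nat.card T = 16 := by rw [Nat.card_eq_fintype_card]; exact card_azero
    rw [Nat.card_prod, Nat.card_prod, hT, Nat.card_eq_fintype_card, Fintype.card_bool] at hle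
    omega

end Cfsg.Agent.Lie.ConstrainedLTwo
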