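import Cfsg.Agent.Lib.Lie.ConstrainedLTwo.Branches

/-!
# A core of order thirty-two modulo a minimal normal subgroup
-/

set_option autoImplicit false
set_option linter.style.haveILetI false
set_option linter.unusedSectionVars false
set_option maxRecDepth 100000

open Subgroup Matrix
open scoped commutatorElement

namespace Cfsg.Agent.Lie.ConstrainedLTwo

universe u

theorem jBit_adjust : ∀ t : F3, t 0 = 0 → jBit *ᵥ ![t 1, t 2, 0] + ![t 1, t 2, 0] = t := by decide +kernel

theorem jBit_chain : ∀ t : F3, t 0 = 1 → t = ![1, t 1, t 2] ∧ jBit *ᵥ t + t = ![0, 1, t 1] ∧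
    jBit *ᵥ ![0, 1, t 1] + ![0, 1, t 1] = ![0, 0, 1] := by
  decide +kernel

theorem tri_det : ∀ p q : ZMod 2, (!![1, 0, 0, 0; 0, 1, 0, 0; 0, p, 1, 0; 0, q, p, 1] :
    Matrix (Fin 4) (Fin 4) (ZMod 2)).det = 1 := by
  decide +kernel

theorem companion_det : (!![1, 0, 0, 0; 1, 1, 0, 0; 0, 1, 1, 2; 0, 0, 1, 1] :
    Matrix (Fin 4) (Fin 4) (ZMod 4)).det = -1 := by
  decide +kernel

theorem unit_of_red : ∀ d : ZMod 4, redHom d = 1 → d * d = 1 := by decide +kernel

theorem quad_step : ∀ a b c e : ZMod 4, 4 * a + 6 * b + 4 * c + e = 0 → e = 2 * b := by decide +kernel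

variable {X : Type u} [Group X] [Finite X] {R : Subgroup X} [R.Normal]

set_option maxHeartbeats 1000000 in
/-- A core that is of type `(4,2,2,2)` modulo a minimal normal subgroup does not occur. -/
theorem layer_three {W : Subgroup X} [W.Normal] (S : Step X R W) (hcard : Nat.card R = 32 * Nat.card W)
    (hcom : ∀ a ∈ R, ∀ b ∈ R, ⁅a, b⁆ ∈ W) (x : X) (hxR : x ∈ R) (hxW : x * x ∉ W)
    (hz2W : x * x * (x * x) ∈ W) (hsq : ∀ a ∈ R, a * a ∈ W ∨ (x * x)⁻¹ * (a * a) ∈ W) (hWS : W ≤ Sq R)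
    (hmove : ∃ g : X, ∃ a ∈ R, g * a * g⁻¹ * a⁻¹ ∉ Sq R) : False := by
  classical
  haveI := sq_normal R
  set z := x * x with hz
  have hzR : z ∈ R := mul_mem hxR hxR
  let π := QuotientGroup.mk' W
  have hπ : ∀ a, π a = 1 ↔ a ∈ W := fun a => QuotientGroup.eq_one_iff a
  have hπc : ∀ a ∈ R, ∀ b ∈ R, π a * π b = π b * π a := fun a ha b hb => by
    rw [← commutatorElement_eq_one_iff_mul_comm, ← map_commutatorElement]
    exact (hπ _).2 (hcom a ha b hb)
  have hπz : π z ≠ 1 := fun h => hxW ((hπ z).1 h)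
  have hπz2 : π z * π z = 1 := by rw [← map_mul]; exact (hπ _).2 hz2W
  have hq : ∀ a ∈ R, π (a * a) = 1 ∨ π (a * a) = π z := fun a ha => (hsq a ha).imp (hπ _).2 fun h => by
    have h1 := (hπ _).2 h
    rw [map_mul, map_inv] at h1
    exact (inv_mul_eq_one.1 h1).symm
  have hqmul : ∀ a ∈ R, ∀ b ∈ R, π (a * b * (a * b)) = π (a * a) * π (b * b) := fun a ha b hb => by
    simp only [map_mul]
    rw [mul_assoc (π a) (π b), ← mul_assoc (π b) (π a), hπc b hb a ha]
    group
  let R0 : Subgroup X :=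
    { carrier := {r | r ∈ R ∧ π (r * r) = 1}
      one_mem' := ⟨R.one_mem, by rw [one_mul, map_one]⟩
      mul_mem' := fun {a b} ha hb => ⟨mul_mem ha.1 hb.1, by rw [hqmul a ha.1 b hb.1, ha.2, hb.2, one_mul]⟩
      inv_mem' := fun {a} ha => ⟨inv_mem ha.1, by rw [← _root_.mul_inv_rev, map_inv, ha.2, inv_one]⟩ }
  haveI : R0.Normal := ⟨fun a ha g => ⟨Normal.conj_mem inferInstance a ha.1 g, by
    rw [show g * a * g⁻¹ * (g * a * g⁻¹) = g * (a * a) * g⁻¹ by group, map_mul, map_mul, ha.2, mul_one,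
      ← map_mul, mul_inv_cancel, map_one]⟩⟩
  have h0R : R0 ≤ R := fun a ha => ha.1
  have hx0 : x ∉ R0 := fun h => hπz h.2
  have hout : ∀ a ∈ R, a ∉ R0 → π (a * a) = π z := fun a ha h => (hq a ha).resolve_left fun e => h ⟨ha, e⟩
  have hmul0 : ∀ a ∈ R, a ∉ R0 → ∀ b ∈ R, b ∉ R0 → a * b ∈ R0 := fun a ha ha' b hb hb' =>
    ⟨mul_mem ha hb, by rw [hqmul a ha b hb, hout a ha ha', hout b hb hb', hπz2]⟩
  have hxinv : x⁻¹ ∉ R0 := fun h => hx0 (inv_inv x ▸ inv_mem h)
  have hdec : ∀ r ∈ R, r ∈ R0 ∨ x⁻¹ * r ∈ R0 := fun r hr => by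
    by_cases h : r ∈ R0
    · exact Or.inl h
    · exact Or.inr (hmul0 _ (inv_mem hxR) hxinv r hr h)
  have hconjx : ∀ g : X, g * x * g⁻¹ ∉ R0 := fun g h => hx0 (by
    have := Normal.conj_mem (inferInstance : R0.Normal) _ h g⁻¹
    rwa [show g⁻¹ * (g * x * g⁻¹) * g⁻¹⁻¹ = x by group] at this)
  have hshift : ∀ g : X, ∃ r ∈ R0, g * x * g⁻¹ = x * r := fun g =>
    ⟨_, hmul0 _ (inv_mem hxR) hxinv _ (Normal.conj_mem inferInstance x hxR g) (hconjx g), by group⟩
  -- the squares
  have hzp : ∀ n, π n ∈ zpowers (π z) → n ∈ W ∨ z⁻¹ * n ∈ W := by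
    intro n hn
    obtain ⟨i, hi⟩ := mem_zpowers_iff.1 hn
    rcases Int.even_or_odd i with ⟨j, rfl⟩ | ⟨j, rfl⟩
    · left
      refine (hπ n).1 ?_
      rw [← hi, ← two_mul, _root_.zpow_mul, zpow_two, hπz2, _root_.one_zpow]
    · right
      refine (hπ _).1 ?_
      rw [map_mul, map_inv, ← hi, _root_.zpow_add_one, _root_.zpow_mul, zpow_two, hπz2, _root_.one_zpow, one_mul, inv_mul_cancel]
  have hSeq : Sq R = (zpowers (π z)).comap π := by
    refine le_antisymm (sq_le_iff.2 fun a ha => ?_) fun n hn => ?_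
    · show π (a * a) ∈ zpowers (π z)
      rcases hq a ha with e | e <;> rw [e]
      · exact one_mem _
      · exact mem_zpowers _
    · rcases hzp n hn with h | h
      · exact hWS h
      · rw [show n = z * (z⁻¹ * n) by group]
        exact mul_mem (mul_self_mem_sq hxR) (hWS h)
  have hZcard : Nat.card (Sq R) = 2 * Nat.card W := by
    rw [hSeq, card_comap, Nat.card_zpowers, orderOf_eq_prime (by rw [pow_two]; exact hπz2) hπz]
  have hZdec : ∀ n ∈ Sq R, n ∈ W ∨ z⁻¹ * n ∈ W := fun n hn => hzp n (by rw [hSeq] at hn; exact hn)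
  have hzS : z ∈ Sq R := mul_self_mem_sq hxR
  -- squares are central
  have hsqc : ∀ a ∈ R, ∀ b ∈ R, b * (a * a) = a * a * b := by
    intro a ha b hb
    refine (commutatorElement_eq_one_iff_mul_comm.1 ?_).symm
    rw [show ⁅a * a, b⁆ = a * ⁅a, b⁆ * a⁻¹ * ⁅a, b⁆ by simp only [commutatorElement_def]; group,
      S.cen a ha _ (hcom a ha b hb), mul_inv_cancel_right]
    exact S.el _ (hcom a ha b hb)
  have hZc : ∀ a ∈ R, ∀ k ∈ Sq R, a * k = k * a := by
    intro a ha k hk
    rcases hZdec k hk with h | h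
    · exact S.cen a ha k h
    · rw [show k = z * (z⁻¹ * k) by group]
      generalize z⁻¹ * k = w at h ⊢
      rw [← mul_assoc, hsqc x hxR a ha, mul_assoc, S.cen a ha w h, ← mul_assoc]
  have hZR0 : Sq R ≤ R0 := fun k hk => by
    refine ⟨sq_le R hk, ?_⟩
    rcases hZdec k hk with h | h
    · exact (hπ _).2 (mul_mem h h)
    · have h1 : π k = π z := by
        have := (hπ _).2 h
        rw [map_mul, map_inv] at this
        exact (inv_mul_eq_one.1 this).symm
      rw [map_mul, h1, hπz2]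
  have h0card : Nat.card R0 = 16 * Nat.card W := by
    have hidx : (R0.subgroupOf R).index = 2 := by
      refine index_eq_two_iff.2 ⟨⟨x, hxR⟩, fun r => ?_⟩
      show Xor' (r.1 * x ∈ R0) (r.1 ∈ R0)
      by_cases h : r.1 ∈ R0
      · exact Or.inr ⟨h, fun e => hx0 (by have := mul_mem (inv_mem h) e; rwa [inv_mul_cancel_left] at this)⟩
      · exact Or.inl ⟨hmul0 _ r.2 h x hxR hx0, h⟩
    have h1 := (R0.subgroupOf R).card_mul_index
    rw [Nat.card_congr (subgroupOfEquivOfLe h0R).toEquiv, hidx, hcard] at h1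
    omega
  have hsq0 : ∀ a ∈ R0, a * a ∈ W := fun a ha => (hπ _).1 ha.2
  have hne : ∃ g : X, ∃ a ∈ R0, g * a * g⁻¹ * a⁻¹ ∉ Sq R := by
    by_contra h
    push Not at h
    obtain ⟨g, a, ha, hga⟩ := hmove
    refine hga (chain_trivial S.top (Sq R) R0 h0R h a (fun g' => ?_)
      (fun r hr => by rw [← commutatorElement_def]; exact hWS (hcom r hr a ha)) g)
    by_cases ha0 : a ∈ R0
    · exact mul_mem (Normal.conj_mem inferInstance a ha0 g') (inv_mem ha0)
    · refine hmul0 _ (Normal.conj_mem inferInstance a ha g') (fun e => ha0 ?_) _ (inv_mem ha)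
        fun e => ha0 (inv_inv a ▸ inv_mem e)
      have := Normal.conj_mem (inferInstance : R0.Normal) _ e g'⁻¹
      rwa [show g'⁻¹ * (g' * a * g'⁻¹) * g'⁻¹⁻¹ = a by group] at this
  obtain ⟨K⟩ := exists_coord S.top R0 (Sq R) hZR0 (fun a ha => hWS (hsq0 a ha))
    (fun r hr a ha => by rw [← commutatorElement_def]; exact hWS (hcom r hr a (h0R ha)))
    (by rw [h0card, hZcard]; ring) hne
  -- commutation with the element outside
  let φ : X → X := fun a => x * a * x⁻¹ * a⁻¹
  have hφW : ∀ a ∈ R0, φ a ∈ W := fun a ha => by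
    show x * a * x⁻¹ * a⁻¹ ∈ W
    rw [← commutatorElement_def]; exact hcom x hxR a (h0R ha)
  have hφmul : ∀ a ∈ R0, ∀ b ∈ R0, φ (a * b) = φ a * φ b := fun a ha b hb => by
    show x * (a * b) * x⁻¹ * (a * b)⁻¹ = x * a * x⁻¹ * a⁻¹ * φ b
    rw [show x * (a * b) * x⁻¹ * (a * b)⁻¹ = x * a * x⁻¹ * (φ b * a⁻¹) by
      show _ = x * a * x⁻¹ * ((x * b * x⁻¹ * b⁻¹) * a⁻¹); group,
      ← S.cen _ (inv_mem (h0R ha)) _ (hφW b hb)]
    group
  have hφZ : ∀ k ∈ Sq R, φ k = 1 := fun k hk => by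
    show x * k * x⁻¹ * k⁻¹ = 1
    rw [hZc x hxR k hk]; group
  have hφconj : (∀ a ∈ R0, ∀ b ∈ R0, a * b = b * a) →
      ∀ g : X, ∀ a ∈ R0, φ (g * a * g⁻¹) = g * φ a * g⁻¹ := by
    intro hab0 g a ha
    obtain ⟨r, hr, hxr⟩ := hshift g⁻¹
    rw [inv_inv] at hxr
    have hra : r * a * r⁻¹ = a := by rw [hab0 r hr a ha, mul_inv_cancel_right]
    calc x * (g * a * g⁻¹) * x⁻¹ * (g * a * g⁻¹)⁻¹
        = g * ((g⁻¹ * x * g) * a * (g⁻¹ * x * g)⁻¹ * a⁻¹) * g⁻¹ := by group
      _ = g * (x * (r * a * r⁻¹) * x⁻¹ * a⁻¹) * g⁻¹ := by rw [hxr]; group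
      _ = _ := by rw [hra]
  have hfull : (∀ a ∈ R0, ∀ b ∈ R0, a * b = b * a) → (∀ a ∈ R0, φ a = 1) →
      ∀ a ∈ R, ∀ b ∈ R, a * b = b * a := by
    intro hab0 h1 a ha b hb
    have hxc : ∀ m ∈ R0, x * m = m * x := fun m hm => mul_inv_eq_iff_eq_mul.1 (mul_inv_eq_one.1 (h1 m hm))
    have hboth : ∀ n ∈ R, ∀ m ∈ R0, n * m = m * n := by
      intro n hn m hm
      rcases hdec n hn with h | h
      · exact hab0 n h m hm
      · rw [show n = x * (x⁻¹ * n) by group]
        generalize x⁻¹ * n = p at h ⊢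
        rw [mul_assoc, hab0 p h m hm, ← mul_assoc, hxc m hm, mul_assoc]
    have hax : a * x = x * a := by
      rcases hdec a ha with h' | h'
      · exact (hxc a h').symm
      · rw [show a = x * (x⁻¹ * a) by group]
        generalize x⁻¹ * a = q at h' ⊢
        rw [mul_assoc, ← hxc q h']
    rcases hdec b hb with h | h
    · exact hboth a ha b h
    · rw [show b = x * (x⁻¹ * b) by group]
      generalize x⁻¹ * b = p at h ⊢
      rw [← mul_assoc, hax, mul_assoc, hboth a ha p h, ← mul_assoc]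
  have hWcen : ∀ a ∈ R0, ∀ w ∈ W, a * w = w * a := fun a ha => S.cen a (h0R ha)
  have hKcen : ∀ a ∈ R0, ∀ k ∈ Sq R, a * k = k * a := fun a ha => hZc a (h0R ha)
  have hcom0 : ∀ a ∈ R0, ∀ b ∈ R0, ⁅a, b⁆ ∈ W := fun a ha b hb => hcom a (h0R ha) b (h0R hb)
  rcases fixed_dichotomy W S.ne S.el S.min with ⟨hfix, hW2⟩ | hnf
  · -- a central subgroup of order two
    have hab0 := K.comm W S.el hWcen hKcen hcom0 (Or.inl hfix)
    have hφ1 := K.fixed_map φ hφmul hφZ fun g a ha => by rw [hφconj hab0 g a ha, hfix g _ (hφW a ha)]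
    have hab := hfull hab0 hφ1
    by_cases hzz : z * z = 1
    · have hall : ∀ a ∈ R0, a * a = 1 := K.fixed_map (fun a => a * a)
        (fun a ha b hb => by
          rw [show a * b * (a * b) = a * (b * a) * b by group, hab0 b hb a ha]; group)
        (fun k hk => by
          rcases hZdec k hk with h | h
          · exact S.el k h
          · rw [show k = z * (z⁻¹ * k) by group]
            generalize z⁻¹ * k = w at h ⊢
            rw [show z * w * (z * w) = z * (w * z) * w by group, ← S.cen z hzR w h,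
              show z * (z * w) * w = z * z * (w * w) by group, hzz, S.el w h, one_mul])
        fun g a ha => by
          show g * a * g⁻¹ * (g * a * g⁻¹) = a * a
          rw [show g * a * g⁻¹ * (g * a * g⁻¹) = g * (a * a) * g⁻¹ by group, hfix g _ (hsq0 a ha)]
      have h16 := elementary_le S.top.rank R0 hall
      rw [h0card, hW2] at h16
      omega
    have hz4 : z ^ 4 = 1 := by
      rw [show (4 : ℕ) = 2 * 2 from rfl, pow_mul, pow_two z, pow_two]
      exact S.el _ hz2W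
    have hordz : orderOf z = 4 :=
      orderOf_eq_prime_pow (p := 2) (n := 1) (by rw [show 2 ^ 1 = 2 from rfl, pow_two]; exact hzz) hz4
    have hZe : Sq R = zpowers z := (Subgroup.eq_of_le_of_card_ge (zpowers_le.2 hzS)
      (by rw [hZcard, hW2, Nat.card_zpowers, hordz])).symm
    haveI : (zpowers z).Normal := hZe ▸ (inferInstance : (Sq R).Normal)
    have hWmem : ∀ w ∈ W, w = 1 ∨ w = z * z := by
      intro w hw
      by_contra h
      push Not at h
      have h3 := Nat.card_le_card_of_injective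
        (fun i : Fin 3 => (![(⟨1, W.one_mem⟩ : W), ⟨z * z, hz2W⟩, ⟨w, hw⟩] i))
        (by
          intro i j e
          fin_cases i <;> fin_cases j <;> simp at e ⊢ <;>
            first
              | exact hzz e | exact hzz e.symm | exact h.1 e | exact h.1 e.symm | exact h.2 e | exact h.2 e.symm)
      rw [Nat.card_eq_fintype_card, Fintype.card_fin, hW2] at h3
      omega
    obtain ⟨C⟩ : Nonempty (Coord R R0 (zpowers z)) := ⟨hZe ▸ K⟩
    refine eight_absurd S.top hab R0 h0R C hz4 hzz ⟨x, hxR, hx0⟩ hmul0 (fun a ha => hWmem _ (hsq0 a ha))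
      (fun a ha ha0 => ?_) (by rw [h0card, hW2])
    have h1 : z⁻¹ * (a * a) ∈ W := (hsq a ha).resolve_left fun h => ha0 ⟨ha, (hπ _).2 h⟩
    rcases hWmem _ h1 with e | e
    · exact Or.inl (inv_mul_eq_one.1 e).symm
    · right
      rw [show a * a = z * (z⁻¹ * (a * a)) by group, e]
      refine eq_inv_of_mul_eq_one_left ?_
      rw [show z * (z * z) * z = z ^ 4 by rw [pow_succ, pow_succ, pow_succ, pow_one, mul_assoc z z z], hz4]
  -- no centralised element
  have hshiftz : ∀ g : X, ∃ w ∈ W, g * z * g⁻¹ = z * w := fun g => by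
    refine ⟨z⁻¹ * (g * z * g⁻¹), (hZdec _ (Normal.conj_mem inferInstance z hzS g)).resolve_left fun h => hxW ?_,
      by group⟩
    have := Normal.conj_mem (inferInstance : W.Normal) _ h g⁻¹
    rwa [show g⁻¹ * (g * z * g⁻¹) * g⁻¹⁻¹ = z by group] at this
  have hzz : z * z = 1 := by
    refine hnf _ hz2W fun g => ?_
    obtain ⟨w, hw, e⟩ := hshiftz g
    rw [show g * (z * z) * g⁻¹ = g * z * g⁻¹ * (g * z * g⁻¹) by group, e,
      show z * w * (z * w) = z * (w * z) * w by group, ← S.cen z hzR w hw,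
      show z * (z * w) * w = z * z * (w * w) by group, S.el w hw, mul_one]
  have hZ2 : ∀ k ∈ Sq R, k * k = 1 := by
    intro k hk
    rcases hZdec k hk with h | h
    · exact S.el k h
    · rw [show k = z * (z⁻¹ * k) by group]
      generalize z⁻¹ * k = w at h ⊢
      rw [show z * w * (z * w) = z * (w * z) * w by group, ← S.cen z hzR w h,
        show z * (z * w) * w = z * z * (w * w) by group, hzz, S.el w h, one_mul]
  have hab0 := K.comm W S.el hWcen hKcen hcom0 (Or.inr ⟨S.min, hsq0, hZ2⟩)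
  rcases K.sq W hab0 hZ2 S.min hsq0 with hall | ⟨hiso, hinj⟩
  · have h16 := elementary_le S.top.rank R0 hall
    have hW1 : Nat.card W = 1 := by have := Nat.card_pos (α := W); omega
    exact S.ne (Subgroup.eq_bot_of_card_eq W hW1)
  have hW8 := K.card_image W hab0 hZ2 hsq0 hiso hinj
  have hpow4 : ∀ r ∈ R, r * r * (r * r) = 1 := fun r hr => hZ2 _ (mul_self_mem_sq hr)
  -- a centralised point outside gives a contradiction
  have hpoint : ∀ b : X, b ∈ Sq R → b ∉ W → (∀ g : X, g * b * g⁻¹ = b) → False := by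
    intro b hb hbW hfixb
    haveI : (zpowers b).Normal := ⟨fun m hm g => by
      obtain ⟨i, rfl⟩ := mem_zpowers_iff.1 hm
      rw [← conj_zpow, hfixb g]
      exact zpow_mem (mem_zpowers b) i⟩
    have hb0 : b ≠ 1 := fun e => hbW (e ▸ W.one_mem)
    have hind := S.ind (zpowers b) inferInstance (zpowers_le.2 (sq_le R hb)) (zpowers_ne_bot.2 hb0) (by
      obtain ⟨g, a, ha, hga⟩ := hmove
      exact ⟨g, a, ha, fun h => hga (sup_le le_rfl (zpowers_le.2 hb) h)⟩)
    rw [Nat.card_zpowers, orderOf_eq_prime (by rw [pow_two, hZ2 b hb]) hb0, hcard, hW8] at hind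
    omega
  rcases K.sq_endo W φ hφW hiso hab0 hZ2 hinj hφmul hφZ (hφconj hab0) with h0 | hinv
  swap
  · -- inversion centralises the square
    refine hpoint z hzS hxW fun g => ?_
    obtain ⟨r, hr, hgx⟩ := hshift g
    have e : x * r * x⁻¹ = r * r * r := mul_inv_eq_iff_eq_mul.1 (hinv r hr)
    calc g * z * g⁻¹ = g * x * g⁻¹ * (g * x * g⁻¹) := by rw [hz]; group
      _ = x * r * x⁻¹ * (z * r) := by rw [hgx, hz]; group
      _ = r * r * r * (r * z) := by rw [e, ← hsqc x hxR r (h0R hr)]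
      _ = r * r * (r * r) * z := by group
      _ = z := by rw [hpow4 r (h0R hr), one_mul]
  have hab := hfull hab0 h0
  obtain ⟨y, hy⟩ := K.surj jBit (by decide +kernel)
  have hy4 : y * y * (y * y) ∈ R := (K.eq_one_iff _).1 (by rw [map_mul, map_mul, hy]; decide +kernel)
  choose l hl hlv using K.lift
  let n : X → X := fun r => y * r * y⁻¹ * r⁻¹
  have hn0 : ∀ r ∈ R0, n r ∈ R0 := fun r hr => mul_mem (K.conj_mem y hr) (inv_mem hr)
  have hnv : ∀ r ∈ R0, K.v (n r) = jBit *ᵥ K.v r + K.v r := fun r hr => by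
    rw [K.add _ (K.conj_mem y hr) _ (inv_mem hr), K.inv hr, K.conj y r hr, hy]
  set r1 := n x with hr1
  have h10 : r1 ∈ R0 := by
    show y * x * y⁻¹ * x⁻¹ ∈ R0
    exact hmul0 _ (Normal.conj_mem inferInstance x hxR y) (hconjx y) _ (inv_mem hxR) hxinv
  have hcases : K.v r1 0 = 0 ∨ K.v r1 0 = 1 := (by decide : ∀ q : ZMod 2, q = 0 ∨ q = 1) _
  rcases hcases with ha0 | ha0
  · -- a fixed point
    set s := l ![K.v r1 1, K.v r1 2, 0] with hs
    have hsR0 : s ∈ R0 := hl _
    have hk : y * (x * s) * y⁻¹ * (x * s)⁻¹ ∈ Sq R := by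
      have e : y * (x * s) * y⁻¹ * (x * s)⁻¹ = n s * r1 := by
        show _ = n s * (y * x * y⁻¹ * x⁻¹)
        rw [← hab _ (mul_mem (Normal.conj_mem inferInstance x hxR y) (inv_mem hxR)) _ (h0R (hn0 s hsR0))]
        show _ = y * x * y⁻¹ * x⁻¹ * (y * s * y⁻¹ * s⁻¹)
        rw [hab x hxR s (h0R hsR0)]
        have h1 : x⁻¹ * (y * s * y⁻¹) = y * s * y⁻¹ * x⁻¹ :=
          hab _ (inv_mem hxR) _ (h0R (K.conj_mem y hsR0))
        calc y * (s * x) * y⁻¹ * (s * x)⁻¹ = y * s * y⁻¹ * (y * x * y⁻¹ * x⁻¹) * s⁻¹ := by group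
          _ = (y * x * y⁻¹ * x⁻¹) * (y * s * y⁻¹) * s⁻¹ := by
            rw [hab _ (h0R (K.conj_mem y hsR0)) _ (h0R h10)]
          _ = _ := by group
      rw [e]
      refine (K.zero_iff _ (mul_mem (hn0 s hsR0) h10)).1 ?_
      rw [K.add _ (hn0 s hsR0) _ h10, hnv s hsR0, hlv, jBit_adjust _ ha0, CharTwo.add_self_eq_zero]
    have hxs : x * s ∈ R := mul_mem hxR (h0R hsR0)
    set b := x * s * (x * s) with hb
    have hbW : b ∉ W := fun h => hx0 (by
      have := mul_mem (⟨hxs, (hπ _).2 h⟩ : x * s ∈ R0) (inv_mem hsR0)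
      rwa [mul_inv_cancel_right] at this)
    have hyb : y * b * y⁻¹ = b := by
      set k := y * (x * s) * y⁻¹ * (x * s)⁻¹ with hk'
      calc y * b * y⁻¹ = k * (x * s) * (k * (x * s)) := by rw [hk', hb]; group
        _ = k * ((x * s) * k) * (x * s) := by group
        _ = k * k * b := by rw [hab _ hxs _ (sq_le R hk), hb]; group
        _ = b := by rw [hZ2 k hk, one_mul]
    let α : Type u := {r : X // r ∈ Sq R ∧ r ∉ W}
    letI : MulAction X α :=
      { smul := fun g r => ⟨g * r.1 * g⁻¹, Normal.conj_mem inferInstance _ r.2.1 g, fun e => r.2.2 (by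
          have := Normal.conj_mem (inferInstance : W.Normal) _ e g⁻¹
          rwa [show g⁻¹ * (g * r.1 * g⁻¹) * g⁻¹⁻¹ = r.1 by group] at this)⟩
        one_smul := fun r => Subtype.ext (by show 1 * r.1 * (1 : X)⁻¹ = r.1; group)
        mul_smul := fun g g' r => Subtype.ext (by
          show g * g' * r.1 * (g * g')⁻¹ = g * (g' * r.1 * g'⁻¹) * g⁻¹; group) }
    have hα : Nat.card α = 8 := by
      rw [← hW8]
      refine (Nat.card_congr (Equiv.ofBijective (fun w : W => (⟨z * w.1, mul_mem hzS (hWS w.2),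
        fun e => hxW (by have := mul_mem e (inv_mem w.2); rwa [mul_inv_cancel_right] at this)⟩ : α))
        ⟨fun p q e => Subtype.ext (mul_left_cancel (congrArg Subtype.val e)), fun r => ?_⟩)).symm
      exact ⟨⟨z⁻¹ * r.1, (hZdec _ r.2.1).resolve_left r.2.2⟩,
        Subtype.ext (by show z * (z⁻¹ * r.1) = r.1; group)⟩
    obtain ⟨⟨c, hc, hcW⟩, hcfix⟩ := S.top.exists_fixed hα
      (fun r hr q => Subtype.ext (by
        show r * q.1 * r⁻¹ = q.1
        rw [hab r hr _ (sq_le R q.2.1), mul_inv_cancel_right]))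
      (y * y) (fun e => by have := (K.eq_one_iff _).2 e; rw [map_mul, hy] at this; revert this; decide +kernel)
      hy4 ⟨b, mul_self_mem_sq hxs, hbW⟩ (Subtype.ext (by
        show y * y * b * (y * y)⁻¹ = b
        rw [show y * y * b * (y * y)⁻¹ = y * (y * b * y⁻¹) * y⁻¹ by group, hyb, hyb]))
    exact hpoint c hc hcW fun g => congrArg Subtype.val (hcfix g)
  -- the determinant on four coordinates
  let u : X → F3 := fun r => if r ∈ R0 then K.v r else K.v (x⁻¹ * r)
  let i : X → ZMod 2 := fun r => if r ∈ R0 then 0 else 1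
  let v4 : X → Fin 4 → ZMod 2 := fun r => ![i r, u r 0, u r 1, u r 2]
  have hv4add : ∀ a ∈ R, ∀ b ∈ R, v4 (a * b) = v4 a + v4 b := by
    intro a ha b hb
    have key : i (a * b) = i a + i b ∧ u (a * b) = u a + u b := by
      by_cases h1 : a ∈ R0 <;> by_cases h2 : b ∈ R0
      · simp only [i, u, if_pos h1, if_pos h2, if_pos (mul_mem h1 h2), add_zero, true_and]
        exact K.add a h1 b h2
      · have h3 : a * b ∉ R0 := fun e => h2 (by
          have := mul_mem (inv_mem h1) e; rwa [inv_mul_cancel_left] at this)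
        simp only [i, u, if_pos h1, if_neg h2, if_neg h3, zero_add, true_and]
        rw [show x⁻¹ * (a * b) = x⁻¹ * a * b by group, hab _ (inv_mem hxR) a ha, mul_assoc]
        exact K.add a h1 _ (hmul0 _ (inv_mem hxR) hxinv b hb h2)
      · have h3 : a * b ∉ R0 := fun e => h1 (by
          have := mul_mem e (inv_mem h2); rwa [mul_inv_cancel_right] at this)
        simp only [i, u, if_pos h2, if_neg h1, if_neg h3, add_zero, true_and]
        rw [show x⁻¹ * (a * b) = x⁻¹ * a * b by group]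
        exact K.add _ (hmul0 _ (inv_mem hxR) hxinv a ha h1) b h2
      · simp only [i, u, if_neg h1, if_neg h2, if_pos (hmul0 a ha h1 b hb h2)]
        refine ⟨by decide, ?_⟩
        have ha' := hmul0 _ (inv_mem hxR) hxinv a ha h1
        have hb' := hmul0 _ (inv_mem hxR) hxinv b hb h2
        rw [← K.add _ ha' _ hb', show a * b = z * (x⁻¹ * a * (x⁻¹ * b)) by
          rw [show x⁻¹ * a * (x⁻¹ * b) = x⁻¹ * (a * x⁻¹) * b by group, hab a ha _ (inv_mem hxR), hz]; group,
          K.add z (hZR0 hzS) _ (mul_mem ha' hb'), (K.zero_iff z (hZR0 hzS)).2 hzS, zero_add]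
    funext j
    fin_cases j <;> simp [v4, key.1, key.2]
  have hv4x : v4 x = ![1, 0, 0, 0] := by
    simp only [v4, i, u, if_neg hx0, inv_mul_cancel, K.one]
    rfl
  have hv4r : ∀ r ∈ R0, v4 r = ![0, K.v r 0, K.v r 1, K.v r 2] := fun r hr => by
    simp only [v4, i, u, if_pos hr]
  obtain ⟨F⟩ := exists_frame R v4 hab
    (fun a ha => by
      rw [show (4 : ℕ) = 2 * 2 from rfl, pow_mul, pow_two a, pow_two]
      exact hpow4 a ha)
    hv4add
    (fun t => by
      rcases (by decide : ∀ q : ZMod 2, q = 0 ∨ q = 1) (t 0) with e | e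
      · refine ⟨l ![t 1, t 2, t 3], h0R (hl _), ?_⟩
        rw [hv4r _ (hl _), hlv]
        funext j
        fin_cases j <;> simp [e]
      · refine ⟨x * l ![t 1, t 2, t 3], mul_mem hxR (h0R (hl _)), ?_⟩
        rw [hv4add x hxR _ (h0R (hl _)), hv4x, hv4r _ (hl _), hlv]
        funext j
        fin_cases j <;> simp [e])
    (fun a ha h => by
      have ha0' : a ∈ R0 := ⟨ha, by rw [h, map_one]⟩
      rw [hv4r a ha0', (K.zero_iff a ha0').2 (hinj a ha0' h)]
      funext j
      fin_cases j <;> rfl)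
    (by rw [hcard, hW8]; norm_num)
  have hdet : (F.M y).det = 1 := by
    rw [← frameDet_coe F y, S.top.hom_trivial (frameDet F)
      (fun r hr => Units.ext (by rw [frameDet_coe, F.M_eq_one hab hr, det_one, Units.val_one])) y, Units.val_one]
  set r2 := n r1 with hr2
  set r3 := n r2 with hr3
  set r4 := n r3 with hr4
  have h20 : r2 ∈ R0 := hn0 _ h10
  have h30 : r3 ∈ R0 := hn0 _ h20
  have h40 : r4 ∈ R0 := hn0 _ h30
  obtain ⟨-, c2, c3⟩ := jBit_chain _ ha0
  have hv2 : K.v r2 = ![0, 1, K.v r1 1] := by rw [hr2, hnv _ h10, c2]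
  have hv3 : K.v r3 = ![0, 0, 1] := by rw [hr3, hnv _ h20, hv2, c3]
  have hstep : ∀ a ∈ R, F.M y *ᵥ F.w a = F.w a + F.w (n a) := fun a ha => by
    rw [← F.conj y a ha, show y * a * y⁻¹ = n a * a by show _ = y * a * y⁻¹ * a⁻¹ * a; group,
      F.add _ (mul_mem (Normal.conj_mem inferInstance a ha y) (inv_mem ha)) a ha, add_comm]
  have s0 : F.M y *ᵥ F.w x = F.w x + F.w r1 := hstep x hxR
  have s1 : F.M y *ᵥ F.w r1 = F.w r1 + F.w r2 := hstep _ (h0R h10)
  have s2 : F.M y *ᵥ F.w r2 = F.w r2 + F.w r3 := hstep _ (h0R h20)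
  have s3 : F.M y *ᵥ F.w r3 = F.w r3 + F.w r4 := hstep _ (h0R h30)
  have h4th : F.M y *ᵥ (F.M y *ᵥ (F.M y *ᵥ (F.M y *ᵥ F.w x))) = F.w x := by
    simp only [mulVec_mulVec, ← map_mul]
    rw [show y * (y * (y * y)) = y * y * (y * y) by group, F.M_eq_one hab hy4, one_mulVec]
  simp only [s0, s1, s2, s3, mulVec_add] at h4th
  let B : Matrix (Fin 4) (Fin 4) (ZMod 4) := Matrix.of fun p q => ![F.w x, F.w r1, F.w r2, F.w r3] q p
  have hBdet : redHom B.det = 1 := by
    rw [RingHom.map_det, ← tri_det (K.v r1 1) (K.v r1 2)]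
    congr 1
    ext p q
    show redHom (![F.w x, F.w r1, F.w r2, F.w r3] q p) = _
    fin_cases q
    · show redHom (F.w x p) = _
      rw [show redHom (F.w x p) = v4 x p from congrFun (F.red x hxR) p, hv4x]
      fin_cases p <;> rfl
    · show redHom (F.w r1 p) = _
      rw [show redHom (F.w r1 p) = v4 r1 p from congrFun (F.red _ (h0R h10)) p, hv4r _ h10, ha0]
      fin_cases p <;> rfl
    · show redHom (F.w r2 p) = _
      rw [show redHom (F.w r2 p) = v4 r2 p from congrFun (F.red _ (h0R h20)) p, hv4r _ h20, hv2]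
      fin_cases p <;> rfl
    · show redHom (F.w r3 p) = _
      rw [show redHom (F.w r3 p) = v4 r3 p from congrFun (F.red _ (h0R h30)) p, hv4r _ h30, hv3]
      fin_cases p <;> rfl
  have h4e : ∀ p, F.w r4 p = 2 * F.w r2 p := fun p => by
    have h5 := congrFun h4th p
    simp only [Pi.add_apply] at h5
    refine quad_step (F.w r1 p) _ (F.w r3 p) _ ?_
    linear_combination h5
  have hMB : F.M y * B = B * !![1, 0, 0, 0; 1, 1, 0, 0; 0, 1, 1, 2; 0, 0, 1, 1] := by
    ext p q
    rw [Matrix.mul_apply, Matrix.mul_apply]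
    fin_cases q
    · show (F.M y *ᵥ F.w x) p = _
      rw [s0]
      simp [Fin.sum_univ_four, B]
    · show (F.M y *ᵥ F.w r1) p = _
      rw [s1]
      simp [Fin.sum_univ_four, B]
    · show (F.M y *ᵥ F.w r2) p = _
      rw [s2]
      simp [Fin.sum_univ_four, B]
    · show (F.M y *ᵥ F.w r3) p = _
      rw [s3]
      simp [Fin.sum_univ_four, B, h4e]
      ring
  have h6 := congrArg Matrix.det hMB
  rw [det_mul, det_mul, hdet, companion_det, one_mul] at h6
  have h7 := unit_of_red _ hBdet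
  rw [mul_neg, mul_one] at h6
  have : (1 : ZMod 4) = -1 := by
    calc (1 : ZMod 4) = B.det * B.det := h7.symm
      _ = -(B.det * B.det) := by nth_rw 1 [h6]; rw [neg_mul]
      _ = -1 := by rw [h7]
  revert this
  decide

end Cfsg.Agent.Lie.ConstrainedLTwo
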