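import Cfsg.Agent.Lib.Lie.ConstrainedLTwo.BranchTwo
import Cfsg.Agent.Lib.Lie.ConstrainedLTwo.LayerThree

/-!
# Two-groups below a simple group of order 168 in sectional rank four

The core is elementary of order eight or sixteen, or of type `(4,2,2,2)`.
-/

set_option autoImplicit false
set_option linter.style.haveILetI false
set_option linter.unusedSectionVars false
set_option maxRecDepth 100000

open Subgroup Matrix
open scoped commutatorElement

namespace Cfsg.Agent.Lie.ConstrainedLTwo

universe u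

/-- An elementary core on which the group acts nontrivially has order eight or sixteen. -/
theorem concl_elementary {X : Type u} [Group X] [Finite X] {R : Subgroup X} [R.Normal] (T : Top X R)
    (hall : ∀ a ∈ R, a * a = 1) (hmove : ∃ g : X, ∃ a ∈ R, g * a * g⁻¹ * a⁻¹ ∉ Sq R) : Concl R := by
  haveI : Fact (Nat.Prime 2) := ⟨Nat.prime_two⟩
  refine Or.inl ⟨hall, ?_⟩
  have h16 := elementary_le T.rank R hall
  obtain ⟨k, hk⟩ := IsPGroup.iff_card.1 T.twoGroup
  have hab : ∀ a ∈ R, ∀ b ∈ R, a * b = b * a := fun a ha b hb => by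
    calc a * b = (a * b)⁻¹ := (inv_eq_of_mul_eq_one_right (hall _ (mul_mem ha hb))).symm
      _ = b * a := by
        rw [_root_.mul_inv_rev, inv_eq_of_mul_eq_one_right (hall a ha), inv_eq_of_mul_eq_one_right (hall b hb)]
  by_cases h4 : Nat.card R ≤ 4
  · exfalso
    obtain ⟨g, a, ha, hga⟩ := hmove
    letI : MulAction X R := MulAction.compHom R (MulAut.conjNormal : X →* MulAut R)
    have hsmul : ∀ (x : X) (r : R), ((x • r : R) : X) = x * r * x⁻¹ := fun x r => MulAut.conjNormal_apply x r
    have hfix := T.orbit_small (α := R)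
      (fun r hr q => Subtype.ext (by rw [hsmul, hab r hr q q.2, mul_inv_cancel_right]))
      ⟨a, ha⟩ (lt_of_le_of_lt (Nat.card_le_card_of_injective _ Subtype.val_injective) (by omega)) g
    refine hga ?_
    have h := congrArg Subtype.val hfix
    rw [hsmul] at h
    rw [show g * a * g⁻¹ = a from h, mul_inv_cancel]
    exact one_mem _
  rw [hk] at h16 h4 ⊢
  have hk4 : k ≤ 4 := (Nat.pow_le_pow_iff_right (by norm_num : 1 < 2)).1 (h16.trans (by norm_num))
  interval_cases k <;> simp_all

/-- The possible cores. -/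
theorem classify : ∀ (n : ℕ) (X : Type u) [Group X] [Finite X] (R : Subgroup X) [R.Normal],
    Nat.card X = n → Top X R → (∃ g : X, ∃ a ∈ R, g * a * g⁻¹ * a⁻¹ ∉ Sq R) → Concl R := by
  intro n
  induction n using Nat.strong_induction_on with
  | _ n ih =>
  intro X _ _ R _ hX T hmove
  classical
  by_cases hall : ∀ a ∈ R, a * a = 1
  · exact concl_elementary T hall hmove
  push Not at hall
  haveI := sq_normal R
  have hSne : Sq R ≠ ⊥ := fun e => by
    obtain ⟨a, ha, hne⟩ := hall
    exact hne (mem_bot.1 (e ▸ mul_self_mem_sq ha))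
  haveI : Fintype {N : Subgroup X // N.Normal ∧ N ≠ ⊥ ∧ N ≤ Sq R} := Fintype.ofFinite _
  obtain ⟨⟨W, hWn, hWne, hWS⟩, -, hmin'⟩ := Finset.exists_min_image Finset.univ
    (fun N : {N : Subgroup X // N.Normal ∧ N ≠ ⊥ ∧ N ≤ Sq R} => Nat.card N.1)
    ⟨⟨Sq R, inferInstance, hSne, le_rfl⟩, Finset.mem_univ _⟩
  have hmin : ∀ N : Subgroup X, N.Normal → N ≤ W → N ≠ ⊥ → N = W := fun N hN hle hne =>
    Subgroup.eq_of_le_of_card_ge hle (hmin' ⟨N, hN, hne, hle.trans hWS⟩ (Finset.mem_univ _))
  have hWR : W ≤ R := hWS.trans (sq_le R)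
  obtain ⟨hcen, hel⟩ := T.minimal_props W hWR hWne hmin
  -- the induction on a quotient
  have hrec : ∀ (N : Subgroup X) [N.Normal], N ≤ R → N ≠ ⊥ →
      (∃ g : X, ∃ a ∈ R, g * a * g⁻¹ * a⁻¹ ∉ Sq R ⊔ N) → Concl (R.map (QuotientGroup.mk' N)) ∧
        Nat.card R = Nat.card (R.map (QuotientGroup.mk' N)) * Nat.card N := by
    intro N _ hNR hNne hN
    haveI : (R.map (QuotientGroup.mk' N)).Normal :=
      Normal.map inferInstance _ (QuotientGroup.mk'_surjective N)
    have hlt : Nat.card (X ⧸ N) < n := by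
      rw [← hX, N.card_eq_card_quotient_mul_card_subgroup]
      exact lt_mul_of_one_lt_right Nat.card_pos ((Subgroup.one_lt_card_iff_ne_bot N).2 hNne)
    refine ⟨ih _ hlt (X ⧸ N) _ rfl (T.quot N hNR) ?_, ?_⟩
    · obtain ⟨g, a, ha, hga⟩ := hN
      refine ⟨QuotientGroup.mk' N g, QuotientGroup.mk' N a, mem_map_of_mem _ ha, fun h => hga ?_⟩
      rw [sq_map, ← map_inv, ← map_inv, ← map_mul, ← map_mul, ← map_mul, ← Subgroup.mem_comap, comap_map_eq,
        QuotientGroup.ker_mk'] at h
      exact h
    · rw [← card_comap, comap_map_eq, QuotientGroup.ker_mk', sup_eq_left.2 hNR]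
  have S : Step X R W :=
    ⟨T, hWR, hWne, hmin, hcen, hel, hall, fun N hN hNR hNne hN' => by
      haveI := hN
      obtain ⟨h1, h2⟩ := hrec N hNR hNne hN'
      rw [h2]
      exact Nat.mul_le_mul_right _ h1.card_le⟩
  obtain ⟨h1, hcard⟩ := hrec W hWR hWne (by rwa [sup_eq_left.2 hWS])
  set π := QuotientGroup.mk' W with hπ
  have hmoveW : ∃ g : X, ∃ a ∈ R, g * a * g⁻¹ * a⁻¹ ∉ W := by
    obtain ⟨g, a, ha, h⟩ := hmove
    exact ⟨g, a, ha, fun e => h (hWS e)⟩
  rcases h1 with ⟨hsq', h8⟩ | ⟨h32, hab', zq, hzne, hz2, hsq', xq, hxq, hxz⟩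
  · have hsq : ∀ a ∈ R, a * a ∈ W := fun a ha => (QuotientGroup.eq_one_iff _).1
      ((map_mul π a a).trans (hsq' _ (mem_map_of_mem π ha)))
    rcases h8 with h8 | h16
    · rw [h8] at hcard
      exact (case_one S hsq hmoveW hcard).elim
    · rw [h16] at hcard
      rcases split_four T W hWR hsq hcard with ⟨R1, hR1, hW1, h1R, hc1⟩ | ⟨C, hC, hWC, hCR, hcC⟩
      · haveI := hR1
        exact branch_eight S hsq hmoveW hcard R1 hW1 h1R hc1
      · haveI := hC
        rcases branch_two S hsq hmoveW hcard C hWC hCR hcC with h | ⟨R1, hR1, hW1, h1R, hc1⟩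
        · exact h
        · haveI := hR1
          exact branch_eight S hsq hmoveW hcard R1 hW1 h1R hc1
  · rw [h32] at hcard
    obtain ⟨x, hxR, rfl⟩ := hxq
    refine (layer_three S hcard (fun a ha b hb => (QuotientGroup.eq_one_iff _).1 ?_) x hxR
      (fun h => hzne ?_) ((QuotientGroup.eq_one_iff _).1 ?_) (fun a ha => ?_) hWS hmove).elim
    · show π ⁅a, b⁆ = 1
      rw [map_commutatorElement, commutatorElement_eq_one_iff_mul_comm]
      exact hab' _ (mem_map_of_mem π ha) _ (mem_map_of_mem π hb)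
    · rw [← hxz, ← map_mul]
      exact (QuotientGroup.eq_one_iff _).2 h
    · show π (x * x * (x * x)) = 1
      rw [map_mul, map_mul, hxz, hz2]
    · rcases hsq' _ (mem_map_of_mem π ha) with e | e
      · left
        rw [← map_mul] at e
        exact (QuotientGroup.eq_one_iff _).1 e
      · right
        refine (QuotientGroup.eq_one_iff _).1 ?_
        show π ((x * x)⁻¹ * (a * a)) = 1
        rw [map_mul, map_inv, map_mul, map_mul, hxz, e, inv_mul_cancel]

/-- A commutative group of order thirty-two with squares of order at most two in a group of order two. -/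
theorem four_two_type {G : Type u} [CommGroup G] [Finite G] (hcard : Nat.card G = 32) (x : G)
    (hx2 : x * x ≠ 1) (hx4 : x * x * (x * x) = 1) (h : ∀ a : G, a * a = 1 ∨ a * a = x * x) :
    Nonempty (G ≃* Multiplicative (ZMod 4) × (Fin 3 → Multiplicative (ZMod 2))) := by
  classical
  haveI : Fintype G := Fintype.ofFinite G
  let sqh : G →* G := powMonoidHom 2
  have hsqh : ∀ a, sqh a = a * a := fun a => pow_two a
  have hO : (Finset.univ.filter fun a : G => a * a = 1).card = 16 := by
    have hrange : sqh.range = zpowers (x * x) := by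
      refine le_antisymm ?_ (zpowers_le.2 ⟨x, hsqh x⟩)
      rintro _ ⟨a, rfl⟩
      rw [hsqh]
      rcases h a with e | e <;> rw [e]
      · exact one_mem _
      · exact mem_zpowers _
    have h1 := sqh.ker.card_mul_index
    rw [Subgroup.index_ker, hrange, Nat.card_zpowers, orderOf_eq_prime (by rw [pow_two]; exact hx4) hx2,
      hcard] at h1
    have h2 : Nat.card sqh.ker = (Finset.univ.filter fun a : G => a * a = 1).card := by
      rw [Nat.card_eq_fintype_card]
      refine Fintype.card_of_subtype _ fun a => ?_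
      rw [Finset.mem_filter, MonoidHom.mem_ker, hsqh]
      simp
    omega
  have hpick : ∀ S : Finset G, S.card < 16 → ∃ e : G, e * e = 1 ∧ e ∉ S := by
    intro S hS
    by_contra hne
    push Not at hne
    have := Finset.card_le_card (s := Finset.univ.filter fun a : G => a * a = 1) (t := S)
      fun a ha => hne a (Finset.mem_filter.1 ha).2
    omega
  set z := x * x with hz
  have hpw : ∀ (a b : ZMod 2) (t : G), t * t = 1 → pwBit (a + b) t = pwBit a t * pwBit b t := by
    intro a b t ht
    unfold pwBit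
    rcases (show a = 0 ∨ a = 1 by revert a; decide) with rfl | rfl <;>
      rcases (show b = 0 ∨ b = 1 by revert b; decide) with rfl | rfl <;>
      simp [show (1 : ZMod 2) + 1 = 0 by decide, ht]
  have hpwsq : ∀ (a : ZMod 2) (t : G), t * t = 1 → pwBit a t * pwBit a t = 1 := by
    intro a t ht
    unfold pwBit
    split <;> simp [ht]
  obtain ⟨e1, q1, n1⟩ := hpick (Finset.univ.image fun a : ZMod 2 => pwBit a z)
    (Finset.card_image_le.trans_lt (by simp))
  obtain ⟨e2, q2, n2⟩ := hpick (Finset.univ.image fun a : ZMod 2 × ZMod 2 => pwBit a.1 z * pwBit a.2 e1)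
    (Finset.card_image_le.trans_lt (by simp))
  obtain ⟨e3, q3, n3⟩ := hpick (Finset.univ.image fun a : ZMod 2 × ZMod 2 × ZMod 2 =>
      pwBit a.1 z * pwBit a.2.1 e1 * pwBit a.2.2 e2)
    (Finset.card_image_le.trans_lt (by simp))
  have hx4' : x ^ 4 = 1 := by
    rw [show (4 : ℕ) = 2 * 2 from rfl, pow_mul, pow_two x, pow_two]
    exact hx4
  have hshuffle : ∀ i j a a' b b' c c' : G,
      i * j * (a * a' * (b * b') * (c * c')) = i * (a * b * c) * (j * (a' * b' * c')) := by
    intro i j a a' b b' c c'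
    rw [mul_mul_mul_comm a a', mul_mul_mul_comm (a * b), mul_mul_mul_comm i j]
  let ψ : Multiplicative (ZMod 4) × (Fin 3 → Multiplicative (ZMod 2)) →* G :=
    { toFun := fun p => x ^ (Multiplicative.toAdd p.1).val * (pwBit (Multiplicative.toAdd (p.2 0)) e1 *
        pwBit (Multiplicative.toAdd (p.2 1)) e2 * pwBit (Multiplicative.toAdd (p.2 2)) e3)
      map_one' := by simp [pwBit]
      map_mul' := fun p q => by
        have e : x ^ (Multiplicative.toAdd p.1 + Multiplicative.toAdd q.1).val =
            x ^ (Multiplicative.toAdd p.1).val * x ^ (Multiplicative.toAdd q.1).val := by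
          rw [← pow_add, ZMod.val_add, ← pow_eq_pow_mod _ hx4']
        simp only [Prod.fst_mul, Prod.snd_mul, Pi.mul_apply, toAdd_mul, e, hpw _ _ _ q1, hpw _ _ _ q2,
          hpw _ _ _ q3]
        exact hshuffle _ _ _ _ _ _ _ _ }
  have hinj : Function.Injective ψ := by
    refine (injective_iff_map_eq_one ψ).2 fun p hp => ?_
    have hp' : x ^ (Multiplicative.toAdd p.1).val * (pwBit (Multiplicative.toAdd (p.2 0)) e1 *
        pwBit (Multiplicative.toAdd (p.2 1)) e2 * pwBit (Multiplicative.toAdd (p.2 2)) e3) = 1 := hp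
    generalize hi : Multiplicative.toAdd p.1 = i at hp'
    generalize ha : Multiplicative.toAdd (p.2 0) = a at hp'
    generalize hb : Multiplicative.toAdd (p.2 1) = b at hp'
    generalize hc : Multiplicative.toAdd (p.2 2) = c at hp'
    have hr2 : (pwBit a e1 * pwBit b e2 * pwBit c e3) * (pwBit a e1 * pwBit b e2 * pwBit c e3) = 1 := by
      rw [mul_mul_mul_comm, mul_mul_mul_comm (pwBit a e1), hpwsq a e1 q1, hpwsq b e2 q2, hpwsq c e3 q3,
        one_mul, one_mul]
    have hz0 : ∃ d : ZMod 2, x ^ i.val = pwBit d z ∧ (d = 0 → i = 0) := by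
      have h2 : x ^ i.val * x ^ i.val = 1 := by
        rw [eq_inv_of_mul_eq_one_left hp', ← _root_.mul_inv_rev, hr2, inv_one]
      rcases (by decide : ∀ j : ZMod 4, j = 0 ∨ j = 1 ∨ j = 2 ∨ j = 3) i with rfl | rfl | rfl | rfl
      · exact ⟨0, by simp [pwBit], fun _ => rfl⟩
      · exact absurd (by rw [hz]; simpa [show (1 : ZMod 4).val = 1 from rfl] using h2) hx2
      · exact ⟨1, by simp [pwBit, hz, show (2 : ZMod 4).val = 2 from rfl, pow_two],
          fun h => absurd h (by decide)⟩
      · exfalso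
        rw [show (3 : ZMod 4).val = 2 + 1 from rfl, pow_succ, pow_two, mul_mul_mul_comm, hx4, one_mul] at h2
        exact hx2 h2
    obtain ⟨d, hd, hd0⟩ := hz0
    rw [hd] at hp'
    have hzz : z * z = 1 := hx4
    have hc0 : c = 0 := by
      by_contra hc1
      refine n3 (Finset.mem_image.2 ⟨(d, a, b), Finset.mem_univ _, ?_⟩)
      have e : pwBit c e3 = e3 := if_neg hc1
      rw [e, ← mul_assoc, ← mul_assoc] at hp'
      show pwBit d z * pwBit a e1 * pwBit b e2 = e3
      rw [eq_inv_of_mul_eq_one_left hp', inv_eq_of_mul_eq_one_right q3]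
    subst hc0
    rw [show pwBit (0 : ZMod 2) e3 = 1 from if_pos rfl, mul_one, ← mul_assoc] at hp'
    have hb0 : b = 0 := by
      by_contra hb1
      refine n2 (Finset.mem_image.2 ⟨(d, a), Finset.mem_univ _, ?_⟩)
      have e : pwBit b e2 = e2 := if_neg hb1
      rw [e] at hp'
      show pwBit d z * pwBit a e1 = e2
      rw [eq_inv_of_mul_eq_one_left hp', inv_eq_of_mul_eq_one_right q2]
    subst hb0
    rw [show pwBit (0 : ZMod 2) e2 = 1 from if_pos rfl, mul_one] at hp'
    have ha0 : a = 0 := by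
      by_contra ha1
      refine n1 (Finset.mem_image.2 ⟨d, Finset.mem_univ _, ?_⟩)
      have e : pwBit a e1 = e1 := if_neg ha1
      rw [e] at hp'
      rw [eq_inv_of_mul_eq_one_left hp', inv_eq_of_mul_eq_one_right q1]
    subst ha0
    rw [show pwBit (0 : ZMod 2) e1 = 1 from if_pos rfl, mul_one] at hp'
    have hd' : d = 0 := by
      by_contra hd1
      exact hx2 ((if_neg hd1 : pwBit d z = z).symm.trans hp')
    refine Prod.ext (toAdd_eq_zero.1 (hi.trans (hd0 hd'))) (funext fun j => toAdd_eq_zero.1 ?_)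
    fin_cases j
    · exact ha
    · exact hb
    · exact hc
  have hb := (Fintype.bijective_iff_injective_and_card ψ).2 ⟨hinj, by
    rw [← Nat.card_eq_fintype_card (α := G), hcard]; simp⟩
  exact ⟨(MulEquiv.ofBijective ψ hb).symm⟩

end Cfsg.Agent.Lie.ConstrainedLTwo
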