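import Cfsg.Agent.Lib.Lie.ConstrainedLTwo.Tools

/-!
# A core of order sixteen modulo a minimal normal subgroup
-/

set_option autoImplicit false
set_option linter.style.haveILetI false
set_option linter.unusedSectionVars false
set_option maxRecDepth 100000

open Subgroup Matrix
open scoped commutatorElement

namespace Cfsg.Agent.Lie.ConstrainedLTwo

universe u

variable {X : Type u} [Group X] [Finite X] {R : Subgroup X} [R.Normal]

/-- The possible cores. -/
def Concl {Y : Type u} [Group Y] (R : Subgroup Y) : Prop :=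
  ((∀ a ∈ R, a * a = 1) ∧ (Nat.card R = 8 ∨ Nat.card R = 16)) ∨
    (Nat.card R = 32 ∧ (∀ a ∈ R, ∀ b ∈ R, a * b = b * a) ∧
      ∃ z : Y, z ≠ 1 ∧ z * z = 1 ∧ (∀ a ∈ R, a * a = 1 ∨ a * a = z) ∧ ∃ x ∈ R, x * x = z)

theorem Concl.card_le {Y : Type u} [Group Y] {R : Subgroup Y} (h : Concl R) : Nat.card R ≤ 32 := by
  rcases h with ⟨-, e | e⟩ | ⟨e, -⟩ <;> omega

/-- A minimal normal subgroup below the core with the hypotheses of the induction. -/
structure Step (X : Type u) [Group X] [Finite X] (R : Subgroup X) [R.Normal] (W : Subgroup X) [W.Normal] :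
    Prop where
  top : Top X R
  le : W ≤ R
  ne : W ≠ ⊥
  min : ∀ N : Subgroup X, N.Normal → N ≤ W → N ≠ ⊥ → N = W
  cen : ∀ r ∈ R, ∀ w ∈ W, r * w = w * r
  el : ∀ w ∈ W, w * w = 1
  nsq : ∃ a ∈ R, a * a ≠ 1
  ind : ∀ N : Subgroup X, N.Normal → N ≤ R → N ≠ ⊥ →
    (∃ g : X, ∃ a ∈ R, g * a * g⁻¹ * a⁻¹ ∉ Sq R ⊔ N) → Nat.card R ≤ 32 * Nat.card N

theorem card_comap (W : Subgroup X) [W.Normal] (H : Subgroup (X ⧸ W)) :
    Nat.card (H.comap (QuotientGroup.mk' W)) = Nat.card H * Nat.card W := by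
  have h1 := (H.comap (QuotientGroup.mk' W)).card_mul_index
  rw [index_comap_of_surjective _ (QuotientGroup.mk'_surjective W)] at h1
  have h2 := H.card_mul_index
  have h3 := W.card_eq_card_quotient_mul_card_subgroup
  rw [h3, ← h2, mul_right_comm] at h1
  exact Nat.eq_of_mul_eq_mul_right (Nat.pos_of_ne_zero index_ne_zero_of_finite) h1

/-- A group of order sixteen on which the quotient acts has an invariant subgroup of order eight or two. -/
theorem split_four (T : Top X R) (W : Subgroup X) [W.Normal] (hWR : W ≤ R) (hsq : ∀ a ∈ R, a * a ∈ W)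
    (hcard : Nat.card R = 16 * Nat.card W) :
    (∃ R1 : Subgroup X, R1.Normal ∧ W ≤ R1 ∧ R1 ≤ R ∧ Nat.card R1 = 8 * Nat.card W) ∨
      ∃ C : Subgroup X, C.Normal ∧ W ≤ C ∧ C ≤ R ∧ Nat.card C = 2 * Nat.card W := by
  classical
  let π := QuotientGroup.mk' W
  have hback : (R.map π).comap π = R := by
    rw [comap_map_eq, QuotientGroup.ker_mk', sup_eq_left.2 hWR]
  have hV : Nat.card (R.map π) = 16 := by
    have h := card_comap W (R.map π)
    rw [hback, hcard] at h
    exact (Nat.eq_of_mul_eq_mul_right Nat.card_pos h).symm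
  haveI hVn : (R.map π).Normal := Normal.map inferInstance _ (QuotientGroup.mk'_surjective W)
  have hVsq : ∀ q ∈ R.map π, q * q = 1 := by
    rintro _ ⟨a, ha, rfl⟩
    rw [← map_mul]
    exact (QuotientGroup.eq_one_iff _).2 (hsq a ha)
  have hVc : ∀ p ∈ R.map π, ∀ q ∈ R.map π, p * q = q * p := fun p hp q hq => by
    calc p * q = (p * q)⁻¹ := (inv_eq_of_mul_eq_one_right (hVsq _ (mul_mem hp hq))).symm
      _ = q * p := by
        rw [_root_.mul_inv_rev, inv_eq_of_mul_eq_one_right (hVsq p hp), inv_eq_of_mul_eq_one_right (hVsq q hq)]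
  let α : Type u := {q : X ⧸ W // q ∈ R.map π ∧ q ≠ 1}
  letI : MulAction X α :=
    { smul := fun g q => ⟨π g * q.1 * (π g)⁻¹, hVn.conj_mem _ q.2.1 _, fun e => q.2.2 (conj_eq_one_iff.1 e)⟩
      one_smul := fun q => Subtype.ext (by show π 1 * q.1 * (π 1)⁻¹ = q.1; rw [map_one, inv_one, one_mul, mul_one])
      mul_smul := fun g g' q => Subtype.ext (by
        show π (g * g') * q.1 * (π (g * g'))⁻¹ = π g * (π g' * q.1 * (π g')⁻¹) * (π g)⁻¹
        rw [map_mul, _root_.mul_inv_rev]; group) }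
  haveI : Fintype α := Fintype.ofFinite _
  have hα : Nat.card α = 15 := by
    have h1 : Nat.card α = ((R.map π : Set (X ⧸ W)) \ {1}).ncard := by
      rw [← Nat.card_coe_set_eq]; rfl
    rw [h1, Set.ncard_diff_singleton_of_mem (R.map π).one_mem, ← Nat.card_coe_set_eq]
    exact (congrArg (fun n => n - 1) hV).trans rfl
  have hR : ∀ r ∈ R, ∀ q : α, r • q = q := fun r hr q => Subtype.ext (by
    show π r * q.1 * (π r)⁻¹ = q.1
    rw [hVc _ (mem_map_of_mem π hr) _ q.2.1, mul_inv_cancel_right])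
  by_cases hsmall : ∃ q : α, Nat.card (MulAction.orbit X q) < 7
  · right
    obtain ⟨q, hq⟩ := hsmall
    have hfix : ∀ g : X, π g * q.1 * (π g)⁻¹ = q.1 := fun g => congrArg Subtype.val (T.orbit_small hR q hq g)
    haveI : (zpowers q.1).Normal := ⟨fun n hn p => by
      obtain ⟨g, rfl⟩ := QuotientGroup.mk'_surjective W p
      obtain ⟨i, rfl⟩ := mem_zpowers_iff.1 hn
      rw [← conj_zpow, hfix g]
      exact zpow_mem (mem_zpowers _) i⟩
    refine ⟨(zpowers q.1).comap π, inferInstance, fun w hw => ?_, ?_, ?_⟩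
    · show π w ∈ zpowers q.1
      rw [show π w = 1 from (QuotientGroup.eq_one_iff w).2 hw]
      exact one_mem _
    · exact (comap_mono (zpowers_le.2 q.2.1)).trans hback.le
    · rw [card_comap, Nat.card_zpowers, orderOf_eq_prime (by rw [pow_two]; exact hVsq _ q.2.1) q.2.2]
  left
  push Not at hsmall
  -- orbit sizes divide 168
  have hdvd : ∀ q : α, Nat.card (MulAction.orbit X q) ∣ 168 := fun q => by
    rw [Nat.card_coe_set_eq, ← MulAction.index_stabilizer, ← T.card]
    exact index_dvd_of_le (fun r hr => hR r hr q)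
  -- an orbit of seven points
  have hex : ∃ q : α, Nat.card (MulAction.orbit X q) = 7 ∧ ∀ p p' : α, p ∉ MulAction.orbit X q →
      p' ∉ MulAction.orbit X q → ∃ g : X, g • p = p' := by
    haveI : Nonempty α := Finite.card_pos_iff.1 (by omega)
    let q0 : α := Classical.arbitrary α
    have hO := hdvd q0
    have h7 := hsmall q0
    have hle : Nat.card (MulAction.orbit X q0) ≤ 15 := hα ▸ Nat.card_le_card_of_injective _ Subtype.val_injective
    have hsum := Set.ncard_add_ncard_compl (MulAction.orbit X q0)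
    rw [← Nat.card_coe_set_eq, hα] at hsum
    have hcase : Nat.card (MulAction.orbit X q0) ≠ 15 := fun e => by rw [e] at hO; omega
    obtain ⟨p, hp⟩ : ((MulAction.orbit X q0)ᶜ).Nonempty := by
      rw [← Set.ncard_pos]; omega
    have hsub : MulAction.orbit X p ⊆ (MulAction.orbit X q0)ᶜ := fun x hx hx' => hp (by
      obtain ⟨g, rfl⟩ := hx
      have := MulAction.mem_orbit_of_mem_orbit g⁻¹ hx'
      rwa [inv_smul_smul] at this)
    have hp7 := hsmall p
    have hsub' := Set.ncard_le_ncard hsub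
    rw [← Nat.card_coe_set_eq] at hsub'
    have hpd := hdvd p
    have key : (Nat.card (MulAction.orbit X q0) = 7 ∧ Nat.card (MulAction.orbit X p) = 8) ∨
        (Nat.card (MulAction.orbit X q0) = 8 ∧ Nat.card (MulAction.orbit X p) = 7) := by
      generalize ha : Nat.card (MulAction.orbit X q0) = a at *
      generalize hb : Nat.card (MulAction.orbit X p) = b at *
      have h8 : a = 7 ∨ a = 8 := by omega
      have hb' : b = 7 ∨ b = 8 := by omega
      rcases h8 with rfl | rfl <;> rcases hb' with rfl | rfl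
      · exfalso
        -- one further point is left
        have hu : 0 < ((MulAction.orbit X q0)ᶜ \ MulAction.orbit X p).ncard := by
          have := Set.ncard_sdiff_add_ncard_of_subset hsub
          rw [← Nat.card_coe_set_eq (MulAction.orbit X p), hb] at this
          omega
        obtain ⟨r, hr1, hr2⟩ := Set.nonempty_of_ncard_ne_zero hu.ne'
        have hr7 := hsmall r
        have hsubr : MulAction.orbit X r ⊆ (MulAction.orbit X q0)ᶜ \ MulAction.orbit X p := fun x hx => by
          obtain ⟨g, rfl⟩ := hx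
          refine ⟨fun hx' => hr1 ?_, fun hx' => hr2 ?_⟩ <;>
          · have := MulAction.mem_orbit_of_mem_orbit g⁻¹ hx'
            rwa [inv_smul_smul] at this
        have h1 := Set.ncard_le_ncard hsubr
        have h2 := Set.ncard_sdiff_add_ncard_of_subset hsub
        rw [← Nat.card_coe_set_eq (MulAction.orbit X p), hb] at h2
        rw [← Nat.card_coe_set_eq (MulAction.orbit X r)] at h1
        omega
      · exact Or.inl ⟨rfl, rfl⟩
      · exact Or.inr ⟨rfl, rfl⟩
      · omega
    have hfill : (MulAction.orbit X q0)ᶜ = MulAction.orbit X p :=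
      (Set.eq_of_subset_of_ncard_le hsub (by rw [← Nat.card_coe_set_eq (MulAction.orbit X p)]; omega)).symm
    rcases key with ⟨h1, -⟩ | ⟨-, h2⟩
    · refine ⟨q0, h1, fun a b ha hb => ?_⟩
      have ha' : a ∈ MulAction.orbit X p := hfill ▸ ha
      have hb' : b ∈ MulAction.orbit X p := hfill ▸ hb
      obtain ⟨g, rfl⟩ := ha'
      obtain ⟨g', rfl⟩ := hb'
      exact ⟨g' * g⁻¹, by rw [← mul_smul, inv_mul_cancel_right]⟩
    · refine ⟨p, h2, fun a b ha hb => ?_⟩
      have hin : ∀ c, c ∉ MulAction.orbit X p → c ∈ MulAction.orbit X q0 := fun c hc => by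
        by_contra h; exact hc (hfill ▸ h)
      obtain ⟨g, rfl⟩ := hin a ha
      obtain ⟨g', rfl⟩ := hin b hb
      exact ⟨g' * g⁻¹, by rw [← mul_smul, inv_mul_cancel_right]⟩
  obtain ⟨q, hq7, htr⟩ := hex
  set O := MulAction.orbit X q with hO
  have hOcl : ∀ (g : X) (a : α), g • a ∈ O ↔ a ∈ O := fun g a => by
    refine ⟨fun h => ?_, fun h => MulAction.mem_orbit_of_mem_orbit g h⟩
    have := MulAction.mem_orbit_of_mem_orbit g⁻¹ h
    rwa [inv_smul_smul] at this
  -- no product of two points of the orbit leaves it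
  let Pr : Finset (α × α) := Finset.univ.filter fun p =>
    p.1 ∈ O ∧ ∃ b : α, b ∈ O ∧ p.2.1 = p.1.1 * b.1 ∧ p.2 ∉ O
  have hout : ∀ a b : α, a ∈ O → b ∈ O → ∀ c : α, c.1 = a.1 * b.1 → c ∈ O := by
    have hfib1 : ∀ a a' : α, a ∈ O → a' ∈ O →
        (Pr.filter fun p => p.1 = a).card ≤ (Pr.filter fun p => p.1 = a').card := by
      intro a a' ha ha'
      obtain ⟨g, hg⟩ := ha
      obtain ⟨g', hg'⟩ := ha'
      refine Finset.card_le_card_of_injOn (fun p => ((g' * g⁻¹) • p.1, (g' * g⁻¹) • p.2)) (fun p hp => ?_)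
        fun p _ p' _ h => Prod.ext (smul_left_cancel _ (congrArg Prod.fst h)) (smul_left_cancel _ (congrArg Prod.snd h))
      simp only [Finset.mem_coe, Finset.mem_filter, Pr, Finset.mem_univ, true_and] at hp ⊢
      obtain ⟨⟨h1, b, hb, hb', h2⟩, rfl⟩ := hp
      refine ⟨⟨(hOcl _ _).2 h1, (g' * g⁻¹) • b, (hOcl _ _).2 hb, ?_, fun h => h2 ((hOcl _ _).1 h)⟩, ?_⟩
      · show π (g' * g⁻¹) * p.2.1 * (π (g' * g⁻¹))⁻¹ = π (g' * g⁻¹) * p.1.1 * (π (g' * g⁻¹))⁻¹ *
          (π (g' * g⁻¹) * b.1 * (π (g' * g⁻¹))⁻¹)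
        rw [hb']; group
      · rw [← hg, ← hg', ← mul_smul, inv_mul_cancel_right]
    have hfib2 : ∀ c c' : α, c ∉ O → c' ∉ O →
        (Pr.filter fun p => p.2 = c).card ≤ (Pr.filter fun p => p.2 = c').card := by
      intro c c' hc hc'
      obtain ⟨g, rfl⟩ := htr c c' hc hc'
      refine Finset.card_le_card_of_injOn (fun p => (g • p.1, g • p.2)) (fun p hp => ?_)
        fun p _ p' _ h => Prod.ext (smul_left_cancel _ (congrArg Prod.fst h)) (smul_left_cancel _ (congrArg Prod.snd h))
      simp only [Finset.mem_coe, Finset.mem_filter, Pr, Finset.mem_univ, true_and] at hp ⊢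
      obtain ⟨⟨h1, b, hb, hb', h2⟩, rfl⟩ := hp
      refine ⟨⟨(hOcl _ _).2 h1, g • b, (hOcl _ _).2 hb, ?_, fun h => h2 ((hOcl _ _).1 h)⟩, rfl⟩
      show π g * p.2.1 * (π g)⁻¹ = π g * p.1.1 * (π g)⁻¹ * (π g * b.1 * (π g)⁻¹)
      rw [hb']; group
    let O7 : Finset α := Finset.univ.filter (· ∈ O)
    let O8 : Finset α := Finset.univ.filter (· ∉ O)
    have h7 : O7.card = 7 := by
      rw [← hq7, Nat.card_eq_fintype_card]
      exact (Fintype.card_subtype (fun x => x ∈ O)).symm.trans (Fintype.card_congr (Equiv.refl _))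
    have h8 : O8.card = 8 := by
      have h := Finset.card_filter_add_card_filter_not (s := (Finset.univ : Finset α)) (fun x => x ∈ O)
      rw [show (Finset.univ.filter fun x => x ∈ O).card = 7 from h7, Finset.card_univ, ← Nat.card_eq_fintype_card,
        hα] at h
      show (Finset.univ.filter fun x => ¬ x ∈ O).card = 8
      omega
    have hc0 : ∃ c : α, c ∉ O := by
      obtain ⟨c, hc⟩ := Finset.card_pos.1 (h8 ▸ (by norm_num : 0 < 8))
      exact ⟨c, (Finset.mem_filter.1 hc).2⟩
    obtain ⟨c0, hc0⟩ := hc0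
    have hqO : q ∈ O := MulAction.mem_orbit_self q
    set k := (Pr.filter fun p => p.1 = q).card with hk
    set m := (Pr.filter fun p => p.2 = c0).card with hm
    have e1 : Pr.card = 7 * k := by
      rw [Finset.card_eq_sum_card_fiberwise (f := Prod.fst) (t := O7) (fun p hp => by
          simp only [Finset.mem_coe, Finset.mem_filter, Pr, O7, Finset.mem_univ, true_and] at hp ⊢
          exact hp.1),
        Finset.sum_congr rfl (g := fun _ => k) fun a ha => by
          have ha' := (Finset.mem_filter.1 ha).2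
          exact le_antisymm (hfib1 a q ha' hqO) (hfib1 q a hqO ha'),
        Finset.sum_const, h7, smul_eq_mul]
    have e2 : Pr.card = 8 * m := by
      rw [Finset.card_eq_sum_card_fiberwise (f := Prod.snd) (t := O8) (fun p hp => by
          simp only [Finset.mem_coe, Finset.mem_filter, Pr, O8, Finset.mem_univ, true_and] at hp ⊢
          obtain ⟨-, b, -, -, h⟩ := hp
          exact h),
        Finset.sum_congr rfl (g := fun _ => m) fun a ha => by
          have ha' := (Finset.mem_filter.1 ha).2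
          exact le_antisymm (hfib2 a c0 ha' hc0) (hfib2 c0 a hc0 ha'),
        Finset.sum_const, h8, smul_eq_mul]
    have hk6 : k ≤ 7 := by
      rw [← h7]
      refine Finset.card_le_card_of_injOn (fun p => if h : ∃ b : α, b ∈ O ∧ p.2.1 = p.1.1 * b.1 then h.choose else q)
        (fun p hp => ?_) fun p hp p' hp' e => ?_
      · simp only [Finset.mem_coe, Finset.mem_filter, Pr, O7, Finset.mem_univ, true_and] at hp ⊢
        obtain ⟨⟨-, b, hb, hb', -⟩, -⟩ := hp
        rw [dif_pos ⟨b, hb, hb'⟩]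
        exact (Classical.choose_spec (⟨b, hb, hb'⟩ : ∃ b : α, b ∈ O ∧ p.2.1 = p.1.1 * b.1)).1
      · simp only [Finset.mem_coe, Finset.mem_filter, Pr, Finset.mem_univ, true_and] at hp hp'
        obtain ⟨⟨-, b, hb, hb', -⟩, ha⟩ := hp
        obtain ⟨⟨-, b', hbo', hb'', -⟩, ha'⟩ := hp'
        have x1 := (⟨b, hb, hb'⟩ : ∃ b : α, b ∈ O ∧ p.2.1 = p.1.1 * b.1)
        have x2 := (⟨b', hbo', hb''⟩ : ∃ b : α, b ∈ O ∧ p'.2.1 = p'.1.1 * b.1)
        simp only [dif_pos x1, dif_pos x2] at e
        refine Prod.ext (ha.trans ha'.symm) (Subtype.ext ?_)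
        rw [x1.choose_spec.2, x2.choose_spec.2, e]
        exact congrArg (fun a : α => a.1 * _) (ha.trans ha'.symm)
    intro a b ha hb c hc
    by_contra hcO
    have hmem : (a, c) ∈ Pr := by
      simp only [Pr, Finset.mem_filter, Finset.mem_univ, true_and]
      exact ⟨ha, b, hb, hc, hcO⟩
    have hpos := Finset.card_pos.2 ⟨_, hmem⟩
    have hk7 : k ≠ 8 := by omega
    have : k = 0 := by omega
    omega
  let H : Subgroup (X ⧸ W) :=
    { carrier := {p | p = 1 ∨ ∃ a : α, a ∈ O ∧ a.1 = p}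
      one_mem' := Or.inl rfl
      mul_mem' := by
        rintro a b (rfl | ⟨a, ha, rfl⟩) hb
        · rwa [one_mul]
        rcases hb with rfl | ⟨b, hb, rfl⟩
        · rw [mul_one]; exact Or.inr ⟨a, ha, rfl⟩
        by_cases h1 : a.1 * b.1 = 1
        · exact Or.inl h1
        · exact Or.inr ⟨⟨_, mul_mem a.2.1 b.2.1, h1⟩, hout a b ha hb _ rfl, rfl⟩
      inv_mem' := by
        rintro a (rfl | ⟨a, ha, rfl⟩)
        · exact Or.inl inv_one
        · exact Or.inr ⟨a, ha, (inv_eq_of_mul_eq_one_right (hVsq _ a.2.1)).symm⟩ }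
  haveI : H.Normal := ⟨fun p hp g => by
    obtain ⟨g, rfl⟩ := QuotientGroup.mk'_surjective W g
    rcases hp with rfl | ⟨a, ha, rfl⟩
    · exact Or.inl (by rw [mul_one, mul_inv_cancel])
    · exact Or.inr ⟨g • a, (hOcl g a).2 ha, rfl⟩⟩
  refine ⟨H.comap π, inferInstance, fun w hw => ?_, ?_, ?_⟩
  · show π w ∈ H
    rw [show π w = 1 from (QuotientGroup.eq_one_iff w).2 hw]
    exact one_mem _
  · refine (comap_mono ?_).trans hback.le
    rintro p (rfl | ⟨a, -, rfl⟩)
    · exact one_mem _
    · exact a.2.1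
  · rw [card_comap]
    congr 1
    let f : Option O → H := fun o => o.elim 1 fun a => ⟨a.1.1, Or.inr ⟨a.1, a.2, rfl⟩⟩
    have hf : Function.Bijective f := by
      refine ⟨fun o o' e => ?_, ?_⟩
      · rcases o with _ | a <;> rcases o' with _ | a'
        · rfl
        · exact absurd (congrArg Subtype.val e).symm a'.1.2.2
        · exact absurd (congrArg Subtype.val e) a.1.2.2
        · rw [show a = a' from Subtype.ext (Subtype.ext (by simpa [f] using congrArg Subtype.val e))]
      · rintro ⟨p, rfl | ⟨a, ha, rfl⟩⟩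
        · exact ⟨none, rfl⟩
        · exact ⟨some ⟨a, ha⟩, rfl⟩
    rw [← Nat.card_congr (Equiv.ofBijective f hf), Finite.card_option, hq7]

/-- A commutative core with squares in a central subgroup of order two. -/
theorem concl_small {W : Subgroup X} [W.Normal] (S : Step X R W) (hW2 : Nat.card W = 2)
    (hsq : ∀ a ∈ R, a * a ∈ W) (hcard : Nat.card R = 16 * Nat.card W)
    (hab : ∀ a ∈ R, ∀ b ∈ R, a * b = b * a) : Concl R := by
  right
  obtain ⟨a, ha, hne⟩ := S.nsq
  refine ⟨by rw [hcard, hW2], hab, a * a, hne, S.el _ (hsq a ha), fun b hb => ?_, a, ha, rfl⟩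
  by_contra h
  push Not at h
  have h3 := Nat.card_le_card_of_injective
    (fun i : Fin 3 => (![(⟨1, W.one_mem⟩ : W), ⟨a * a, hsq a ha⟩, ⟨b * b, hsq b hb⟩] i))
    (by
      intro i j e
      fin_cases i <;> fin_cases j <;> simp at e ⊢ <;>
        first
          | exact hne e | exact hne e.symm | exact h.1 e | exact h.1 e.symm | exact h.2 e | exact h.2 e.symm)
  rw [Nat.card_eq_fintype_card, Fintype.card_fin, hW2] at h3
  omega

end Cfsg.Agent.Lie.ConstrainedLTwo
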