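import Cfsg.Agent.Lib.Lie.ConstrainedLTwo.Cube

/-!
# Squares, minimal normal subgroups and maps between layers
-/

set_option autoImplicit false
set_option linter.style.haveILetI false
set_option linter.unusedSectionVars false

open Subgroup Matrix
open scoped commutatorElement

namespace Cfsg.Agent.Lie.ConstrainedLTwo

universe u

variable {X : Type u} [Group X] [Finite X]

/-- The subgroup generated by the squares. -/
def Sq (R : Subgroup X) : Subgroup X := closure ((fun a => a * a) '' (R : Set X))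

theorem mul_self_mem_sq {R : Subgroup X} {a : X} (ha : a ∈ R) : a * a ∈ Sq R := subset_closure ⟨a, ha, rfl⟩

theorem sq_le_iff {R H : Subgroup X} : Sq R ≤ H ↔ ∀ a ∈ R, a * a ∈ H := by
  rw [Sq, closure_le]
  exact ⟨fun h a ha => h ⟨a, ha, rfl⟩, fun h _ ⟨a, ha, e⟩ => e ▸ h a ha⟩

theorem sq_le (R : Subgroup X) : Sq R ≤ R := sq_le_iff.2 fun _ ha => mul_mem ha ha

theorem sq_normal (R : Subgroup X) [R.Normal] : (Sq R).Normal := by
  refine ⟨fun n hn g => ?_⟩
  have h : Sq R ≤ (Sq R).comap (MulAut.conj g).toMonoidHom := sq_le_iff.2 fun a ha => by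
    show g * (a * a) * g⁻¹ ∈ Sq R
    rw [show g * (a * a) * g⁻¹ = g * a * g⁻¹ * (g * a * g⁻¹) by group]
    exact mul_self_mem_sq (Normal.conj_mem inferInstance a ha g)
  exact h hn

theorem sq_map {Y : Type*} [Group Y] [Finite Y] (f : X →* Y) (R : Subgroup X) :
    Sq (R.map f) = (Sq R).map f := by
  rw [Sq, Sq, MonoidHom.map_closure]
  congr 1
  ext y
  simp only [Set.mem_image, SetLike.mem_coe, Subgroup.mem_map]
  constructor
  · rintro ⟨_, ⟨a, ha, rfl⟩, rfl⟩; exact ⟨a * a, ⟨a, ha, rfl⟩, map_mul f a a⟩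
  · rintro ⟨_, ⟨a, ha, rfl⟩, rfl⟩; exact ⟨f a, ⟨a, ha, rfl⟩, (map_mul f a a).symm⟩

variable {R : Subgroup X} [R.Normal]

/-- A group in which every square lies in a subgroup has its commutators there. -/
theorem comm_mem_of_sq {H K : Subgroup X} [K.Normal] (hsq : ∀ a ∈ H, a * a ∈ K) {a b : X} (ha : a ∈ H)
    (hb : b ∈ H) : ⁅a, b⁆ ∈ K := by
  rw [show ⁅a, b⁆ = a * b * (a * b) * (b⁻¹ * (a⁻¹ * a⁻¹) * b⁻¹⁻¹) * (b⁻¹ * b⁻¹) by
    rw [commutatorElement_def]; group]
  exact mul_mem (mul_mem (hsq _ (mul_mem ha hb))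
    (Normal.conj_mem inferInstance _ (hsq _ (inv_mem ha)) _)) (hsq _ (inv_mem hb))

/-- A nontrivial normal subgroup inside the core meets the centre of the core and is, if minimal, elementary
and centralised by the core. -/
theorem Top.minimal_props (T : Top X R) (W : Subgroup X) [hW : W.Normal] (hWR : W ≤ R) (hne : W ≠ ⊥)
    (hmin : ∀ N : Subgroup X, N.Normal → N ≤ W → N ≠ ⊥ → N = W) :
    (∀ r ∈ R, ∀ w ∈ W, r * w = w * r) ∧ ∀ w ∈ W, w * w = 1 := by
  haveI : Fact (Nat.Prime 2) := ⟨Nat.prime_two⟩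
  have hWp : IsPGroup 2 W := T.twoGroup.to_le hWR
  obtain ⟨k, hk⟩ := IsPGroup.iff_card.1 hWp
  have hk1 : 1 ≤ k := by
    by_contra h
    exact hne (Subgroup.eq_bot_of_card_eq W (by rw [hk, show k = 0 by omega, pow_zero]))
  have h2W : 2 ∣ Nat.card W := hk ▸ dvd_pow_self 2 (by omega)
  -- the centralised part
  have hfix : ∃ w ∈ W, w ≠ 1 ∧ ∀ r ∈ R, r * w = w * r := by
    let hom : R →* MulAut W := (MulAut.conjNormal : X →* MulAut W).comp R.subtype
    letI : MulAction R W := MulAction.compHom W hom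
    have hone : (1 : W) ∈ MulAction.fixedPoints R W := fun r => map_one (hom r)
    obtain ⟨w, hw, hw1⟩ :=
      T.twoGroup.exists_fixed_point_of_prime_dvd_card_of_fixed_point W h2W hone
    refine ⟨w, w.2, fun e => hw1 (Subtype.ext e.symm), fun r hr => ?_⟩
    have h1 : MulAut.conjNormal r w = w := hw ⟨r, hr⟩
    have h2 := congrArg Subtype.val h1
    rw [MulAut.conjNormal_apply] at h2
    exact mul_inv_eq_iff_eq_mul.1 h2
  have hcen : ∀ r ∈ R, ∀ w ∈ W, r * w = w * r := by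
    obtain ⟨w, hw, hw1, hwc⟩ := hfix
    have hN := hmin (W ⊓ centralizer (R : Set X)) inferInstance inf_le_left fun e => hw1 (by
      have : w ∈ W ⊓ centralizer (R : Set X) := ⟨hw, fun r hr => hwc r hr⟩
      rw [e] at this
      exact this)
    intro r hr w' hw'
    rw [← hN] at hw'
    exact hw'.2 r hr
  refine ⟨hcen, fun w hw => ?_⟩
  have hWc : ∀ a ∈ W, ∀ b ∈ W, a * b = b * a := fun a ha b hb => hcen a (hWR ha) b hb
  let N : Subgroup X :=
    { carrier := {w | w ∈ W ∧ w * w = 1}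
      one_mem' := ⟨W.one_mem, one_mul 1⟩
      mul_mem' := fun {a b} ha hb => ⟨mul_mem ha.1 hb.1, by
        rw [show a * b * (a * b) = a * (b * a) * b by group, hWc b hb.1 a ha.1,
          show a * (a * b) * b = a * a * (b * b) by group, ha.2, hb.2, one_mul]⟩
      inv_mem' := fun {a} ha => ⟨inv_mem ha.1, by rw [← _root_.mul_inv_rev, ha.2, inv_one]⟩ }
  haveI : Fintype W := Fintype.ofFinite _
  obtain ⟨u, hu⟩ := exists_prime_orderOf_dvd_card' (G := W) 2 h2W
  have hN := hmin N ⟨fun a ha g => ⟨Normal.conj_mem inferInstance a ha.1 g, by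
      rw [show g * a * g⁻¹ * (g * a * g⁻¹) = g * (a * a) * g⁻¹ by group, ha.2, mul_one, mul_inv_cancel]⟩⟩
    (fun a ha => ha.1) fun e => by
      have hmem : (u : X) ∈ N := ⟨u.2, by
        rw [← pow_two]
        have := congrArg Subtype.val (hu ▸ pow_orderOf_eq_one u : u ^ 2 = 1)
        simpa using this⟩
      rw [e, mem_bot] at hmem
      rw [show u = 1 from Subtype.ext hmem, orderOf_one] at hu
      omega
  rw [← hN] at hw
  exact hw.2

/-- A minimal normal subgroup has order two and is centralised, or has no nontrivial centralised element. -/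
theorem fixed_dichotomy (W : Subgroup X) [W.Normal] (hne : W ≠ ⊥) (hsq : ∀ w ∈ W, w * w = 1)
    (hmin : ∀ N : Subgroup X, N.Normal → N ≤ W → N ≠ ⊥ → N = W) :
    ((∀ x : X, ∀ w ∈ W, x * w * x⁻¹ = w) ∧ Nat.card W = 2) ∨
      ∀ w ∈ W, (∀ x : X, x * w * x⁻¹ = w) → w = 1 := by
  by_cases h : ∀ w ∈ W, (∀ x : X, x * w * x⁻¹ = w) → w = 1
  · exact Or.inr h
  push Not at h
  left
  obtain ⟨w, hw, hwx, hw1⟩ := h
  have hN := hmin (zpowers w) ⟨fun n hn g => by
      obtain ⟨i, rfl⟩ := mem_zpowers_iff.1 hn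
      rw [← conj_zpow, hwx g]; exact zpow_mem (mem_zpowers w) i⟩
    (zpowers_le.2 hw) (zpowers_ne_bot.2 hw1)
  refine ⟨fun x v hv => ?_, ?_⟩
  · rw [← hN] at hv
    obtain ⟨i, rfl⟩ := mem_zpowers_iff.1 hv
    rw [← conj_zpow, hwx x]
  · rw [← hN, Nat.card_zpowers]
    exact orderOf_eq_prime (by rw [pow_two, hsq w hw]) hw1

variable {R1 K : Subgroup X} [R1.Normal]

theorem Coord.perm_indep (C : Coord R R1 K) (x : X) {s t : F3} (h : Indep s t) :
    Indep (C.ρ x *ᵥ s) (C.ρ x *ᵥ t) := by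
  have hinv : ∀ w, C.ρ x⁻¹ *ᵥ (C.ρ x *ᵥ w) = w := fun w => by
    rw [mulVec_mulVec, ← map_mul, inv_mul_cancel, map_one, one_mulVec]
  exact ⟨fun e => h.1 (by rw [← hinv s, e, mulVec_zero]), fun e => h.2.1 (by rw [← hinv t, e, mulVec_zero]),
    fun e => h.2.2 (by rw [← hinv s, e, hinv])⟩

/-- An invariant additive map to centralised elements vanishes. -/
theorem Coord.fixed_map (C : Coord R R1 K) (φ : X → X) (hmul : ∀ a ∈ R1, ∀ b ∈ R1, φ (a * b) = φ a * φ b)
    (hK : ∀ k ∈ K, φ k = 1) (hinv : ∀ g : X, ∀ a ∈ R1, φ (g * a * g⁻¹) = φ a) : ∀ a ∈ R1, φ a = 1 := by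
  have hwd : ∀ a ∈ R1, ∀ b ∈ R1, C.v a = C.v b → φ a = φ b := by
    intro a ha b hb h
    rw [show a = a * b⁻¹ * b by group, hmul _ (C.le (C.rel ha hb h)) _ hb, hK _ (C.rel ha hb h), one_mul]
  have hconst : ∀ a ∈ R1, ∀ b ∈ R1, C.v a ≠ 0 → C.v b ≠ 0 → φ a = φ b := by
    intro a ha b hb ha0 hb0
    obtain ⟨g, hg, hga⟩ := exists_vec_mat _ ha0
    obtain ⟨g', hg', hgb⟩ := exists_vec_mat _ hb0
    obtain ⟨x, rfl⟩ := C.surj g hg
    obtain ⟨x', rfl⟩ := C.surj g' hg'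
    rw [← hinv (x' * x⁻¹) a ha]
    refine hwd _ (C.conj_mem _ ha) _ hb ?_
    rw [C.conj _ a ha, map_mul, ← hga, mulVec_mulVec, mul_assoc, ← map_mul, inv_mul_cancel, map_one, mul_one,
      hgb]
  obtain ⟨p, hp, hpv⟩ := C.lift e0
  obtain ⟨q, hq, hqv⟩ := C.lift ![0, 1, 0]
  have h1 : φ (p * q) = φ p * φ q := hmul p hp q hq
  rw [hconst _ (mul_mem hp hq) p hp (by rw [C.add p hp q hq, hpv, hqv]; decide) (by rw [hpv]; decide),
    hconst q hq p hp (by rw [hqv]; decide) (by rw [hpv]; decide)] at h1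
  have h2 : φ p = 1 := left_eq_mul.1 h1
  intro a ha
  by_cases h0 : C.v a = 0
  · exact hK a ((C.zero_iff a ha).1 h0)
  · rw [hconst a ha p hp h0 (by rw [hpv]; decide), h2]

/-- An equivariant map into the squares of a layer is trivial or the squaring map. -/
theorem Coord.sq_endo (C : Coord R R1 K) (W : Subgroup X) (φ : X → X)
    (hmem : ∀ a ∈ R1, φ a ∈ W) (hiso : ∀ w ∈ W, ∃ a ∈ R1, a * a = w) (hab : ∀ a ∈ R1, ∀ b ∈ R1, a * b = b * a)
    (hK2 : ∀ k ∈ K, k * k = 1) (hinj : ∀ a ∈ R1, a * a = 1 → a ∈ K)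
    (hmul : ∀ a ∈ R1, ∀ b ∈ R1, φ (a * b) = φ a * φ b) (hK : ∀ k ∈ K, φ k = 1)
    (heq : ∀ g : X, ∀ a ∈ R1, φ (g * a * g⁻¹) = g * φ a * g⁻¹) :
    (∀ a ∈ R1, φ a = 1) ∨ ∀ a ∈ R1, φ a = a * a := by
  classical
  choose l hl hlv using C.lift
  have hsq : ∀ a ∈ R1, ∀ b ∈ R1, (C.v a = C.v b ↔ a * a = b * b) := by
    intro a ha b hb
    have e : a * b⁻¹ * (a * b⁻¹) = a * a * (b * b)⁻¹ := by
      rw [show a * b⁻¹ * (a * b⁻¹) = a * (b⁻¹ * a) * b⁻¹ by group, hab _ (inv_mem hb) a ha]; group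
    constructor
    · intro h
      have := hK2 _ (C.rel ha hb h)
      rw [e] at this
      exact mul_inv_eq_one.1 this
    · intro h
      have h1 := (C.zero_iff _ (mul_mem ha (inv_mem hb))).2 (hinj _ (mul_mem ha (inv_mem hb))
        (by rw [e, h, mul_inv_cancel]))
      rw [C.add a ha _ (inv_mem hb), C.inv hb] at h1
      exact CharTwo.add_eq_zero.1 h1
  have hφv : ∀ a ∈ R1, ∀ b ∈ R1, C.v a = C.v b → φ a = φ b := by
    intro a ha b hb h
    rw [show a = a * b⁻¹ * b by group, hmul _ (C.le (C.rel ha hb h)) _ hb, hK _ (C.rel ha hb h), one_mul]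
  have hroot : ∀ t : F3, ∃ s : F3, l s * l s = φ (l t) := by
    intro t
    obtain ⟨a, ha, hae⟩ := hiso _ (hmem _ (hl t))
    exact ⟨C.v a, ((hsq _ (hl _) a ha).1 (hlv _)).trans hae⟩
  choose f hf using hroot
  have huniq : ∀ t s, l s * l s = φ (l t) → f t = s := fun t s h => by
    have := (hsq _ (hl (f t)) _ (hl s)).2 ((hf t).trans h.symm)
    rwa [hlv, hlv] at this
  have h0 : f 0 = 0 := huniq _ _ (by
    rw [hK _ ((C.zero_iff _ (hl 0)).1 (hlv 0)), hK2 _ ((C.zero_iff _ (hl 0)).1 (hlv 0))])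
  have hequiv : ∀ (x : X) (t : F3), f (C.ρ x *ᵥ t) = C.ρ x *ᵥ f t := by
    intro x t
    refine huniq _ _ ?_
    have e1 : φ (l (C.ρ x *ᵥ t)) = x * φ (l t) * x⁻¹ := by
      rw [← heq x _ (hl t)]
      exact hφv _ (hl _) _ (C.conj_mem x (hl t)) (by rw [hlv, C.conj x _ (hl t), hlv])
    rw [e1, ← hf t, show x * (l (f t) * l (f t)) * x⁻¹ = x * l (f t) * x⁻¹ * (x * l (f t) * x⁻¹) by group]
    exact (hsq _ (hl _) _ (C.conj_mem x (hl _))).1 (by rw [hlv, C.conj x _ (hl _), hlv])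
  rcases C.endo f h0 hequiv with h | h
  · left
    intro a ha
    rw [hφv a ha _ (hl (C.v a)) (hlv _).symm, ← hf, h, hK2 _ ((C.zero_iff _ (hl 0)).1 (hlv 0))]
  · right
    intro a ha
    rw [hφv a ha _ (hl (C.v a)) (hlv _).symm, ← hf, h]
    exact (hsq _ (hl _) a ha).1 (hlv _)

/-- The order of a minimal normal subgroup that is the image of the squares of a layer. -/
theorem Coord.card_image (C : Coord R R1 K) (W : Subgroup X) (hab : ∀ a ∈ R1, ∀ b ∈ R1, a * b = b * a)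
    (hK2 : ∀ k ∈ K, k * k = 1) (hsq : ∀ a ∈ R1, a * a ∈ W) (hiso : ∀ w ∈ W, ∃ a ∈ R1, a * a = w)
    (hinj : ∀ a ∈ R1, a * a = 1 → a ∈ K) : Nat.card W = 8 := by
  classical
  choose l hl hlv using C.lift
  let f : F3 → W := fun t => ⟨l t * l t, hsq _ (hl t)⟩
  have hf : Function.Bijective f := by
    refine ⟨fun s t h => ?_, fun w => ?_⟩
    · have h' : l s * l s = l t * l t := congrArg Subtype.val h
      have e : l s * (l t)⁻¹ * (l s * (l t)⁻¹) = l s * l s * (l t * l t)⁻¹ := by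
        rw [show l s * (l t)⁻¹ * (l s * (l t)⁻¹) = l s * ((l t)⁻¹ * l s) * (l t)⁻¹ by group,
          hab _ (inv_mem (hl t)) _ (hl s)]; group
      have h1 := (C.zero_iff _ (mul_mem (hl s) (inv_mem (hl t)))).2
        (hinj _ (mul_mem (hl s) (inv_mem (hl t))) (by rw [e, h', mul_inv_cancel]))
      rw [C.add _ (hl s) _ (inv_mem (hl t)), C.inv (hl t), hlv, hlv] at h1
      exact CharTwo.add_eq_zero.1 h1
    · obtain ⟨a, ha, hae⟩ := hiso w w.2
      refine ⟨C.v a, Subtype.ext ?_⟩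
      show l (C.v a) * l (C.v a) = (w : X)
      rw [← hae]
      have hk := C.rel (hl (C.v a)) ha (hlv _)
      generalize hn : l (C.v a) * a⁻¹ = n at hk
      rw [show l (C.v a) = n * a by rw [← hn]; group, show n * a * (n * a) = n * (a * n) * a by group,
        hab a ha n (C.le hk), show n * (n * a) * a = n * n * (a * a) by group, hK2 n hk, one_mul]
  rw [← Nat.card_congr (Equiv.ofBijective f hf), Nat.card_eq_fintype_card]
  decide +kernel

/-- Coordinates modulo four on a layer with squares onto a minimal normal subgroup. -/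
theorem Coord.cube_frame {W : Subgroup X} (C : Coord R R1 W) (hab : ∀ a ∈ R1, ∀ b ∈ R1, a * b = b * a)
    (hWsq : ∀ w ∈ W, w * w = 1) (hsq : ∀ a ∈ R1, a * a ∈ W) (hiso : ∀ w ∈ W, ∃ a ∈ R1, a * a = w)
    (hinj : ∀ a ∈ R1, a * a = 1 → a ∈ W) (hcard : Nat.card R1 = 8 * Nat.card W) :
    ∃ F : Frame R1 3 C.v, ∀ x, (F.M x).map redHom = C.ρ x := by
  have hW8 := C.card_image W hab hWsq hsq hiso hinj
  obtain ⟨F⟩ := exists_frame R1 C.v hab
    (fun a ha => by
      rw [show (4 : ℕ) = 2 * 2 from rfl, pow_mul, pow_two a, pow_two]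
      exact hWsq _ (hsq a ha))
    C.add C.lift (fun a ha h => (C.zero_iff a ha).2 (hinj a ha h)) (by rw [hcard, hW8]; norm_num)
  refine ⟨F, fun x => Matrix.ext_of_mulVec_single fun i => ?_⟩
  obtain ⟨a, ha, hav⟩ := C.lift (Pi.single i 1)
  rw [← hav, ← C.conj x a ha]
  conv_lhs => rw [← F.red a ha, ← red_map_mulVec, ← F.conj x a ha]
  exact F.red _ (C.conj_mem x ha)

end Cfsg.Agent.Lie.ConstrainedLTwo
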